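import Cfsg.Agent.Lib.M12Sylow18.Centre

/-!
# The automorphisms induced on `Q` and the structure of `C(z)`
-/

set_option autoImplicit false
set_option linter.style.haveILetI false
set_option linter.unusedSectionVars false

namespace Cfsg.Agent.Lib.M12Sylow18

open Cfsg.Agent.Lib.M12Sylow18.Mod
open Subgroup
open scoped Pointwise

variable {G : Type*} [Group G] [Finite G]

theorem chk_tuple : allB 32 (fun i => Nat.blt (i / 8) 4) = true := by decide +kernel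

theorem pi_odd_mem {X : Type*} [Group X] [Finite X] (A O : Subgroup X) [O.Normal]
    (hA : IsPGroup 2 A) {x : X} (hx : x ∈ A ⊔ O) (hodd : Odd (orderOf x)) : x ∈ O := by
  obtain ⟨a, ha, o, ho, rfl⟩ := exists_mul_of_sup hx
  have e : QuotientGroup.mk' O (a * o) = QuotientGroup.mk' O a := by
    rw [map_mul, show QuotientGroup.mk' O o = 1 from (QuotientGroup.eq_one_iff _).2 ho, mul_one]
  obtain ⟨k, hk⟩ := hA ⟨a, ha⟩
  have h1 : orderOf (QuotientGroup.mk' O a) ∣ 2 ^ k := orderOf_dvd_of_pow_eq_one (by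
    rw [← map_pow, show a ^ (2 ^ k) = 1 from congrArg Subtype.val hk, map_one])
  have h2 : orderOf (QuotientGroup.mk' O a) ∣ orderOf (a * o) := e ▸ orderOf_map_dvd _ _
  have h3 : orderOf (QuotientGroup.mk' O a) = 1 :=
    Nat.eq_one_of_dvd_coprimes
      (Nat.Coprime.pow_left k (Nat.prime_two.coprime_iff_not_dvd.2 hodd.not_two_dvd_nat)) h1 h2
  exact (QuotientGroup.eq_one_iff _).1 (e.trans (orderOf_eq_one_iff.1 h3))

namespace Std

variable {P : Sylow 2 G} (S : Std P)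

/-- `Q` in the centraliser. -/
abbrev QC : Subgroup S.C := S.Q.subgroupOf S.C

/-- The core of the centraliser. -/
abbrev O : Subgroup S.C := Cfsg.pPrimeCore 2 S.C

/-- The normaliser of `Q` in the centraliser. -/
abbrev H : Subgroup S.C := normalizer (S.QC : Set S.C)

/-- The centraliser of `Q` in the centraliser. -/
abbrev Kc : Subgroup S.C := centralizer (S.QC : Set S.C)

theorem QC_two : IsPGroup 2 S.QC := (P.2.to_le S.Q_le).comap_subtype

theorem QC_disj {x : S.C} (h1 : x ∈ S.QC) (h2 : x ∈ S.O) : x = 1 := by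
  obtain ⟨r, hr⟩ := IsPGroup.iff_card.1 S.QC_two
  exact Subgroup.disjoint_def.1 (Subgroup.disjoint_of_coprime_natCard (H := S.QC) (K := S.O)
    (by rw [hr]; exact Nat.Coprime.pow_left _ (Cores.pPrimeCore_coprime 2).symm)) h1 h2

/-- The Frattini argument. -/
theorem frattini (g : S.C) : ∃ o ∈ S.O, o * g ∈ S.H := by
  haveI : S.O.Normal := Cfsg.pPrimeCore_normal 2 S.C
  obtain ⟨o, ho, h⟩ := exists_conj_into S.QC S.O S.QC_two (Cores.pPrimeCore_coprime 2)
    (S.QC.map (MulAut.conj g).toMonoidHom) (S.QC_two.map _) (by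
      rintro _ ⟨q, hq, rfl⟩; exact S.Q_sup_core g q hq)
  refine ⟨o, ho, mem_normalizer_of_le fun q hq => ?_⟩
  have := h _ ⟨q, hq, rfl⟩
  simp only [MulEquiv.coe_toMonoidHom, MulAut.conj_apply] at this
  rwa [show o * g * q * (o * g)⁻¹ = o * (g * q * g⁻¹) * o⁻¹ by group]

theorem core_inf_le : S.O ⊓ S.H ≤ S.Kc := by
  rintro o ⟨ho, hn⟩
  rw [Subgroup.mem_centralizer_iff]
  intro q hq
  have h1 : o * q * o⁻¹ * q⁻¹ ∈ S.QC :=
    S.QC.mul_mem ((Subgroup.mem_normalizer_iff.1 hn q).1 hq) (S.QC.inv_mem hq)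
  have h2 : o * q * o⁻¹ * q⁻¹ ∈ S.O := by
    rw [show o * q * o⁻¹ * q⁻¹ = o * (q * o⁻¹ * q⁻¹) by group]
    exact mul_mem ho ((Cfsg.pPrimeCore_normal 2 S.C).conj_mem _ (inv_mem ho) q)
  exact (mul_inv_eq_iff_eq_mul.1 (mul_inv_eq_one.1 (S.QC_disj h1 h2))).symm

theorem Pc_le_H : (P : Subgroup G).subgroupOf S.C ≤ S.H := fun g hg =>
  mem_normalizer_of_le fun _ hq => Subgroup.mem_subgroupOf.2
    (S.P_normalises_Q (Subgroup.mem_subgroupOf.1 hg) (Subgroup.mem_subgroupOf.1 hq))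

theorem Kc_le_H : S.Kc ≤ S.H := fun k hk => mem_normalizer_of_le fun q hq => by
  rw [← (Subgroup.mem_centralizer_iff.1 hk q hq), mul_inv_cancel_right]; exact hq

theorem Kc_conj {h k : S.C} (hh : h ∈ S.H) (hk : k ∈ S.Kc) : h * k * h⁻¹ ∈ S.Kc := by
  rw [Subgroup.mem_centralizer_iff]
  intro q hq
  have h1 : h⁻¹ * q * h ∈ S.QC := by
    simpa using (Subgroup.mem_normalizer_iff.1 (S.H.inv_mem hh) q).1 hq
  have h2 := Subgroup.mem_centralizer_iff.1 hk _ h1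
  calc q * (h * k * h⁻¹) = h * ((h⁻¹ * q * h) * k) * h⁻¹ := by group
    _ = h * (k * (h⁻¹ * q * h)) * h⁻¹ := by rw [h2]
    _ = _ := by group

instance kc_normal : (S.Kc.subgroupOf S.H).Normal :=
  ⟨fun _ hk h => Subgroup.mem_subgroupOf.2 (S.Kc_conj h.2 (Subgroup.mem_subgroupOf.1 hk))⟩

theorem mem_Kc_P {x : ℕ} (hx : x < 64) {k : S.C} (hk : k ∈ S.Kc) (he : S.co.e x = k) :
    x = 0 ∨ x = 16 := by
  have h := allB_spec chk_cent x hx
  simp only [Bool.and_eq_true, Bool.or_eq_true, Bool.not_eq_true'] at h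
  rcases h.1.1 with h1 | h1
  · exfalso
    have key : ∀ {n : ℕ} {f : ℕ → Bool}, (∀ i < n, f i = true) → allB n f = true := by
      intro n f hf
      induction n with
      | zero => rfl
      | succ n ih =>
        simp only [allB, Bool.and_eq_true]
        exact ⟨hf n (Nat.lt_succ_self n), ih fun i hi => hf i (Nat.lt_succ_of_lt hi)⟩
    rw [key fun q hq => ?_] at h1
    · exact Bool.noConfusion h1
    by_cases hqq : qf q = true
    · have h2 := Subgroup.mem_centralizer_iff.1 hk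
        (⟨S.co.e q, S.Q_le_C ((S.mem_Q hq).2 hqq)⟩ : S.C) ((S.mem_Q hq).2 hqq)
      have h3 := congrArg Subtype.val h2
      simp only [Subgroup.coe_mul, ← he] at h3
      rw [(S.co.commute_iff hx hq).1 h3.symm]
      simp
    · simp [hqq]
  · have hz := allB_spec chk_w x hx
    simp only [h1, Bool.and_eq_true, Bool.or_eq_true, Bool.not_true, Bool.false_eq_true,
      false_or, Nat.beq_eq] at hz
    exact hz.2

/-- The tuple of images of the generators. -/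
def Acts (g : G) (t : List ℕ) : Prop :=
  t ∈ tuples ∧ ∀ x < 64, qf x = true →
    qf (imgC t x) = true ∧ imgC t x < 64 ∧ g * S.co.e x * g⁻¹ = S.co.e (imgC t x)

theorem e_wd {a b c d : ℕ} (ha : a < 64) (hb : b < 64) (hc : c < 64) (hd : d < 64) (i : ℕ) :
    S.co.e (wd a b c d i) = S.co.e a ^ (i / 8) * S.co.e b ^ (i / 4 % 2) * S.co.e c ^ (i / 2 % 2) *
      S.co.e d ^ (i % 2) := by
  have hp : ∀ x < 64, ∀ n, pw x n < 64 ∧ S.co.e (pw x n) = S.co.e x ^ n := by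
    intro x hx n
    induction n with
    | zero => exact ⟨by simp [pw], by simp [pw, S.co.e_zero]⟩
    | succ n ih => exact ⟨tm_lt _ _ _, by rw [pw, S.co.e_mul _ ih.1 x hx, ih.2, pow_succ]⟩
  rw [wd, S.co.e_mul _ (tm_lt _ _ _) _ (hp d hd _).1, S.co.e_mul _ (tm_lt _ _ _) _ (hp c hc _).1,
    S.co.e_mul _ (hp a ha _).1 _ (hp b hb _).1, (hp a ha _).2, (hp b hb _).2, (hp c hc _).2,
    (hp d hd _).2]

theorem exists_acts {g : G} (hgz : g * S.co.e 16 = S.co.e 16 * g)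
    (hgQ : ∀ q ∈ S.Q, g * q * g⁻¹ ∈ S.Q) : ∃ t, S.Acts g t := by
  have hm := chk_misc
  simp only [Bool.and_eq_true] at hm
  obtain ⟨⟨⟨⟨⟨⟨⟨-, h8⟩, h7⟩, h9⟩, h39⟩, -⟩, -⟩, -⟩ := hm
  obtain ⟨a, ha, haq, hae⟩ := hgQ _ ((S.mem_Q (by omega)).2 h8)
  obtain ⟨b, hb, hbq, hbe⟩ := hgQ _ ((S.mem_Q (by omega)).2 h7)
  obtain ⟨c, hc, hcq, hce⟩ := hgQ _ ((S.mem_Q (by omega)).2 h9)
  obtain ⟨d, hd, hdq, hde⟩ := hgQ _ ((S.mem_Q (by omega)).2 h39)
  have hwd : ∀ x < 64, qf x = true → g * S.co.e x * g⁻¹ = S.co.e (imgC [a, b, c, d] x) := by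
    intro x hx hxq
    have h := allB_spec chk_words x hx
    simp only [hxq, Bool.not_true, Bool.false_or, Bool.and_eq_true, Nat.beq_eq] at h
    conv_lhs => rw [← h.1]
    show _ = S.co.e (wd a b c d (findW 32 x))
    rw [S.e_wd (by omega) (by omega) (by omega) (by omega), S.e_wd ha hb hc hd, hae, hbe, hce, hde,
      conj_pow, conj_pow, conj_pow, conj_pow]
    group
  have gen := chk_gens
  simp only [Bool.and_eq_true, Bool.not_eq_true', Nat.beq_eq] at gen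
  obtain ⟨⟨⟨⟨⟨⟨⟨⟨⟨⟨hw8, hw7⟩, hw9⟩, hw39⟩, hc87⟩, hc939⟩, hs8⟩, hs7⟩, hs9⟩, hs39⟩, -⟩ := gen
  have sqi : ∀ {x y : ℕ}, x < 64 → y < 64 → S.co.e y = g * S.co.e x * g⁻¹ → tm 0 x x = 16 →
      tm 0 y y = 16 := by
    intro x y hx hy e h
    refine S.co.e_inj _ (tm_lt _ _ _) 16 (by omega) ?_
    rw [← S.co.sq_eq hy, e]
    calc g * S.co.e x * g⁻¹ * (g * S.co.e x * g⁻¹) = g * (S.co.e x * S.co.e x) * g⁻¹ := by group
      _ = g * S.co.e 16 * g⁻¹ := by rw [S.co.sq_eq hx, h]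
      _ = _ := conj_fix hgz
  have hnc : ∀ {x y x' y' : ℕ}, x < 64 → y < 64 → x' < 64 → y' < 64 →
      S.co.e x' = g * S.co.e x * g⁻¹ → S.co.e y' = g * S.co.e y * g⁻¹ → com 0 x y = false →
      com 0 x' y' = false := by
    intro x y x' y' hx hy hx' hy' ex ey h
    refine Bool.eq_false_iff.2 fun hc => ?_
    have h1 := (S.co.commute_iff hx' hy').2 hc
    rw [ex, ey] at h1
    have h2 : S.co.e x * S.co.e y = S.co.e y * S.co.e x := by
      refine mul_left_cancel (a := g) (mul_right_cancel (b := g⁻¹) ?_)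
      calc g * (S.co.e x * S.co.e y) * g⁻¹ = g * S.co.e x * g⁻¹ * (g * S.co.e y * g⁻¹) := by group
        _ = g * S.co.e y * g⁻¹ * (g * S.co.e x * g⁻¹) := h1
        _ = _ := by group
    rw [(S.co.commute_iff hx hy).1 h2] at h
    exact Bool.noConfusion h
  have inW1 : ∀ {x y : ℕ}, x < 64 → y < 64 → S.co.e y = g * S.co.e x * g⁻¹ → w1 x = true →
      w1 y = true := by
    intro x y hx hy e h
    rw [← S.mem_W1 hy, e]
    exact S.W1_stable hgz hgQ _ ((S.mem_W1 hx).2 h)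
  have inW2 : ∀ {x y : ℕ}, x < 64 → y < 64 → S.co.e y = g * S.co.e x * g⁻¹ → w2 x = true →
      w2 y = true := by
    intro x y hx hy e h
    rw [← S.mem_W2 hy, e]
    exact S.W2_stable hgz hgQ _ ((S.mem_W2 hx).2 h)
  have hok : okT a b c d = true := by
    have zt : ∀ {x y : ℕ}, x < 64 → y < 64 → S.co.e y = g * S.co.e x * g⁻¹ →
        inL zset y = inL zset x := by
      intro x y hx hy e
      rw [Bool.eq_iff_iff, inL_iff, inL_iff]
      exact (S.zset_conj hx hy e.symm).symm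
    have pr : ∀ {x y x' y' : ℕ}, x < 64 → y < 64 → x' < 64 → y' < 64 →
        S.co.e x' = g * S.co.e x * g⁻¹ → S.co.e y' = g * S.co.e y * g⁻¹ →
        S.co.e (tm 0 x' y') = g * S.co.e (tm 0 x y) * g⁻¹ := by
      intro x y x' y' hx hy hx' hy' ex ey
      rw [S.co.e_mul x' hx' y' hy', S.co.e_mul x hx y hy, ex, ey]
      group
    have eab := pr (x := 8) (y := 7) (by omega) (by omega) ha hb hae hbe
    have ecd := pr (x := 9) (y := 39) (by omega) (by omega) hc hd hce hde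
    simp only [okT, Bool.and_eq_true, Bool.not_eq_true', Nat.beq_eq, beq_iff_eq]
    refine ⟨⟨⟨⟨⟨⟨⟨⟨⟨⟨⟨⟨⟨⟨⟨⟨⟨⟨?_, ?_⟩, ?_⟩, ?_⟩, ?_⟩, ?_⟩, ?_⟩, ?_⟩, ?_⟩, ?_⟩, ?_⟩, ?_⟩, ?_⟩,
      ?_⟩, ?_⟩, ?_⟩, ?_⟩, ?_⟩, ?_⟩
    exacts [inW1 (by omega) ha hae hw8, inW1 (by omega) hb hbe hw7, inW2 (by omega) hc hce hw9,
      inW2 (by omega) hd hde hw39, sqi (by omega) ha hae hs8, sqi (by omega) hb hbe hs7,
      sqi (by omega) hc hce hs9, sqi (by omega) hd hde hs39,
      hnc (by omega) (by omega) ha hb hae hbe hc87, hnc (by omega) (by omega) hc hd hce hde hc939,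
      zt (tm_lt _ _ _) (tm_lt _ _ _) (pr (by omega) (by omega) ha hc hae hce),
      zt (tm_lt _ _ _) (tm_lt _ _ _) (pr (by omega) (by omega) ha hd hae hde),
      zt (tm_lt _ _ _) (tm_lt _ _ _) (pr (by omega) (by omega) hb hc hbe hce),
      zt (tm_lt _ _ _) (tm_lt _ _ _) (pr (by omega) (by omega) hb hd hbe hde),
      zt (tm_lt _ _ _) (tm_lt _ _ _) (pr (tm_lt _ _ _) (by omega) (tm_lt _ _ _) hc eab hce),
      zt (tm_lt _ _ _) (tm_lt _ _ _) (pr (tm_lt _ _ _) (by omega) (tm_lt _ _ _) hd eab hde),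
      zt (tm_lt _ _ _) (tm_lt _ _ _) (pr (by omega) (tm_lt _ _ _) ha (tm_lt _ _ _) hae ecd),
      zt (tm_lt _ _ _) (tm_lt _ _ _) (pr (by omega) (tm_lt _ _ _) hb (tm_lt _ _ _) hbe ecd),
      zt (tm_lt _ _ _) (tm_lt _ _ _) (pr (tm_lt _ _ _) (tm_lt _ _ _) (tm_lt _ _ _) (tm_lt _ _ _) eab ecd)]
  refine ⟨[a, b, c, d], ?_, fun x hx hxq => ⟨?_, tm_lt _ _ _, hwd x hx hxq⟩⟩
  · simp only [tuples, List.mem_filter, List.mem_flatMap, List.mem_map]
    refine ⟨?_, by simpa using hok⟩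
    have hr : ∀ x < 64, (w1 x = true → tm 0 x x = 16 → x ∈ r1) ∧ (w2 x = true → tm 0 x x = 16 → x ∈ r2) := by
      intro x hx
      have h := allB_spec chk_roots_w x hx
      simp only [Bool.and_eq_true, Bool.or_eq_true, Bool.not_eq_true', Bool.and_eq_false_iff,
        inL_iff] at h
      refine ⟨fun h1 h2 => h.1.resolve_left ?_, fun h1 h2 => h.2.resolve_left ?_⟩ <;>
        rw [h1, h2] <;> simp
    exact ⟨a, (hr a ha).1 (inW1 (by omega) ha hae hw8) (sqi (by omega) ha hae hs8),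
      b, (hr b hb).1 (inW1 (by omega) hb hbe hw7) (sqi (by omega) hb hbe hs7),
      c, (hr c hc).2 (inW2 (by omega) hc hce hw9) (sqi (by omega) hc hce hs9),
      d, (hr d hd).2 (inW2 (by omega) hd hde hw39) (sqi (by omega) hd hde hs39), rfl⟩
  · exact (S.mem_Q (tm_lt _ _ _)).1 (hwd x hx hxq ▸ hgQ _ ((S.mem_Q hx).2 hxq))

theorem acts_of_H {h : S.C} (hh : h ∈ S.H) : ∃ t, S.Acts (h : G) t :=
  S.exists_acts (mem_centralizer_singleton_iff.1 h.2) fun q hq =>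
    Subgroup.mem_subgroupOf.1 ((Subgroup.mem_normalizer_iff.1 hh ⟨q, S.Q_le_C hq⟩).1 hq)

theorem Kc_of_acts_eq {h h' : S.C} {t : List ℕ} (a : S.Acts (h : G) t) (a' : S.Acts (h' : G) t) :
    h⁻¹ * h' ∈ S.Kc := by
  rw [Subgroup.mem_centralizer_iff]
  rintro q hq
  obtain ⟨x, hx, hxq, hxe⟩ := (Subgroup.mem_subgroupOf.1 hq : (q : G) ∈ S.Q)
  refine Subtype.ext ?_
  have e1 := (a.2 x hx hxq).2.2
  have e2 := (a'.2 x hx hxq).2.2
  rw [← e1, hxe] at e2
  simp only [Subgroup.coe_mul, Subgroup.coe_inv]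
  calc (q : G) * ((h : G)⁻¹ * h') = (h : G)⁻¹ * ((h : G) * q * (h : G)⁻¹) * h' := by group
    _ = (h : G)⁻¹ * ((h' : G) * q * (h' : G)⁻¹) * h' := by rw [e2]
    _ = _ := by group

include S in
theorem card_P : Nat.card (P : Subgroup G) = 64 := by
  rw [← Nat.card_fin 64]
  refine (Nat.card_eq_of_bijective (fun x : Fin 64 => (⟨S.co.e x, S.co.mem x.2⟩ : (P : Subgroup G)))
    ⟨fun x y h => Fin.ext (S.co.e_inj x x.2 y y.2 (congrArg Subtype.val h)), ?_⟩).symm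
  rintro ⟨g, hg⟩
  obtain ⟨x, hx, rfl⟩ := (S.co.mem_iff g).1 hg
  exact ⟨⟨x, hx⟩, rfl⟩

theorem not_dvd_C : ¬ 128 ∣ Nat.card S.C := fun h => by
  haveI : Fact (Nat.Prime 2) := ⟨Nat.prime_two⟩
  refine P.not_dvd_index ?_
  have h1 := (P : Subgroup G).card_mul_index
  rw [S.card_P] at h1
  have h2 : 128 ∣ Nat.card G := h.trans (Subgroup.card_subgroup_dvd_card _)
  rw [← h1, show 128 = 64 * 2 from rfl] at h2
  exact Nat.dvd_of_mul_dvd_mul_left (by norm_num) h2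

/-- The index of the centraliser of `Q` in its normaliser. -/
theorem index_facts : (S.Kc.subgroupOf S.H).index ∣ 96 ∧ 32 ∣ (S.Kc.subgroupOf S.H).index ∧
    ¬ 4 ∣ Nat.card S.Kc := by
  classical
  haveI : Fact (Nat.Prime 2) := ⟨Nat.prime_two⟩
  set K := S.Kc.subgroupOf S.H with hK
  have h96 : K.index ≤ 96 := by
    let f : S.H ⧸ K → {t // t ∈ tuples} := fun c =>
      ⟨Classical.choose (S.acts_of_H c.out.2), (Classical.choose_spec (S.acts_of_H c.out.2)).1⟩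
    have hf : Function.Injective f := by
      intro c c' e
      rw [← c.out_eq, ← c'.out_eq, QuotientGroup.eq]
      refine Subgroup.mem_subgroupOf.2 (S.Kc_of_acts_eq (Classical.choose_spec (S.acts_of_H c.out.2)) ?_)
      rw [show Classical.choose (S.acts_of_H c.out.2) = Classical.choose (S.acts_of_H c'.out.2) from
        congrArg Subtype.val e]
      exact Classical.choose_spec (S.acts_of_H c'.out.2)
    refine (Nat.card_le_card_of_injective f hf).trans ?_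
    rw [Nat.card_congr (Equiv.subtypeEquivRight (fun x => (List.mem_toFinset).symm)),
      Nat.card_eq_fintype_card, Fintype.card_coe]
    exact (List.toFinset_card_le _).trans chk_tuples.le
  set Pc := (P : Subgroup G).subgroupOf S.C with hPc
  have hPc64 : Nat.card Pc = 64 := by
    rw [hPc, Nat.card_congr (Subgroup.subgroupOfEquivOfLe S.P_le_C).toEquiv, S.card_P]
  have hinf : Nat.card (S.Kc ⊓ Pc : Subgroup S.C) ≤ 2 := by
    rw [← S.zC_order, ← Nat.card_zpowers]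
    refine Subgroup.card_le_of_le fun k hk => ?_
    obtain ⟨hk, hkP⟩ := hk
    obtain ⟨x, hx, he⟩ := (S.co.mem_iff _).1 (Subgroup.mem_subgroupOf.1 hkP : (k : G) ∈ (P : Subgroup G))
    rw [S.mem_Zs, ← he]
    rcases S.mem_Kc_P hx hk he with rfl | rfl
    · exact Or.inl S.co.e_zero
    · exact Or.inr rfl
  have h32 : 32 ∣ K.index := by
    have h1 : (S.Kc.subgroupOf S.H).relIndex (Pc.subgroupOf S.H) ∣ K.index :=
      Subgroup.relIndex_dvd_index_of_normal _ _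
    refine dvd_trans ?_ h1
    rw [Subgroup.relIndex_subgroupOf S.Pc_le_H]
    have h2 := Subgroup.relIndex_mul_relIndex (⊥ : Subgroup S.C) (S.Kc ⊓ Pc) Pc bot_le inf_le_right
    rw [Subgroup.relIndex_bot_left, Subgroup.relIndex_bot_left, hPc64, Subgroup.inf_relIndex_right] at h2
    have hpos : 0 < Nat.card (S.Kc ⊓ Pc : Subgroup S.C) := Nat.card_pos
    rcases (show Nat.card (S.Kc ⊓ Pc : Subgroup S.C) = 1 ∨ Nat.card (S.Kc ⊓ Pc : Subgroup S.C) = 2 by
      omega) with e | e <;> rw [e] at h2 <;> rw [← hPc] <;> omega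
  have hmul : K.index * Nat.card S.Kc = Nat.card S.H := by
    rw [← Nat.card_congr (Subgroup.subgroupOfEquivOfLe S.Kc_le_H).toEquiv]
    exact K.index_mul_card
  have h128 : ¬ 128 ∣ K.index * Nat.card S.Kc := fun h =>
    S.not_dvd_C ((hmul ▸ h).trans (Subgroup.card_subgroup_dvd_card _))
  obtain ⟨k, hk⟩ := h32
  refine ⟨?_, ⟨k, hk⟩, fun h4 => h128 ?_⟩
  · have hk0 : 0 < k := by
      rcases Nat.eq_zero_or_pos k with rfl | h
      · exact absurd hk (by simpa using Subgroup.index_ne_zero_of_finite (H := K))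
      · exact h
    have : k ≠ 2 := fun h2 => by
      apply h128
      rw [hk, h2]
      have h2K : 2 ∣ Nat.card S.Kc := by
        have hzK : S.zC ∈ S.Kc := by
          rw [Subgroup.mem_centralizer_iff]; exact fun q _ => S.zC_comm q
        have h3 := Subgroup.card_dvd_of_le (Subgroup.zpowers_le.2 hzK)
        rwa [Nat.card_zpowers, S.zC_order] at h3
      exact Nat.mul_dvd_mul (dvd_refl 64) h2K
    have h3 : k ≤ 3 := by omega
    interval_cases k <;> simp_all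
  · rw [hk, mul_assoc, show (128 : ℕ) = 32 * 4 from rfl]
    exact Nat.mul_dvd_mul_left 32 (h4.mul_left k)

theorem Kc_le : S.Kc ≤ Subgroup.zpowers S.zC ⊔ S.O := by
  haveI : Fact (Nat.Prime 2) := ⟨Nat.prime_two⟩
  haveI : S.O.Normal := Cfsg.pPrimeCore_normal 2 S.C
  set K := S.Kc ⊔ S.O
  haveI : K.Normal := by
    refine Subgroup.normalizer_eq_top_iff.1 (top_le_iff.1 fun g _ => mem_normalizer_of_le ?_)
    obtain ⟨o, ho, hh⟩ := S.frattini g
    intro x hx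
    obtain ⟨k, hk, o', ho', rfl⟩ := exists_mul_of_sup hx
    have hO : ∀ y ∈ S.O, g * y * g⁻¹ ∈ K := fun y hy =>
      le_sup_right (a := S.Kc) ((Cfsg.pPrimeCore_normal 2 S.C).conj_mem y hy g)
    have hK : g * k * g⁻¹ ∈ K := by
      rw [show g * k * g⁻¹ = o⁻¹ * ((o * g) * k * (o * g)⁻¹) * o by group]
      exact K.mul_mem (K.mul_mem (K.inv_mem (le_sup_right (a := S.Kc) ho))
        (le_sup_left (b := S.O) (S.Kc_conj hh hk))) (le_sup_right (a := S.Kc) ho)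
    rw [show g * (k * o') * g⁻¹ = g * k * g⁻¹ * (g * o' * g⁻¹) by group]
    exact K.mul_mem hK (hO o' ho')
  have hzK : S.zC ∈ K :=
    le_sup_left (b := S.O) (by rw [Subgroup.mem_centralizer_iff]; exact fun q _ => S.zC_comm q)
  have h4 : ¬ 4 ∣ Nat.card K := fun h => S.index_facts.2.2 (by
    have h1 := h.trans (Cores.card_sup_dvd_mul S.Kc S.O)
    refine Nat.Coprime.dvd_of_dvd_mul_right ?_ h1
    rw [show (4 : ℕ) = 2 ^ 2 from rfl]
    exact Nat.Coprime.pow_left _ (Cores.pPrimeCore_coprime 2).symm)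
  exact le_sup_left.trans (odd_part K hzK S.zC_order S.zC_comm h4)

/-- An element of `H` whose cube is trivial on `Q` and which fixes a point outside `⟨z⟩` is trivial on `Q`. -/
theorem Kc_of_fixed {h : S.C} (hh : h ∈ S.H) (hcube : h * h * h ∈ S.Kc) {x : ℕ} (hx : x < 64)
    (hxq : qf x = true) (hxz : zf x = false) (hfix : (h : G) * S.co.e x * (h : G)⁻¹ = S.co.e x) :
    h ∈ S.Kc := by
  obtain ⟨t, ht⟩ := S.acts_of_H hh
  have hc : ∀ y < 64, qf y = true → imgC t (imgC t (imgC t y)) = y := by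
    intro y hy hyq
    obtain ⟨q1, l1, e1⟩ := ht.2 y hy hyq
    obtain ⟨q2, l2, e2⟩ := ht.2 _ l1 q1
    obtain ⟨q3, l3, e3⟩ := ht.2 _ l2 q2
    refine S.co.e_inj _ l3 y hy ?_
    rw [← e3, ← e2, ← e1]
    have h' := congrArg Subtype.val (Subgroup.mem_centralizer_iff.1 hcube
      ⟨S.co.e y, S.Q_le_C ((S.mem_Q hy).2 hyq)⟩ ((S.mem_Q hy).2 hyq))
    simp only [Subgroup.coe_mul] at h'
    calc (h : G) * ((h : G) * ((h : G) * S.co.e y * (h : G)⁻¹) * (h : G)⁻¹) * (h : G)⁻¹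
        = ((h : G) * h * h * S.co.e y) * ((h : G) * h * h)⁻¹ := by group
      _ = S.co.e y * ((h : G) * h * h) * ((h : G) * h * h)⁻¹ := by rw [h']
      _ = _ := by group
  have hm := chk_misc
  simp only [Bool.and_eq_true] at hm
  obtain ⟨⟨⟨⟨⟨⟨⟨-, h8⟩, h7⟩, h9⟩, h39⟩, -⟩, -⟩, -⟩ := hm
  have h := List.all_eq_true.1 chk_fixed t ht.1
  have hcb : cube t = true := by
    simp [cube, hc 8 (by omega) h8, hc 7 (by omega) h7, hc 9 (by omega) h9, hc 39 (by omega) h39]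
  simp only [hcb, Bool.not_true, Bool.false_or, Bool.or_eq_true, beq_iff_eq] at h
  rcases h with rfl | h
  · rw [Subgroup.mem_centralizer_iff]
    rintro q hq
    obtain ⟨y, hy, hyq, hye⟩ := (Subgroup.mem_subgroupOf.1 hq : (q : G) ∈ S.Q)
    obtain ⟨-, -, e⟩ := ht.2 y hy hyq
    have hw := allB_spec chk_words y hy
    simp only [hyq, Bool.not_true, Bool.false_or, Bool.and_eq_true, Nat.beq_eq] at hw
    rw [show imgC [8, 7, 9, 39] y = y from hw.1, hye] at e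
    refine Subtype.ext ?_
    simp only [Subgroup.coe_mul]
    exact (mul_inv_eq_iff_eq_mul.1 e).symm
  · exfalso
    have h' := allB_spec h x hx
    rw [hxq, hxz] at h'
    simp only [Bool.not_true, Bool.false_or, Bool.not_eq_true'] at h'
    refine Nat.ne_of_beq_eq_false h' (S.co.e_inj _ (ht.2 x hx hxq).2.1 x hx ?_)
    rw [← (ht.2 x hx hxq).2.2, hfix]

theorem cube_mem_Kc {h : S.C} (hh : h ∈ S.H) {n : ℕ} (hn : Odd n) (hpow : h ^ n ∈ S.Kc) :
    h * h * h ∈ S.Kc := by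
  obtain ⟨hdvd, -, -⟩ := S.index_facts
  set K := S.Kc.subgroupOf S.H
  set hH : S.H := ⟨h, hh⟩
  have h1 : (QuotientGroup.mk' K hH) ^ n = 1 := by
    rw [← map_pow]
    exact (QuotientGroup.eq_one_iff _).2 (Subgroup.mem_subgroupOf.2 (by simpa [hH] using hpow))
  have h2 : orderOf (QuotientGroup.mk' K hH) ∣ 96 :=
    (_root_.orderOf_dvd_natCard _).trans hdvd
  have h3 : orderOf (QuotientGroup.mk' K hH) ∣ 3 := by
    have h32 : (32 : ℕ).Coprime n := by
      rw [show (32 : ℕ) = 2 ^ 5 from rfl]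
      exact Nat.Coprime.pow_left _ (Nat.prime_two.coprime_iff_not_dvd.2 hn.not_two_dvd_nat)
    have h4 : (orderOf (QuotientGroup.mk' K hH)).Coprime 32 :=
      (h32.coprime_dvd_right (orderOf_dvd_of_pow_eq_one h1)).symm
    exact h4.dvd_of_dvd_mul_left (show _ ∣ 32 * 3 from h2)
  have h5 := orderOf_dvd_iff_pow_eq_one.1 h3
  rw [← map_pow] at h5
  have h6 := Subgroup.mem_subgroupOf.1 ((QuotientGroup.eq_one_iff _).1 h5)
  simpa [hH, pow_succ] using h6

/-- An odd subgroup invariant under the centraliser of an involution lies in the core. -/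
theorem balance_core {a : S.C} (ha : orderOf a = 2) (Y : Subgroup S.C) (hY : Odd (Nat.card Y))
    (hn : ∀ c : S.C, c * a = a * c → ∀ y ∈ Y, c * y * c⁻¹ ∈ Y) : Y ≤ S.O := by
  haveI : Fact (Nat.Prime 2) := ⟨Nat.prime_two⟩
  haveI : S.O.Normal := Cfsg.pPrimeCore_normal 2 S.C
  -- move `a` into `P`
  obtain ⟨c₀, hc₀⟩ : ∃ c : S.C, ((c * a * c⁻¹ : S.C) : G) ∈ (P : Subgroup G) := by
    obtain ⟨R, hR⟩ := (IsPGroup.of_card (n := 1) (by rw [Nat.card_zpowers, ha, pow_one]) :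
      IsPGroup 2 (Subgroup.zpowers a)).exists_le_sylow
    obtain ⟨c, hc⟩ := MulAction.exists_smul_eq S.C R (P.subtype S.P_le_C)
    refine ⟨c, ?_⟩
    have h1 : c * a * c⁻¹ ∈ (c • R : Sylow 2 S.C) := by
      show c * a * c⁻¹ ∈ MulAut.conj c • (R : Subgroup S.C)
      rw [Subgroup.mem_pointwise_smul_iff_inv_smul_mem]
      simpa [mul_assoc] using hR (Subgroup.mem_zpowers a)
    rw [hc] at h1
    exact h1
  obtain ⟨x, hx, hxe⟩ := (S.co.mem_iff _).1 hc₀
  have hord : orderOf (S.co.e x) = 2 := by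
    rw [hxe, Subgroup.orderOf_coe, order_conj, ha]
  obtain ⟨hx0, hxx⟩ := S.co.invol_code hx hord
  have hch := allB_spec chk_cent x hx
  simp only [Bool.and_eq_true, isInv_iff.2 ⟨hxx, hx0⟩, Bool.not_true, Bool.false_or] at hch
  obtain ⟨w, hw, hwc⟩ := anyB_spec hch.1.2
  simp only [Bool.and_eq_true, Bool.not_eq_true'] at hwc
  obtain ⟨⟨hwq, hwz⟩, hwcom⟩ := hwc
  set wC : S.C := ⟨S.co.e w, S.P_le_C (S.co.mem hw)⟩ with hwC
  intro y0 hy0
  set y := c₀ * y0 * c₀⁻¹ with hy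
  suffices hyO : y ∈ S.O by
    have := ‹S.O.Normal›.conj_mem y hyO c₀⁻¹
    rwa [show c₀⁻¹ * y * c₀⁻¹⁻¹ = y0 by rw [hy]; group] at this
  set Y' := Y.map (MulAut.conj c₀).toMonoidHom with hY'
  have hy' : y ∈ Y' := ⟨y0, hy0, rfl⟩
  have hY'odd : Odd (Nat.card Y') := by
    rwa [hY', Subgroup.card_map_of_injective (MulAut.conj c₀).injective]
  have hcomm : wC * (c₀ * a * c₀⁻¹) = (c₀ * a * c₀⁻¹) * wC := by
    refine Subtype.ext ?_
    have := (S.co.commute_iff hw hx).2 hwcom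
    rw [hxe] at this
    exact this
  have hwY : ∀ v ∈ Y', wC * v * wC⁻¹ ∈ Y' := by
    rintro _ ⟨v, hv, rfl⟩
    refine ⟨c₀⁻¹ * wC * c₀ * v * (c₀⁻¹ * wC * c₀)⁻¹, hn _ ?_ v hv, ?_⟩
    · calc c₀⁻¹ * wC * c₀ * a = c₀⁻¹ * (wC * (c₀ * a * c₀⁻¹)) * c₀ := by group
        _ = c₀⁻¹ * ((c₀ * a * c₀⁻¹) * wC) * c₀ := by rw [hcomm]
        _ = _ := by group
    · simp only [MulEquiv.coe_toMonoidHom, MulAut.conj_apply]; group
  have hwQC : wC ∈ S.QC := (S.mem_Q hw).2 hwq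
  obtain ⟨o, ho, hh⟩ := S.frattini y
  set h := o * y with hhdef
  have hq : h * wC * h⁻¹ * wC⁻¹ ∈ S.QC :=
    S.QC.mul_mem ((Subgroup.mem_normalizer_iff.1 hh wC).1 hwQC) (S.QC.inv_mem hwQC)
  have hcm : y * wC * y⁻¹ * wC⁻¹ ∈ Y' := by
    rw [show y * wC * y⁻¹ * wC⁻¹ = y * (wC * y⁻¹ * wC⁻¹) by group]
    exact Y'.mul_mem hy' (hwY _ (Y'.inv_mem hy'))
  have hcm2 : y * wC * y⁻¹ * wC⁻¹ ∈ S.QC ⊔ S.O := by
    rw [show y * wC * y⁻¹ * wC⁻¹ =
      o⁻¹ * (h * wC * h⁻¹ * wC⁻¹) * (wC * o * wC⁻¹) by rw [hhdef]; group]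
    exact mul_mem (mul_mem (le_sup_right (a := S.QC) (inv_mem ho)) (le_sup_left (b := S.O) hq))
      (le_sup_right (a := S.QC) (‹S.O.Normal›.conj_mem o ho wC))
  have hodd : ∀ v ∈ Y', Odd (orderOf v) := fun v hv =>
    Odd.of_dvd_nat hY'odd (by rw [← Subgroup.orderOf_mk v hv]; exact _root_.orderOf_dvd_natCard _)
  have hcmO := pi_odd_mem S.QC S.O S.QC_two hcm2 (hodd _ hcm)
  have hqO : h * wC * h⁻¹ * wC⁻¹ ∈ S.O := by
    rw [show h * wC * h⁻¹ * wC⁻¹ =
      o * (y * wC * y⁻¹ * wC⁻¹) * (wC * o⁻¹ * wC⁻¹) by rw [hhdef]; group]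
    exact mul_mem (mul_mem ho hcmO) (‹S.O.Normal›.conj_mem _ (inv_mem ho) wC)
  have hfix : (h : G) * S.co.e w * (h : G)⁻¹ = S.co.e w := by
    have := congrArg Subtype.val (mul_inv_eq_one.1 (S.QC_disj hq hqO))
    simpa [hwC] using this
  set n := orderOf y
  have hpow : h ^ n ∈ S.Kc := by
    refine S.core_inf_le ⟨(QuotientGroup.eq_one_iff _).1 ?_, S.H.pow_mem hh n⟩
    rw [QuotientGroup.mk_pow, hhdef, QuotientGroup.mk_mul,
      (QuotientGroup.eq_one_iff o).2 ho, one_mul, ← QuotientGroup.mk_pow, pow_orderOf_eq_one,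
      QuotientGroup.mk_one]
  have hKc := S.Kc_of_fixed hh (S.cube_mem_Kc hh (hodd y hy') hpow) hw hwq hwz hfix
  have hyK : y ∈ Subgroup.zpowers S.zC ⊔ S.O := by
    rw [show y = o⁻¹ * h by rw [hhdef]; group]
    exact mul_mem (le_sup_right (a := Subgroup.zpowers S.zC) (inv_mem ho)) (S.Kc_le hKc)
  exact pi_odd_mem _ S.O (IsPGroup.of_card (n := 1) (by rw [Nat.card_zpowers, S.zC_order, pow_one]))
    hyK (hodd y hy')

end Std

end Cfsg.Agent.Lib.M12Sylow18
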