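import Cfsg.Agent.Lib.M12Sylow18.Closed

/-!
# The centraliser of `z` modulo its core
-/

set_option autoImplicit false
set_option linter.style.haveILetI false
set_option linter.unusedSectionVars false

namespace Cfsg.Agent.Lib.M12Sylow18

open Cfsg.Agent.Lib.M12Sylow18.Mod
open Subgroup
open scoped Pointwise

theorem chk_w : allB 64 (fun x => (!w1 x || zf x || (Nat.beq (tm 0 x x) 16 &&
      (Nat.beq x 8 || Nat.beq x 24 || !com 0 x 8))) &&
    (!zf x || Nat.beq x 0 || Nat.beq x 16)) = true := by decide +kernel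

theorem chk_wcard : ((List.range 64).filter w1).length = 8 ∧ ((List.range 64).filter w2).length = 8 := by
  decide +kernel

theorem chk_qcomm : allB 64 (fun x => allB 64 fun y => !(qf x && qf y) || com 0 x y ||
    Nat.beq (tm 0 x y) (tm 0 (tm 0 y x) 16)) = true := by decide +kernel

theorem chk_misc : (Nat.beq (tm 0 8 16) 24 && qf 8 && qf 7 && qf 9 && qf 39 && qf 16 &&
    w1 16 && w2 16) = true := by decide +kernel

variable {G : Type*} [Group G] [Finite G]

theorem card_setSub {P : Subgroup G} (C : Co P 0) (q : ℕ → Bool) (h0 : q 0 = true)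
    (hq : ∀ x < 64, ∀ y < 64, q x = true → q y = true → q (tm 0 x y) = true) :
    Nat.card (setSub C q h0 hq) = ((List.range 64).filter q).length := by
  classical
  have h1 : Nat.card {x : ℕ // x ∈ (List.range 64).filter q} = ((List.range 64).filter q).length := by
    rw [Nat.card_congr (Equiv.subtypeEquivRight (fun x => (List.mem_toFinset).symm)),
      Nat.card_eq_fintype_card, Fintype.card_coe,
      List.toFinset_card_of_nodup (List.Nodup.filter _ List.nodup_range)]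
  rw [← h1]
  refine (Nat.card_eq_of_bijective (fun x : {x : ℕ // x ∈ (List.range 64).filter q} =>
    (⟨C.e x, x, List.mem_range.1 (List.mem_filter.1 x.2).1, (List.mem_filter.1 x.2).2, rfl⟩ :
      setSub C q h0 hq)) ⟨fun x y e => ?_, ?_⟩).symm
  · exact Subtype.ext (C.e_inj _ (List.mem_range.1 (List.mem_filter.1 x.2).1) _
      (List.mem_range.1 (List.mem_filter.1 y.2).1) (congrArg Subtype.val e))
  · rintro ⟨_, x, hx, hxq, rfl⟩
    exact ⟨⟨x, List.mem_filter.2 ⟨List.mem_range.2 hx, hxq⟩⟩, rfl⟩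

/-- A normal subgroup of order twice an odd number with a central involution `z` is inside `⟨z⟩ O(X)`. -/
theorem odd_part {X : Type*} [Group X] [Finite X] (K : Subgroup X) [K.Normal] {z : X} (hz : z ∈ K)
    (hz2 : orderOf z = 2) (hzc : ∀ x : X, x * z = z * x) (h4 : ¬ 4 ∣ Nat.card K) :
    K ≤ Subgroup.zpowers z ⊔ Cfsg.pPrimeCore 2 X := by
  haveI : Fact (Nat.Prime 2) := ⟨Nat.prime_two⟩
  set Z := (Subgroup.zpowers z).subgroupOf K with hZ
  have hZc : ∀ a ∈ Z, ∀ b : K, b * a = a * b := by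
    intro a ha b
    refine Subtype.ext ?_
    obtain ⟨k, hk⟩ := Subgroup.mem_zpowers_iff.1 (Subgroup.mem_subgroupOf.1 ha)
    show (b : X) * a = a * b
    rw [← hk]
    exact (Commute.zpow_right (hzc b) k).eq
  haveI hZn : Z.Normal := ⟨fun a ha b => by
    rw [hZc a ha b, mul_inv_cancel_right]; exact ha⟩
  have hZcard : Nat.card Z = 2 := by
    rw [hZ, Nat.card_congr (Subgroup.subgroupOfEquivOfLe (Subgroup.zpowers_le.2 hz)).toEquiv,
      Nat.card_zpowers, hz2]
  have hodd : (Nat.card Z).Coprime Z.index := by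
    rw [hZcard]
    refine Nat.prime_two.coprime_iff_not_dvd.2 fun h => h4 ?_
    have := Z.card_mul_index
    rw [hZcard] at this
    rw [← this, show 4 = 2 * 2 from rfl]
    exact Nat.mul_dvd_mul_left 2 h
  obtain ⟨D, hD⟩ := Subgroup.exists_right_complement'_of_coprime hodd
  haveI : D.Normal := ⟨fun d hd b => by
    obtain ⟨⟨a, d'⟩, hb⟩ := hD.2 b
    simp only at hb
    rw [← hb]
    have h1 : (d' : K) * d * (d' : K)⁻¹ ∈ D := D.mul_mem (D.mul_mem d'.2 hd) (D.inv_mem d'.2)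
    have h2 := (hZc a a.2 ((d' : K) * d * (d' : K)⁻¹)).symm
    rw [show (a : K) * d' * d * ((a : K) * d')⁻¹ = (a : K) * ((d' : K) * d * (d' : K)⁻¹) * (a : K)⁻¹ by
      group, h2, mul_inv_cancel_right]
    exact h1⟩
  have hDc : (Nat.card D).Coprime 2 := by
    rw [← hD.symm.index_eq_card, Nat.coprime_comm, ← hZcard]
    exact hodd
  have h1 : D.map K.subtype ≤ Cfsg.pPrimeCore 2 X := by
    haveI := Cores.normal_map_subtype K (Cfsg.pPrimeCore 2 K)
    exact (Subgroup.map_mono (Cores.le_pPrimeCore hDc)).trans (Cores.le_pPrimeCore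
      ((Cores.pPrimeCore_coprime 2).coprime_dvd_left (Subgroup.card_map_dvd _ _)))
  intro x hx
  obtain ⟨⟨a, d⟩, hxe⟩ := hD.2 ⟨x, hx⟩
  rw [show x = ((a : K) : X) * ((d : K) : X) from congrArg Subtype.val hxe.symm]
  exact mul_mem (le_sup_left (b := Cfsg.pPrimeCore 2 X) (Subgroup.mem_subgroupOf.1 a.2))
    (le_sup_right (a := Subgroup.zpowers z) (h1 ⟨d, d.2, rfl⟩))

namespace Std

variable {P : Sylow 2 G} (S : Std P)

/-- The centraliser of `z`. -/
abbrev C : Subgroup G := centralizer ({S.co.e 16} : Set G)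

theorem P_le_C : (P : Subgroup G) ≤ S.C := fun g hg =>
  mem_centralizer_singleton_iff.2 (S.co.z_comm g hg)

theorem Q_le_C : S.Q ≤ S.C := S.Q_le.trans S.P_le_C

/-- `z` in its centraliser. -/
def zC : S.C := ⟨S.co.e 16, mem_centralizer_singleton_iff.2 rfl⟩

theorem zC_comm (x : S.C) : x * S.zC = S.zC * x := Subtype.ext (mem_centralizer_singleton_iff.1 x.2)

theorem zC_order : orderOf S.zC = 2 := by
  rw [← Subgroup.orderOf_coe]; exact S.co.z_order

theorem mem_Zs {a : S.C} : a ∈ Subgroup.zpowers S.zC ↔ (a : G) = 1 ∨ (a : G) = S.co.e 16 := by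
  rw [← mem_powers_iff_mem_zpowers]
  constructor
  · rintro ⟨k, hk⟩
    simp only at hk
    rw [← hk, Subgroup.coe_pow, ← pow_mod_orderOf, show orderOf (S.zC : G) = 2 from S.co.z_order]
    rcases Nat.mod_two_eq_zero_or_one k with h | h <;> rw [h]
    · exact Or.inl (pow_zero _)
    · exact Or.inr (pow_one _)
  · rintro (h | h)
    · exact ⟨0, Subtype.ext (by simp [h])⟩
    · exact ⟨1, Subtype.ext (by simp [h, zC])⟩

instance zs_normal : (Subgroup.zpowers S.zC).Normal :=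
  ⟨fun a ha g => by
    obtain ⟨k, rfl⟩ := Subgroup.mem_zpowers_iff.1 ha
    rw [(Commute.zpow_right (S.zC_comm g) k).eq, mul_inv_cancel_right]
    exact ha⟩

/-- The quotient of the centraliser of `z` by `⟨z⟩`. -/
abbrev X := S.C ⧸ Subgroup.zpowers S.zC

/-- The quotient map. -/
abbrev pi : S.C →* S.X := QuotientGroup.mk' _

/-- The image in the quotient. -/
def img (A : Subgroup G) : Subgroup S.X := (A.subgroupOf S.C).map S.pi

theorem mem_img {A : Subgroup G} (hz : S.co.e 16 ∈ A) {g : S.C} :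
    S.pi g ∈ S.img A ↔ (g : G) ∈ A := by
  refine ⟨?_, fun h => ⟨g, h, rfl⟩⟩
  rintro ⟨a, ha, he⟩
  obtain ⟨w, hw, e⟩ := (QuotientGroup.mk'_eq_mk' (Subgroup.zpowers S.zC)).1 he
  rw [← e, Subgroup.coe_mul]
  rcases S.mem_Zs.1 hw with h | h <;> rw [h]
  · simpa using Subgroup.mem_subgroupOf.1 ha
  · exact A.mul_mem (Subgroup.mem_subgroupOf.1 ha) hz

theorem pi_eq {a b : S.C} : S.pi a = S.pi b ↔ (b : G) = a ∨ (b : G) = a * S.co.e 16 := by
  rw [QuotientGroup.mk'_eq_mk']
  constructor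
  · rintro ⟨w, hw, e⟩
    rw [← e, Subgroup.coe_mul]
    rcases S.mem_Zs.1 hw with h | h <;> rw [h]
    · exact Or.inl (mul_one _)
    · exact Or.inr rfl
  · rintro (h | h)
    · exact ⟨1, one_mem _, Subtype.ext (by simp [h])⟩
    · exact ⟨S.zC, Subgroup.mem_zpowers _, Subtype.ext (by simp [h, zC])⟩

/-- The Sylow subgroup of the quotient. -/
def sylX : Sylow 2 S.X :=
  haveI : Fact (Nat.Prime 2) := ⟨Nat.prime_two⟩
  (P.subtype S.P_le_C).mapSurjective (QuotientGroup.mk'_surjective _)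

theorem sylX_coe : (S.sylX : Subgroup S.X) = S.img (P : Subgroup G) := rfl

theorem root_split {x : ℕ} (hx : x < 64) (hq : qf x = true) (hr : tm 0 x x = 16) :
    w1 x = true ∨ w2 x = true := by
  have h := allB_spec chk_roots_q x hx
  simp only [hq, hr, Nat.beq_refl, Bool.and_true, Bool.not_true, Bool.false_or,
    Bool.or_eq_true] at h
  exact h

/-- An element normalising `Q` maps the first quaternion subgroup into one of the two. -/
theorem W1_image {n : G} (hnz : n * S.co.e 16 = S.co.e 16 * n) (hn : ∀ q ∈ S.Q, n * q * n⁻¹ ∈ S.Q) :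
    (∀ w ∈ S.W1, n * w * n⁻¹ ∈ S.W1) ∨ (∀ w ∈ S.W1, n * w * n⁻¹ ∈ S.W2) := by
  have hm := chk_misc
  simp only [Bool.and_eq_true, Nat.beq_eq] at hm
  obtain ⟨⟨⟨⟨⟨⟨⟨h24, h8⟩, -⟩, -⟩, -⟩, -⟩, -⟩, -⟩ := hm
  have img : ∀ x < 64, qf x = true → ∃ y < 64, qf y = true ∧ S.co.e y = n * S.co.e x * n⁻¹ :=
    fun x hx hq => hn _ ((S.mem_Q hx).2 hq)
  obtain ⟨u, hu, huq, hue⟩ := img 8 (by omega) h8
  have root : ∀ {x y : ℕ}, x < 64 → y < 64 → S.co.e y = n * S.co.e x * n⁻¹ → tm 0 x x = 16 →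
      tm 0 y y = 16 := by
    intro x y hx hy e hr
    refine S.co.e_inj _ (tm_lt _ _ _) 16 (by omega) ?_
    rw [← S.co.sq_eq hy, e]
    calc n * S.co.e x * n⁻¹ * (n * S.co.e x * n⁻¹) = n * (S.co.e x * S.co.e x) * n⁻¹ := by group
      _ = n * S.co.e 16 * n⁻¹ := by rw [S.co.sq_eq hx, hr]
      _ = _ := conj_fix hnz
  have huu := root (by omega) hu hue (by decide +kernel)
  have main : ∀ W : Subgroup G, S.co.e u ∈ W → S.co.e 16 ∈ W →
      (∀ v < 64, qf v = true → tm 0 v v = 16 → com 0 v u = false → S.co.e v ∈ W) →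
      ∀ w ∈ S.W1, n * w * n⁻¹ ∈ W := by
    intro W hW hzW hnc w hw
    have hwQ := S.W1_le hw
    obtain ⟨x, hx, hxw, rfl⟩ := hw
    have h := allB_spec chk_w x hx
    simp only [Bool.and_eq_true, Bool.or_eq_true, Bool.not_eq_true', ← Bool.not_eq_true,
      Nat.beq_eq, hxw, not_true_eq_false, false_or] at h
    rcases h.1 with hzf | ⟨hr, (rfl | rfl) | hc⟩
    · rcases h.2 with (h' | rfl) | rfl
      · exact absurd hzf h'
      · rw [S.co.e_zero]; simp
      · rw [conj_fix hnz]; exact hzW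
    · rw [← hue]; exact hW
    · rw [← h24, S.co.e_mul 8 (by omega) 16 (by omega),
        show n * (S.co.e 8 * S.co.e 16) * n⁻¹ = (n * S.co.e 8 * n⁻¹) * (n * S.co.e 16 * n⁻¹) by group,
        ← hue, conj_fix hnz]
      exact W.mul_mem hW hzW
    · obtain ⟨v, hv, hvq, hve⟩ := img x hx ((S.mem_Q hx).1 hwQ)
      rw [← hve]
      refine hnc v hv hvq (root hx hv hve hr) (Bool.eq_false_iff.2 fun hcv => hc ?_)
      refine (S.co.commute_iff hx (by omega)).1 ?_
      have h1 := (S.co.commute_iff hv hu).2 hcv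
      rw [hve, hue] at h1
      refine mul_left_cancel (a := n) (mul_right_cancel (b := n⁻¹) ?_)
      calc n * (S.co.e x * S.co.e 8) * n⁻¹ = n * S.co.e x * n⁻¹ * (n * S.co.e 8 * n⁻¹) := by group
        _ = n * S.co.e 8 * n⁻¹ * (n * S.co.e x * n⁻¹) := h1
        _ = _ := by group
  rcases root_split hu huq huu with h1 | h2
  · refine Or.inl (main S.W1 ((S.mem_W1 hu).2 h1) S.z_mem_W1 fun v hv hvq hvv hc => ?_)
    refine (S.mem_W1 hv).2 ((root_split hv hvq hvv).resolve_right fun h2 => ?_)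
    have h := allB_spec (allB_spec chk_wcomm u hu) v hv
    simp only [h1, h2, Bool.and_eq_true, Bool.and_self, Bool.not_true, Bool.false_or] at h
    have := (S.co.commute_iff hv hu).1 ((S.co.commute_iff hu hv).2 h.1.1).symm
    rw [hc] at this; exact Bool.noConfusion this
  · refine Or.inr (main S.W2 ((S.mem_W2 hu).2 h2) S.z_mem_W2 fun v hv hvq hvv hc => ?_)
    refine (S.mem_W2 hv).2 ((root_split hv hvq hvv).resolve_left fun h1 => ?_)
    have h := allB_spec (allB_spec chk_wcomm v hv) u hu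
    simp only [h1, h2, Bool.and_eq_true, Bool.and_self, Bool.not_true, Bool.false_or] at h
    have := h.1.1
    rw [hc] at this; exact Bool.noConfusion this

theorem P_normalises_Q {g : G} (hg : g ∈ (P : Subgroup G)) {q : G} (hq : q ∈ S.Q) :
    g * q * g⁻¹ ∈ S.Q :=
  S.Q_closed (S.co.z_comm g hg) hq
    ((P : Subgroup G).mul_mem ((P : Subgroup G).mul_mem hg (S.Q_le hq)) ((P : Subgroup G).inv_mem hg))

theorem mem_normalizer_of_le {A : Subgroup G} {g : G} (h : ∀ a ∈ A, g * a * g⁻¹ ∈ A) :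
    g ∈ normalizer (A : Set G) := by
  rw [Subgroup.mem_normalizer_iff_map_conj_eq]
  refine eq_of_le_of_card_ge ?_ (le_of_eq ?_)
  · rintro _ ⟨a, ha, rfl⟩; exact h a ha
  · exact (Subgroup.card_map_of_injective (MulAut.conj g).injective).symm

theorem chk_PW : allB 64 (fun g => allB 64 fun x =>
    !w1 x || anyB 64 fun y => w1 y && Nat.beq (tm 0 g x) (tm 0 y g)) = true := by decide +kernel

/-- The normaliser of `Q` in the centraliser fixes the first quaternion subgroup. -/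
theorem W1_stable {n : G} (hnz : n * S.co.e 16 = S.co.e 16 * n) (hn : ∀ q ∈ S.Q, n * q * n⁻¹ ∈ S.Q) :
    ∀ w ∈ S.W1, n * w * n⁻¹ ∈ S.W1 := by
  haveI : Fact (Nat.Prime 2) := ⟨Nat.prime_two⟩
  set NQ : Subgroup G := S.C ⊓ normalizer (S.Q : Set G) with hNQ
  set K : Subgroup G := NQ ⊓ normalizer (S.W1 : Set G) with hK
  have hPK : (P : Subgroup G) ≤ K := fun g hg => by
    refine ⟨⟨S.P_le_C hg, mem_normalizer_of_le fun q hq => S.P_normalises_Q hg hq⟩,
      mem_normalizer_of_le fun w hw => ?_⟩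
    obtain ⟨c, hc, rfl⟩ := (S.co.mem_iff g).1 hg
    obtain ⟨x, hx, hxw, rfl⟩ := hw
    have h := allB_spec (allB_spec chk_PW c hc) x hx
    rw [hxw, Bool.not_true, Bool.false_or] at h
    obtain ⟨y, hy, hyc⟩ := anyB_spec h
    simp only [Bool.and_eq_true, Nat.beq_eq] at hyc
    exact ⟨y, hy, hyc.1, (S.co.conj_code hx hc hy hyc.2).symm⟩
  have hnN : n ∈ NQ := ⟨mem_centralizer_singleton_iff.2 hnz, mem_normalizer_of_le hn⟩
  suffices hnK : n ∈ K from fun w hw => (Subgroup.mem_normalizer_iff.1 hnK.2 w).1 hw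
  have sw : ∀ m ∈ NQ, m ∉ K → S.W1.map (MulAut.conj m).toMonoidHom = S.W2 := by
    intro m hm hmK
    have hm2 := (S.W1_image (mem_centralizer_singleton_iff.1 hm.1)
      (fun q hq => (Subgroup.mem_normalizer_iff.1 hm.2 q).1 hq)).resolve_left
      fun h => hmK ⟨hm, mem_normalizer_of_le h⟩
    refine eq_of_le_of_card_ge ?_ ?_
    · rintro _ ⟨w, hw, rfl⟩; exact hm2 w hw
    · rw [Subgroup.card_map_of_injective (MulAut.conj m).injective, W1, W2, card_setSub, card_setSub,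
        chk_wcard.1, chk_wcard.2]
  by_contra hnK
  have hidx : (K.subgroupOf NQ).index = 2 := by
    rw [Subgroup.index_eq_two_iff]
    refine ⟨⟨n, hnN⟩, fun b => ?_⟩
    simp only [Subgroup.mem_subgroupOf, Subgroup.coe_mul]
    by_cases hb : (b : G) ∈ K
    · exact Or.inr ⟨hb, fun h => hnK ((Subgroup.mul_mem_cancel_left K hb).1 h)⟩
    · refine Or.inl ⟨?_, hb⟩
      refine ⟨NQ.mul_mem b.2 hnN, Subgroup.mem_normalizer_iff_map_conj_eq.2 ?_⟩
      have e1 := sw n hnN hnK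
      have e2 := sw (b : G)⁻¹ (NQ.inv_mem b.2) (fun h => hb (by simpa using K.inv_mem h))
      rw [← e2] at e1
      have := congrArg (fun A : Subgroup G => A.map (MulAut.conj (b : G)).toMonoidHom) e1
      simp only [Subgroup.map_map] at this
      have key : ∀ a b : G, (MulAut.conj a).toMonoidHom.comp (MulAut.conj b).toMonoidHom =
          (MulAut.conj (a * b)).toMonoidHom := fun a b => by
        ext; simp [mul_assoc]
      rw [key, key, mul_inv_cancel, show (MulAut.conj (1 : G)).toMonoidHom = MonoidHom.id G from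
        MonoidHom.ext fun x => by simp, Subgroup.map_id] at this
      exact this
  have hodd : ¬ 2 ∣ (K.subgroupOf NQ).index := by
    intro h
    refine P.not_dvd_index (dvd_trans h ?_)
    have h1 : (P : Subgroup G).relIndex K * K.relIndex NQ = (P : Subgroup G).relIndex NQ :=
      Subgroup.relIndex_mul_relIndex _ _ _ hPK inf_le_left
    have h2 := Subgroup.relIndex_mul_index (hPK.trans inf_le_left : (P : Subgroup G) ≤ NQ)
    exact (dvd_trans (Dvd.intro_left _ h1) (Dvd.intro _ h2))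
  exact hodd (by rw [hidx])

/-- The normaliser of `Q` in the centraliser fixes the second quaternion subgroup. -/
theorem W2_stable {n : G} (hnz : n * S.co.e 16 = S.co.e 16 * n) (hn : ∀ q ∈ S.Q, n * q * n⁻¹ ∈ S.Q) :
    ∀ w ∈ S.W2, n * w * n⁻¹ ∈ S.W2 := by
  intro w hw
  obtain ⟨y, hy, hyq, hye⟩ := hn w (S.W2_le hw)
  rw [← hye, S.mem_W2 hy]
  by_contra hy2
  obtain ⟨x, hx, hxw, rfl⟩ := hw
  have hxx := allB_spec chk_out x hx
  simp only [Bool.and_eq_true, Bool.or_eq_true, Bool.not_eq_true', Nat.beq_eq,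
    ← Bool.not_eq_true] at hxx
  -- the image lies in the first subgroup, hence comes from it
  have hy1 : w1 y = true := by
    have hqx := (S.mem_Q hx).1 (S.W2_le ⟨x, hx, hxw, rfl⟩)
    have hyy : S.co.e (tm 0 y y) = n * S.co.e (tm 0 x x) * n⁻¹ := by
      rw [← S.co.sq_eq hy, hye, ← S.co.sq_eq hx]; group
    rcases hxx.1.1.2 with (h | h) | h
    · exact absurd hqx h
    · -- an involution of the second subgroup is `z` or `1`
      have hz : x = 0 ∨ x = 16 := by
        revert hxw h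
        have : allB 64 (fun x => !(w2 x && Nat.beq (tm 0 x x) 0) || Nat.beq x 0 || Nat.beq x 16) = true := by
          decide +kernel
        intro hxw h
        have := allB_spec this x hx
        simp only [hxw, h, Nat.beq_refl, Bool.and_self, Bool.not_true, Bool.false_or,
          Bool.or_eq_true, Nat.beq_eq] at this
        exact this
      rcases hz with rfl | rfl
      · have : y = 0 := S.co.e_inj y hy 0 (by omega) (by rw [hye, S.co.e_zero]; group)
        subst this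
        exact absurd (by decide +kernel) hy2
      · rw [conj_fix hnz] at hye
        have : y = 16 := S.co.e_inj y hy 16 (by omega) hye
        subst this
        exact absurd (by decide +kernel) hy2
    · have : tm 0 y y = 16 := S.co.e_inj _ (tm_lt _ _ _) 16 (by omega)
        (by rw [hyy, h, conj_fix hnz])
      exact (root_split hy hyq this).resolve_right hy2
  let φ : S.W1 → S.W1 := fun w => ⟨n * w * n⁻¹, S.W1_stable hnz hn w w.2⟩
  have hφ : Function.Injective φ := fun a b e =>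
    Subtype.ext (mul_left_cancel (mul_right_cancel (congrArg Subtype.val e)))
  obtain ⟨⟨w', hw'⟩, he⟩ := Finite.surjective_of_injective hφ ⟨_, (S.mem_W1 hy).2 hy1⟩
  have e' : n * w' * n⁻¹ = S.co.e y := congrArg Subtype.val he
  rw [hye] at e'
  rw [mul_left_cancel (mul_right_cancel e')] at hw'
  have hx1 := (S.mem_W1 hx).1 hw'
  have h := allB_spec chk_wsub x hx
  simp only [hx1, hxw, Bool.and_eq_true, Bool.or_eq_true, Bool.not_eq_true', Bool.and_self,
    Bool.true_eq_false, false_or] at h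
  have hz := allB_spec chk_w x hx
  simp only [h.1.1.2, Bool.and_eq_true, Bool.or_eq_true, Bool.not_eq_true', Bool.true_eq_false,
    false_or, Nat.beq_eq] at hz
  rcases hz.2 with rfl | rfl
  · have : y = 0 := S.co.e_inj y hy 0 (by omega) (by rw [hye, S.co.e_zero]; group)
    subst this
    exact hy2 (by decide +kernel)
  · rw [conj_fix hnz] at hye
    have : y = 16 := S.co.e_inj y hy 16 (by omega) hye
    subst this
    exact hy2 (by decide +kernel)

theorem img_comm {A B : Subgroup G} (hA : A ≤ S.Q) (hB : B ≤ S.Q) :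
    ∀ a ∈ S.img A, ∀ b ∈ S.img B, a * b = b * a := by
  rintro _ ⟨a, ha, rfl⟩ _ ⟨b, hb, rfl⟩
  rw [← map_mul, ← map_mul]
  obtain ⟨x, hx, hxq, hxe⟩ := hA (Subgroup.mem_subgroupOf.1 ha)
  obtain ⟨y, hy, hyq, hye⟩ := hB (Subgroup.mem_subgroupOf.1 hb)
  rw [S.pi_eq, Subgroup.coe_mul, Subgroup.coe_mul, ← hxe, ← hye]
  have h := allB_spec (allB_spec chk_qcomm x hx) y hy
  simp only [hxq, hyq, Bool.and_self, Bool.not_true, Bool.false_or, Bool.or_eq_true, Nat.beq_eq] at h
  rcases h with h | h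
  · exact Or.inl ((S.co.commute_iff hx hy).2 h).symm
  · refine Or.inr ?_
    rw [← S.co.e_mul x hx y hy, h, S.co.e_mul _ (tm_lt _ _ _) 16 (by omega), S.co.e_mul y hy x hx,
      mul_assoc (S.co.e y * S.co.e x), S.co.sq_eq (by omega), show tm 0 16 16 = 0 from by decide +kernel,
      S.co.e_zero, mul_one]

theorem img_closed {W : Subgroup G} (hWQ : W ≤ S.Q) (hzW : S.co.e 16 ∈ W)
    (hst : ∀ n, n * S.co.e 16 = S.co.e 16 * n → (∀ q ∈ S.Q, n * q * n⁻¹ ∈ S.Q) →
      ∀ w ∈ W, n * w * n⁻¹ ∈ W) :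
    Cfsg.IsStronglyClosed (S.img W) (S.sylX : Subgroup S.X) := by
  have hzP : S.co.e 16 ∈ (P : Subgroup G) := S.co.mem (by omega)
  have hQcl : Cfsg.IsStronglyClosed (S.img S.Q) (S.sylX : Subgroup S.X) := by
    refine ⟨Subgroup.map_mono (Subgroup.comap_mono S.Q_le), ?_⟩
    rintro _ ⟨q, hq, rfl⟩ g hg
    obtain ⟨g, rfl⟩ := QuotientGroup.mk'_surjective _ g
    rw [← map_inv, ← map_mul, ← map_mul] at hg ⊢
    rw [S.mem_img S.z_mem_Q]
    rw [S.sylX_coe, S.mem_img hzP] at hg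
    exact S.Q_closed (mem_centralizer_singleton_iff.1 g.2) (Subgroup.mem_subgroupOf.1 hq) hg
  refine ⟨(Subgroup.map_mono (Subgroup.comap_mono hWQ)).trans hQcl.1, ?_⟩
  rintro _ ⟨w, hw, rfl⟩ g hg
  have hwQ : S.pi w ∈ S.img S.Q := ⟨w, hWQ hw, rfl⟩
  obtain ⟨n, hn, hnw⟩ := exists_normalizing_conj S.sylX hQcl (S.img_comm le_rfl le_rfl) hwQ
    (hQcl.2 _ hwQ g hg)
  obtain ⟨k, rfl⟩ := QuotientGroup.mk'_surjective _ n
  rw [← hnw, ← map_inv, ← map_mul, ← map_mul, S.mem_img hzW]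
  refine hst k (mem_centralizer_singleton_iff.1 k.2) (fun q hq => ?_) w (Subgroup.mem_subgroupOf.1 hw)
  have := hn (S.pi ⟨q, S.Q_le_C hq⟩) ⟨_, hq, rfl⟩
  rwa [← map_inv, ← map_mul, ← map_mul, S.mem_img S.z_mem_Q] at this

theorem img_disjoint : S.img S.W1 ⊓ S.img S.W2 = ⊥ := by
  refine le_bot_iff.1 ?_
  rintro _ ⟨⟨a, ha, rfl⟩, hb⟩
  replace hb := (S.mem_img S.z_mem_W2).1 hb
  obtain ⟨x, hx, hxw, hxe⟩ := (Subgroup.mem_subgroupOf.1 ha : (a : G) ∈ S.W1)
  rw [← hxe, S.mem_W2 hx] at hb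
  have h := allB_spec chk_wsub x hx
  simp only [hxw, hb, Bool.and_eq_true, Bool.and_self, Bool.not_true, Bool.false_or] at h
  have hz := allB_spec chk_w x hx
  simp only [h.1.1.2, Bool.and_eq_true, Bool.or_eq_true, Bool.not_true, Bool.false_eq_true,
    false_or, Nat.beq_eq] at hz
  rw [Subgroup.mem_bot, ← map_one S.pi, S.pi_eq, Subgroup.coe_one, ← hxe]
  rcases hz.2 with rfl | rfl
  · exact Or.inl S.co.e_zero.symm
  · refine Or.inr ?_
    rw [S.co.sq_eq (by omega), show tm 0 16 16 = 0 from by decide +kernel, S.co.e_zero]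

theorem Q_eq_sup : S.img S.Q = S.img S.W1 ⊔ S.img S.W2 := by
  refine le_antisymm ?_ (sup_le (Subgroup.map_mono (Subgroup.comap_mono S.W1_le))
    (Subgroup.map_mono (Subgroup.comap_mono S.W2_le)))
  rintro _ ⟨a, ha, rfl⟩
  obtain ⟨x, hx, hxq, hxe⟩ := (Subgroup.mem_subgroupOf.1 ha : (a : G) ∈ S.Q)
  have h := allB_spec chk_wsub x hx
  simp only [hxq, Bool.and_eq_true, Bool.not_true, Bool.false_or] at h
  obtain ⟨u, hu, huv⟩ := anyB_spec h.2
  simp only [Bool.and_eq_true] at huv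
  obtain ⟨v, hv, hvc⟩ := anyB_spec huv.2
  simp only [Bool.and_eq_true, Nat.beq_eq] at hvc
  have huQ := S.W1_le ((S.mem_W1 hu).2 huv.1)
  have hvQ := S.W2_le ((S.mem_W2 hv).2 hvc.1)
  have e : a = (⟨S.co.e u, S.Q_le_C huQ⟩ : S.C) * ⟨S.co.e v, S.Q_le_C hvQ⟩ := by
    refine Subtype.ext ?_
    rw [← hxe, Subgroup.coe_mul, ← S.co.e_mul u hu v hv, hvc.2]
  rw [e, map_mul]
  exact mul_mem (le_sup_left (b := S.img S.W2) ⟨_, (S.mem_W1 hu).2 huv.1, rfl⟩)
    (le_sup_right (a := S.img S.W1) ⟨_, (S.mem_W2 hv).2 hvc.1, rfl⟩)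

theorem hcs_of {W : Subgroup G} {q : ℕ → Bool} (hmem : ∀ x < 64, S.co.e x ∈ W ↔ q x = true)
    (hWQ : W ≤ S.Q) (hchk : ∀ s < 64, centMod q s = true → qf s = true) :
    ∀ s ∈ (S.sylX : Subgroup S.X), (∀ b ∈ S.img W, s * b = b * s) → s ∈ S.img S.Q := by
  rintro _ ⟨s, hs, rfl⟩ hc
  obtain ⟨x, hx, hxe⟩ := (S.co.mem_iff _).1 (Subgroup.mem_subgroupOf.1 hs : (s : G) ∈ (P : Subgroup G))
  refine (S.mem_img S.z_mem_Q).2 ?_
  rw [← hxe, S.mem_Q hx]
  refine hchk x hx ?_
  have key : ∀ {n : ℕ} {f : ℕ → Bool}, (∀ i < n, f i = true) → allB n f = true := by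
    intro n f hf
    induction n with
    | zero => rfl
    | succ n ih =>
      simp only [allB, Bool.and_eq_true]
      exact ⟨hf n (Nat.lt_succ_self n), ih fun i hi => hf i (Nat.lt_succ_of_lt hi)⟩
  refine key fun v hv => ?_
  by_cases hvq : q v = true
  · have h1 := hc _ ⟨⟨S.co.e v, S.Q_le_C (hWQ ((hmem v hv).2 hvq))⟩, (hmem v hv).2 hvq, rfl⟩
    rw [← map_mul, ← map_mul, S.pi_eq, Subgroup.coe_mul, Subgroup.coe_mul, ← hxe,
      ← S.co.e_mul x hx v hv, ← S.co.e_mul v hv x hx, ← S.co.e_mul _ (tm_lt _ _ _) 16 (by omega)] at h1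
    simp only [hvq, Bool.not_true, Bool.false_or, Bool.or_eq_true, Nat.beq_eq]
    rcases h1 with h1 | h1
    · exact Or.inl (S.co.e_inj _ (tm_lt _ _ _) _ (tm_lt _ _ _) h1).symm
    · refine Or.inr (S.co.e_inj _ (tm_lt _ _ _) _ (tm_lt _ _ _) ?_)
      rw [S.co.e_mul _ (tm_lt _ _ _) 16 (by omega), h1, S.co.e_mul _ (tm_lt _ _ _) 16 (by omega),
        mul_assoc, S.co.sq_eq (by omega), show tm 0 16 16 = 0 from by decide +kernel, S.co.e_zero,
        mul_one]
  · rw [Bool.eq_false_iff.2 hvq]; rfl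

theorem hA_of {Wa Wb : Subgroup G} {qa qb : ℕ → Bool} (_hzb : S.co.e 16 ∈ Wb) (hza : S.co.e 16 ∈ Wa)
    (ha : ∀ x < 64, S.co.e x ∈ Wa ↔ qa x = true) (hb : ∀ x < 64, S.co.e x ∈ Wb ↔ qb x = true)
    (haQ : Wa ≤ S.Q) (hbQ : Wb ≤ S.Q)
    (hzero : ∀ x < 64, zf x = true → x = 0 ∨ x = 16)
    (hid : ∀ u < 64, ∀ u' < 64, qa u = true → qa u' = true → zf u = true ∨ u' ∈ [u, tm 0 u 16] ∨
      ∃ v < 64, qb v = true ∧
        ((tm 0 u v ∈ zset ∧ tm 0 u' v ∉ zset ∧ tm 0 u' (tm 0 v 16) ∉ zset) ∨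
         (tm 0 v u ∈ zset ∧ tm 0 v u' ∉ zset ∧ tm 0 (tm 0 v 16) u' ∉ zset))) :
    ∀ x : S.X, (∀ a ∈ S.img Wa, x * a * x⁻¹ ∈ S.img Wa) → (∀ b ∈ S.img Wb, x * b = b * x) →
      ∀ a ∈ S.img Wa, x * a = a * x := by
  intro x h1 h2
  obtain ⟨g, rfl⟩ := QuotientGroup.mk'_surjective _ x
  rintro _ ⟨a, haa, rfl⟩
  obtain ⟨u, hu, hue⟩ := (S.co.mem_iff _).1 (S.Q_le (haQ (Subgroup.mem_subgroupOf.1 haa)))
  have hua : qa u = true := (ha u hu).1 (hue ▸ Subgroup.mem_subgroupOf.1 haa)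
  have h1' := h1 _ ⟨a, haa, rfl⟩
  rw [← map_inv, ← map_mul, ← map_mul, S.mem_img hza] at h1'
  obtain ⟨u', hu', hue'⟩ := (S.co.mem_iff _).1 (S.Q_le (haQ h1'))
  have hu'a : qa u' = true := (ha u' hu').1 (hue' ▸ h1')
  rw [Subgroup.coe_mul, Subgroup.coe_mul, Subgroup.coe_inv, ← hue] at hue'
  have hgz : (g : G) * S.co.e 16 * (g : G)⁻¹ = S.co.e 16 :=
    conj_fix (mem_centralizer_singleton_iff.1 g.2)
  rw [← mul_inv_eq_iff_eq_mul, ← map_inv, ← map_mul, ← map_mul, S.pi_eq, Subgroup.coe_mul,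
    Subgroup.coe_mul, Subgroup.coe_inv, ← hue]
  rcases hid u hu u' hu' hua hu'a with hz | hm | ⟨v, hv, hvb, hbad⟩
  · left
    rcases hzero u hu hz with rfl | rfl
    · rw [S.co.e_zero]; group
    · rw [hgz]
  · simp only [List.mem_cons, List.not_mem_nil, or_false] at hm
    rcases hm with rfl | rfl
    · exact Or.inl hue'
    · refine Or.inr ?_
      rw [← hue', S.co.e_mul u hu 16 (by omega), mul_assoc, S.co.sq_eq (by omega),
        show tm 0 16 16 = 0 from by decide +kernel, S.co.e_zero, mul_one]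
  · exfalso
    have h2' := h2 _ ⟨⟨S.co.e v, S.Q_le_C (hbQ ((hb v hv).2 hvb))⟩, (hb v hv).2 hvb, rfl⟩
    rw [← mul_inv_eq_iff_eq_mul, ← map_inv, ← map_mul, ← map_mul, S.pi_eq, Subgroup.coe_mul,
      Subgroup.coe_mul, Subgroup.coe_inv] at h2'
    obtain ⟨v', hv', hve⟩ : ∃ v', (v' = v ∨ v' = tm 0 v 16) ∧
        S.co.e v' = (g : G) * S.co.e v * (g : G)⁻¹ := by
      rcases h2' with e | e
      · exact ⟨v, Or.inl rfl, e⟩
      · refine ⟨tm 0 v 16, Or.inr rfl, ?_⟩
        replace e : S.co.e v = (g : G) * S.co.e v * (g : G)⁻¹ * S.co.e 16 := e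
        rw [S.co.e_mul v hv 16 (by omega)]
        nth_rewrite 1 [e]
        rw [mul_assoc, S.co.sq_eq (by omega),
          show tm 0 16 16 = 0 from by decide +kernel, S.co.e_zero, mul_one]
    have hv'64 : v' < 64 := by rcases hv' with rfl | rfl; exacts [hv, tm_lt _ _ _]
    rcases hbad with ⟨p1, p2, p3⟩ | ⟨p1, p2, p3⟩
    · have e : (g : G) * S.co.e (tm 0 u v) * (g : G)⁻¹ = S.co.e (tm 0 u' v') := by
        rw [S.co.e_mul u hu v hv, S.co.e_mul u' hu' v' hv'64, hve, hue']; group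
      have := (S.zset_conj (tm_lt _ _ _) (tm_lt _ _ _) e).1 p1
      rcases hv' with rfl | rfl
      exacts [p2 this, p3 this]
    · have e : (g : G) * S.co.e (tm 0 v u) * (g : G)⁻¹ = S.co.e (tm 0 v' u') := by
        rw [S.co.e_mul v hv u hu, S.co.e_mul v' hv'64 u' hu', hve, hue']; group
      have := (S.zset_conj (tm_lt _ _ _) (tm_lt _ _ _) e).1 p1
      rcases hv' with rfl | rfl
      exacts [p2 this, p3 this]

/-- `Q` is normal modulo the core in the quotient by `⟨z⟩`. -/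
theorem normal_mod : (S.img S.Q ⊔ Cfsg.pPrimeCore 2 S.X).Normal := by
  have c1 := S.img_closed S.W1_le S.z_mem_W1 fun n h1 h2 => S.W1_stable h1 h2
  have c2 := S.img_closed S.W2_le S.z_mem_W2 fun n h1 h2 => S.W2_stable h1 h2
  have hc := S.img_comm S.W1_le S.W2_le
  have hzero : ∀ x < 64, zf x = true → x = 0 ∨ x = 16 := fun x hx h => by
    have hz := allB_spec chk_w x hx
    simp only [h, Bool.and_eq_true, Bool.or_eq_true, Bool.not_true, Bool.false_eq_true,
      false_or, Nat.beq_eq] at hz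
    exact hz.2
  have hs : ∀ s < 64, (centMod w1 s = true → qf s = true) ∧ (centMod w2 s = true → qf s = true) := by
    intro s hs
    have h := allB_spec chk_centMod s hs
    simp only [Bool.and_eq_true, Bool.or_eq_true, Bool.not_eq_true', ← Bool.not_eq_true] at h
    exact ⟨fun hc => h.1.resolve_left (fun h => h hc), fun hc => h.2.resolve_left (fun h => h hc)⟩
  have hA1 := S.hA_of (Wa := S.W1) (Wb := S.W2) S.z_mem_W2 S.z_mem_W1 (fun x hx => S.mem_W1 hx)
    (fun x hx => S.mem_W2 hx) S.W1_le S.W2_le hzero (fun u hu u' hu' h h' => by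
      have hi := allB_spec (allB_spec chk_ident u hu) u' hu'
      simp only [Bool.and_eq_true, Bool.or_eq_true, Bool.not_eq_true', ← Bool.not_eq_true, h, h',
        and_self, not_true_eq_false, false_or, inL_iff] at hi
      rcases hi.1 with (h1 | h1) | h1
      · exact Or.inl h1
      · exact Or.inr (Or.inl h1)
      · obtain ⟨v, hv, hv'⟩ := anyB_spec h1
        simp only [Bool.and_eq_true, Bool.not_eq_true', ← Bool.not_eq_true, inL_iff] at hv'
        exact Or.inr (Or.inr ⟨v, hv, hv'.1.1.1, Or.inl ⟨hv'.1.1.2, hv'.1.2, hv'.2⟩⟩))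
  have hA2 := S.hA_of (Wa := S.W2) (Wb := S.W1) S.z_mem_W1 S.z_mem_W2 (fun x hx => S.mem_W2 hx)
    (fun x hx => S.mem_W1 hx) S.W2_le S.W1_le hzero (fun u hu u' hu' h h' => by
      have hi := allB_spec (allB_spec chk_ident u hu) u' hu'
      simp only [Bool.and_eq_true, Bool.or_eq_true, Bool.not_eq_true', ← Bool.not_eq_true, h, h',
        and_self, not_true_eq_false, false_or, inL_iff] at hi
      rcases hi.2 with (h1 | h1) | h1
      · exact Or.inl h1
      · exact Or.inr (Or.inl h1)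
      · obtain ⟨v, hv, hv'⟩ := anyB_spec h1
        simp only [Bool.and_eq_true, Bool.not_eq_true', ← Bool.not_eq_true, inL_iff] at hv'
        exact Or.inr (Or.inr ⟨v, hv, hv'.1.1.1, Or.inr ⟨hv'.1.1.2, hv'.1.2, hv'.2⟩⟩))
  have hcs1 := S.hcs_of (W := S.W2) (fun x hx => S.mem_W2 hx) S.W2_le fun s hs' => (hs s hs').2
  have hcs2 := S.hcs_of (W := S.W1) (fun x hx => S.mem_W1 hx) S.W1_le fun s hs' => (hs s hs').1
  rw [S.Q_eq_sup] at hcs1 hcs2 ⊢
  have n1 := normalClosure_le_of_pair S.sylX _ _ c1 c2 hc (S.img_comm S.W1_le S.W1_le)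
    (S.img_comm S.W2_le S.W2_le) S.img_disjoint hcs1 hA1
  have n2 := normalClosure_le_of_pair S.sylX _ _ c2 c1 (fun a ha b hb => (hc b hb a ha).symm)
    (S.img_comm S.W2_le S.W2_le) (S.img_comm S.W1_le S.W1_le) (by rw [inf_comm]; exact S.img_disjoint)
    (by rw [sup_comm]; exact hcs2) hA2
  rw [sup_comm (S.img S.W2)] at n2
  haveI := Cfsg.pPrimeCore_normal 2 S.X
  have e : S.img S.W1 ⊔ S.img S.W2 ⊔ Cfsg.pPrimeCore 2 S.X =
      Subgroup.normalClosure (S.img S.W1 : Set S.X) ⊔ Subgroup.normalClosure (S.img S.W2 : Set S.X) ⊔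
        Cfsg.pPrimeCore 2 S.X :=
    le_antisymm (sup_le_sup_right (sup_le_sup Subgroup.le_normalClosure Subgroup.le_normalClosure) _)
      (sup_le (sup_le n1 n2) le_sup_right)
  rw [e]
  infer_instance

/-- `Q O(C(z))` is normal in `C(z)`. -/
theorem Q_sup_core : ∀ g : S.C, ∀ q ∈ S.Q.subgroupOf S.C,
    g * q * g⁻¹ ∈ S.Q.subgroupOf S.C ⊔ Cfsg.pPrimeCore 2 S.C := by
  haveI : Fact (Nat.Prime 2) := ⟨Nat.prime_two⟩
  intro g q hq
  haveI := Cfsg.pPrimeCore_normal 2 S.X
  set K0 := (Cfsg.pPrimeCore 2 S.X).comap S.pi with hK0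
  haveI hK0n : K0.Normal := Subgroup.Normal.comap inferInstance _
  have hzK : S.zC ∈ K0 := by
    rw [hK0, Subgroup.mem_comap, show S.pi S.zC = 1 from
      (QuotientGroup.eq_one_iff _).2 (Subgroup.mem_zpowers _)]
    exact one_mem _
  have hK4 : ¬ 4 ∣ Nat.card K0 := by
    intro h
    have h1 : Nat.card K0 = 2 * Nat.card (Cfsg.pPrimeCore 2 S.X) := by
      have h2 := Subgroup.relIndex_mul_relIndex ⊥ (Subgroup.zpowers S.zC) K0 bot_le
        (Subgroup.zpowers_le.2 hzK)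
      rw [Subgroup.relIndex_bot_left, Subgroup.relIndex_bot_left, Nat.card_zpowers, S.zC_order] at h2
      have h3 := Subgroup.relIndex_comap (⊥ : Subgroup S.X) S.pi K0
      rw [MonoidHom.comap_bot, QuotientGroup.ker_mk',
        Subgroup.map_comap_eq_self_of_surjective (QuotientGroup.mk'_surjective _),
        Subgroup.relIndex_bot_left] at h3
      rw [← h2, h3]
    rw [h1, show 4 = 2 * 2 from rfl] at h
    have h5 := Nat.dvd_of_mul_dvd_mul_left (by norm_num) h
    exact Nat.prime_two.coprime_iff_not_dvd.1 (Cores.pPrimeCore_coprime 2).symm h5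
  have hK0le := odd_part K0 hzK S.zC_order S.zC_comm hK4
  have h := S.normal_mod.conj_mem (S.pi q) (le_sup_left (b := Cfsg.pPrimeCore 2 S.X) ⟨q, hq, rfl⟩)
    (S.pi g)
  obtain ⟨a, ⟨a', ha', rfl⟩, o, ho, he⟩ := exists_mul_of_sup h
  obtain ⟨o', rfl⟩ := QuotientGroup.mk'_surjective _ o
  rw [← map_inv, ← map_mul, ← map_mul, ← map_mul] at he
  have h1 : a'⁻¹ * (g * q * g⁻¹) ∈ K0 := by
    rw [hK0, Subgroup.mem_comap, map_mul, map_inv, he, map_mul, inv_mul_cancel_left]
    exact ho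
  rw [show g * q * g⁻¹ = a' * (a'⁻¹ * (g * q * g⁻¹)) by group]
  refine mul_mem (le_sup_left (b := Cfsg.pPrimeCore 2 S.C) ha') ?_
  refine sup_le_sup_right (Subgroup.zpowers_le.2 ?_) _ (hK0le h1)
  exact S.z_mem_Q

end Std

end Cfsg.Agent.Lib.M12Sylow18
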