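import Cfsg.Agent.Lib.M12Sylow18.Fused
import Cfsg.Agent.Lib.G2Fusion23.Transfer
import Cfsg.Agent.Lib.Involutions.StronglyEmbedded
import Cfsg.Agent.S1169

/-!
# The two classes of involutions
-/

set_option autoImplicit false
set_option linter.style.haveILetI false

namespace Cfsg.Agent.Lib.M12Sylow18

open Cfsg.Agent.Lib.M12Sylow18.Mod
open Subgroup
open scoped Pointwise

variable {G : Type*} [Group G]

/-- Membership in a list of codes. -/
def inL : List ℕ → ℕ → Bool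
  | [], _ => false
  | a :: l, x => Nat.beq x a || inL l x

theorem inL_iff {l : List ℕ} {x : ℕ} : inL l x = true ↔ x ∈ l := by
  induction l with
  | nil => simp [inL]
  | cons a l ih => simp [inL, ih, Nat.beq_eq]

/-- The codes of `⟨b, z⟩#`. -/
def clB : List ℕ := [1, 16, 17]
/-- The class of `a`. -/
def clA : List ℕ := [2, 3, 10, 11, 18, 19, 26, 27]
/-- The class of `c`. -/
def clC : List ℕ := [32, 33, 48, 49]
/-- The class of `f² c`. -/
def clC' : List ℕ := [40, 41, 56, 57]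
/-- The class of `f a`. -/
def clFA : List ℕ := [6, 14, 22, 30]
/-- The class of `f a c`. -/
def clFAC : List ℕ := [38, 47, 54, 63]
/-- The conjugates of the central involution. -/
def zset : List ℕ := [1, 2, 3, 10, 11, 16, 17, 18, 19, 26, 27, 32, 33, 48, 49]
/-- The other involutions. -/
def tset : List ℕ := [6, 14, 22, 30, 38, 40, 41, 47, 54, 56, 57, 63]

theorem chk_inv : allB 64 (fun x => !isInv 0 x || inL zset x || inL tset x) = true := by decide +kernel

theorem chk_lists : allB 64 (fun x =>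
    (!inL zset x || inL clB x || inL clA x || inL clC x) &&
    (!inL tset x || inL clFA x || inL clFAC x || inL clC' x) &&
    (!(inL zset x || inL tset x) || isInv 0 x)) = true := by decide +kernel

theorem chk_classes : allB 64 (fun x =>
    (!inL clA x || anyB 64 fun y => Nat.beq (tm 0 y 2) (tm 0 x y)) &&
    (!inL clC x || anyB 64 fun y => Nat.beq (tm 0 y 32) (tm 0 x y)) &&
    (!inL clC' x || anyB 64 fun y => Nat.beq (tm 0 y 40) (tm 0 x y)) &&
    (!inL clFA x || anyB 64 fun y => Nat.beq (tm 0 y 6) (tm 0 x y)) &&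
    (!inL clFAC x || anyB 64 fun y => Nat.beq (tm 0 y 38) (tm 0 x y))) = true := by decide +kernel

theorem chk_move : allB 64 (fun u => !(isInv 0 u && com 0 u 1) || inB u ||
    allB 64 fun v => !(isInv 0 v && com 0 v 1) || inB v ||
      !(inL [1, 17] (tm 0 (tm 0 u v) (tm 0 u v))) ||
      inL clC u || inL clC' u || inL clC v || inL clC' v) = true := by decide +kernel

theorem chk_facts : (com 0 2 1 && com 0 10 1 && isInv 0 2 && isInv 0 10 &&
    Nat.beq (tm 0 (tm 0 2 10) (tm 0 2 10)) 16 && inL clA 10 &&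
    Nat.beq (tm 0 1 17) 16 && Nat.beq (tm 0 16 17) 1 && Nat.beq (tm 0 16 1) 17 &&
    allB 64 fun y => allB 64 fun x => !inL clB x || anyB 64 fun w => inL clB w &&
      Nat.beq (tm 0 y x) (tm 0 w y)) = true := by decide +kernel

/-- The coordinate change exchanging the classes of `c` and `f² c`. -/
def sigma (x : ℕ) : ℕ :=
  tm 0 (tm 0 (tm 0 (4 * ci x) (10 * cj x)) (cl x)) (56 * ce x)

theorem chk_sigma : allB 64 (fun x => Nat.blt (sigma x) 64 && allB 64 fun y =>
    Nat.beq (sigma (tm 0 x y)) (tm 0 (sigma x) (sigma y))) = true := by decide +kernel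

theorem chk_sigma_inv : allB 64 (fun x => (anyB 64 fun y => Nat.beq (sigma y) x) &&
    allB 64 fun y => !Nat.beq (sigma x) (sigma y) || Nat.beq x y) = true := by decide +kernel

theorem chk_sigma_facts : (Nat.beq (sigma 1) 1 && Nat.beq (sigma 16) 16 && Nat.beq (sigma 17) 17 &&
    inL clC' (sigma 32) && inL clA (sigma 2)) = true := by decide +kernel

namespace Co

variable {P : Subgroup G} (C : Co P 0)

/-- The other coordinates. -/
def reindex : Co P 0 where
  e x := C.e (sigma x)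
  p_lt := C.p_lt
  e_mul x hx y hy := by
    have h := allB_spec chk_sigma x hx
    have h' := allB_spec chk_sigma y hy
    simp only [Bool.and_eq_true] at h h'
    rw [Nat.eq_of_beq_eq_true (allB_spec h.2 y hy)]
    exact C.e_mul _ (Nat.le_of_ble_eq_true h.1) _ (Nat.le_of_ble_eq_true h'.1)
  e_inj x hx y hy h := by
    have hs := allB_spec chk_sigma x hx
    have hs' := allB_spec chk_sigma y hy
    simp only [Bool.and_eq_true] at hs hs'
    have e := C.e_inj _ (Nat.le_of_ble_eq_true hs.1) _ (Nat.le_of_ble_eq_true hs'.1) h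
    have h2 := allB_spec chk_sigma_inv x hx
    simp only [Bool.and_eq_true] at h2
    have := allB_spec h2.2 y hy
    rw [e, Nat.beq_refl, Bool.not_true, Bool.false_or] at this
    exact Nat.eq_of_beq_eq_true this
  mem_iff g := by
    rw [C.mem_iff]
    constructor
    · rintro ⟨x, hx, rfl⟩
      have h2 := allB_spec chk_sigma_inv x hx
      simp only [Bool.and_eq_true] at h2
      obtain ⟨y, hy, hye⟩ := anyB_spec h2.1
      exact ⟨y, hy, by rw [Nat.eq_of_beq_eq_true hye]⟩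
    · rintro ⟨x, hx, rfl⟩
      have hs := allB_spec chk_sigma x hx
      simp only [Bool.and_eq_true] at hs
      exact ⟨_, Nat.le_of_ble_eq_true hs.1, rfl⟩

/-- Conjugation preserves the image of `⟨b, z⟩`. -/
def NB (g : G) : Prop := ∀ w ∈ clB, ∃ w' ∈ clB, g * C.e w * g⁻¹ = C.e w'

theorem NB.mul {g h : G} (hg : C.NB g) (hh : C.NB h) : C.NB (g * h) := by
  intro w hw
  obtain ⟨w', hw', e⟩ := hh w hw
  obtain ⟨w'', hw'', e'⟩ := hg w' hw'
  exact ⟨w'', hw'', by rw [← conj_comp, e, e']⟩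

theorem nb_of_mem {g : G} (hg : g ∈ P) : C.NB g := by
  intro w hw
  obtain ⟨y, hy, rfl⟩ := (C.mem_iff g).1 hg
  have h := chk_facts
  simp only [Bool.and_eq_true] at h
  have hw64 : w < 64 := by fin_cases hw <;> omega
  have h' := allB_spec (allB_spec h.2 y hy) w hw64
  rw [inL_iff.2 hw, Bool.not_true, Bool.false_or] at h'
  obtain ⟨w', hw', hc⟩ := anyB_spec h'
  simp only [Bool.and_eq_true, inL_iff, Nat.beq_eq] at hc
  exact ⟨w', hc.1, C.conj_code hw64 hy hw' hc.2⟩

theorem conj_in {x x0 : ℕ} (hx : x < 64) (hx0 : x0 < 64)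
    (h : (anyB 64 fun y => Nat.beq (tm 0 y x0) (tm 0 x y)) = true) :
    ∃ s ∈ P, s * C.e x0 * s⁻¹ = C.e x := by
  obtain ⟨y, hy, hye⟩ := anyB_spec h
  exact ⟨_, C.mem hy, C.conj_code hx0 hy hx (Nat.eq_of_beq_eq_true hye)⟩

theorem class_conj {x : ℕ} (hx : x < 64) :
    (x ∈ clA → ∃ s ∈ P, s * C.e 2 * s⁻¹ = C.e x) ∧ (x ∈ clC → ∃ s ∈ P, s * C.e 32 * s⁻¹ = C.e x) ∧
    (x ∈ clC' → ∃ s ∈ P, s * C.e 40 * s⁻¹ = C.e x) ∧ (x ∈ clFA → ∃ s ∈ P, s * C.e 6 * s⁻¹ = C.e x) ∧
    (x ∈ clFAC → ∃ s ∈ P, s * C.e 38 * s⁻¹ = C.e x) := by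
  have h := allB_spec chk_classes x hx
  simp only [Bool.and_eq_true, Bool.or_eq_true, Bool.not_eq_true'] at h
  refine ⟨fun hm => ?_, fun hm => ?_, fun hm => ?_, fun hm => ?_, fun hm => ?_⟩ <;>
    refine C.conj_in hx (by omega) ?_
  · exact h.1.1.1.1.resolve_left (by rw [inL_iff.2 hm]; simp)
  · exact h.1.1.1.2.resolve_left (by rw [inL_iff.2 hm]; simp)
  · exact h.1.1.2.resolve_left (by rw [inL_iff.2 hm]; simp)
  · exact h.1.2.resolve_left (by rw [inL_iff.2 hm]; simp)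
  · exact h.2.resolve_left (by rw [inL_iff.2 hm]; simp)

end Co

theorem isInv_iff {p x : ℕ} : isInv p x = true ↔ tm p x x = 0 ∧ x ≠ 0 := by
  simp [isInv, Nat.beq_eq, ← Bool.not_eq_true]

/-- The coordinates are normalised: `a` is conjugate to `c` under the normaliser of `⟨b, z⟩`. -/
def Normed {P : Subgroup G} (C : Co P 0) : Prop :=
  ∃ g : G, C.NB g ∧ g * C.e 2 * g⁻¹ = C.e 32

variable [Finite G] {P : Sylow 2 G}

/-- `b` is moved to `z` inside the normaliser of `⟨b, z⟩`. -/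
theorem Ctx.exists_move (K : Ctx P 0) : ∃ m : G, K.co.NB m ∧ m * K.co.e 1 * m⁻¹ = K.co.e 16 ∧
    ∀ v < 64, com 0 v 1 = true → ∃ v' < 64, com 0 v' 1 = true ∧
      K.co.e v' = m * K.co.e v * m⁻¹ := by
  obtain ⟨-, m, hm, hzm, hmap⟩ := K.type_eq
  refine ⟨m, ?_, hm, hmap⟩
  have h := chk_facts
  simp only [Bool.and_eq_true, Nat.beq_eq] at h
  intro w hw
  fin_cases hw
  · exact ⟨16, by simp [clB], hm⟩
  · rcases hzm with e | e
    · exact ⟨1, by simp [clB], e⟩
    · exact ⟨17, by simp [clB], e⟩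
  · have e17 : m * K.co.e 17 * m⁻¹ = (m * K.co.e 1 * m⁻¹) * (m * K.co.e 16 * m⁻¹) := by
      rw [← K.co.e_one_z]; group
    rw [e17, hm]
    rcases hzm with e | e <;> rw [e, ← K.co.e_mul 16 (by omega) _ (by omega)]
    · exact ⟨17, by simp [clB], by rw [h.1.2]⟩
    · exact ⟨1, by simp [clB], by rw [h.1.1.2]⟩

/-- The coordinates can be normalised. -/
theorem Ctx.exists_normed (K : Ctx P 0) : ∃ K' : Ctx P 0, Normed K'.co := by
  obtain ⟨m, hNB, hm, hmap⟩ := K.exists_move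
  have h := chk_facts
  simp only [Bool.and_eq_true, Nat.beq_eq] at h
  obtain ⟨⟨⟨⟨⟨⟨⟨⟨⟨hc2, hc10⟩, hi2⟩, hi10⟩, hroot⟩, h10A⟩, -⟩, -⟩, -⟩, -⟩ := h
  obtain ⟨u, hu, huc, hue⟩ := hmap 2 (by omega) hc2
  obtain ⟨v, hv, hvc, hve⟩ := hmap 10 (by omega) hc10
  have notB : ∀ (x : ℕ) (w : ℕ), x < 64 → isInv 0 x = true → x ∈ [2, 10] →
      K.co.e w = m * K.co.e x * m⁻¹ → w < 64 → isInv 0 w = true ∧ inB w = false := by
    intro x w hx hxi hxm hwe hw
    obtain ⟨hxx, hx0⟩ := isInv_iff.1 hxi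
    have hord : orderOf (K.co.e w) = 2 := by rw [hwe, order_conj, K.co.orderOf_invol hx hx0 hxx]
    obtain ⟨hw0, hww⟩ := K.co.invol_code hw hord
    refine ⟨isInv_iff.2 ⟨hww, hw0⟩, Bool.eq_false_iff.2 fun hB => ?_⟩
    have key : ∀ y ∈ clB, m * K.co.e y * m⁻¹ ≠ K.co.e w := by
      intro y hy e
      rw [hwe] at e
      have := K.co.e_inj y (by fin_cases hy <;> omega) x hx (mul_left_cancel (mul_right_cancel e))
      fin_cases hy <;> fin_cases hxm <;> omega
    have hall : ∀ w' ∈ clB, ∃ y ∈ clB, m * K.co.e y * m⁻¹ = K.co.e w' := by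
      intro w' hw'
      let φ : {n // n ∈ clB} → {n // n ∈ clB} := fun y =>
        ⟨Classical.choose (hNB y y.2), (Classical.choose_spec (hNB y y.2)).1⟩
      have hφ : ∀ y : {n // n ∈ clB}, m * K.co.e y * m⁻¹ = K.co.e (φ y) := fun y =>
        (Classical.choose_spec (hNB y y.2)).2
      have hlt : ∀ y : {n // n ∈ clB}, (y : ℕ) < 64 := by
        rintro ⟨y, hy⟩
        fin_cases hy <;> simp
      have hinj : Function.Injective φ := fun y y' e => Subtype.ext
        (K.co.e_inj _ (hlt y) _ (hlt y') (mul_left_cancel (mul_right_cancel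
          ((hφ y).trans ((congrArg (fun t : {n // n ∈ clB} => K.co.e t) e).trans (hφ y').symm)))))
      obtain ⟨y, hy⟩ := Finite.surjective_of_injective hinj ⟨w', hw'⟩
      exact ⟨y, y.2, by rw [hφ y, hy]⟩
    obtain ⟨y, hy, e⟩ := hall w (by
      rcases inB_iff.1 hB with rfl | rfl | rfl <;> simp [clB])
    exact key y hy e
  obtain ⟨hui, huB⟩ := notB 2 u (by omega) hi2 (by simp) hue hu
  obtain ⟨hvi, hvB⟩ := notB 10 v (by omega) hi10 (by simp) hve hv
  have hsq : inL [1, 17] (tm 0 (tm 0 u v) (tm 0 u v)) = true := by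
    rw [inL_iff]
    have e : K.co.e (tm 0 (tm 0 u v) (tm 0 u v)) = m * K.co.e 16 * m⁻¹ := by
      rw [← hroot, K.co.e_mul _ (tm_lt _ _ _) _ (tm_lt _ _ _), K.co.e_mul _ hu _ hv, hue, hve,
        K.co.e_mul _ (tm_lt _ _ _) _ (tm_lt _ _ _), K.co.e_mul 2 (by omega) 10 (by omega)]
      group
    obtain ⟨w', hw', hw'e⟩ := hNB 16 (by simp [clB])
    have := K.co.e_inj _ (tm_lt _ _ _) w' (by fin_cases hw' <;> omega) (e.trans hw'e)
    fin_cases hw' <;> simp_all
    · have := K.co.e_inj 1 (by omega) 16 (by omega) (mul_left_cancel (mul_right_cancel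
        (hm.trans hw'e.symm)))
      omega
  have h' := allB_spec chk_move u hu
  rw [hui, huc, huB] at h'
  simp only [Bool.and_true, Bool.not_true, Bool.false_or] at h'
  have h'' := allB_spec h' v hv
  rw [hvi, hvc, hvB, hsq] at h''
  simp only [Bool.and_true, Bool.not_true, Bool.false_or, Bool.or_eq_true, inL_iff] at h''
  -- an element of the class of `a` reaches the class of `c` or of `f² c`
  obtain ⟨g, x, hgNB, hxC, hgx⟩ : ∃ g x, K.co.NB g ∧ (x ∈ clC ∨ x ∈ clC') ∧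
      g * K.co.e 2 * g⁻¹ = K.co.e x := by
    obtain ⟨s, hs, hse⟩ := (K.co.class_conj (x := 10) (by omega)).1 (inL_iff.1 h10A)
    rcases h'' with ((h | h) | h) | h
    · exact ⟨m, u, hNB, Or.inl h, hue.symm⟩
    · exact ⟨m, u, hNB, Or.inr h, hue.symm⟩
    · exact ⟨m * s, v, Co.NB.mul K.co hNB (K.co.nb_of_mem hs), Or.inl h,
        by rw [← conj_comp, hse, hve]⟩
    · exact ⟨m * s, v, Co.NB.mul K.co hNB (K.co.nb_of_mem hs), Or.inr h,
        by rw [← conj_comp, hse, hve]⟩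
  have hx : x < 64 := by rcases hxC with h | h <;> fin_cases h <;> omega
  rcases hxC with hC | hC
  · obtain ⟨s, hs, hse⟩ := (K.co.class_conj hx).2.1 hC
    refine ⟨K, s⁻¹ * g, Co.NB.mul K.co (K.co.nb_of_mem (P.1.inv_mem hs)) hgNB, ?_⟩
    rw [← conj_comp, hgx, ← hse]
    group
  · have hf := chk_sigma_facts
    simp only [Bool.and_eq_true, Nat.beq_eq, inL_iff] at hf
    obtain ⟨⟨⟨⟨h1, h16⟩, h17⟩, h32⟩, h2⟩ := hf
    have hz : K.co.reindex.e 16 = K.co.e 16 := congrArg K.co.e h16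
    let K' : Ctx P 0 := ⟨K.co.reindex, K.noTwo, by rw [hz]; exact K.fused⟩
    have hw : ∀ w ∈ clB, K'.co.e w = K.co.e w := by
      intro w hw
      fin_cases hw
      · exact congrArg K.co.e h1
      · exact congrArg K.co.e h16
      · exact congrArg K.co.e h17
    have hNB' : ∀ t, K.co.NB t → K'.co.NB t := by
      intro t ht w hw'
      obtain ⟨w', hw'', e⟩ := ht w hw'
      exact ⟨w', hw'', by rw [hw w hw', hw w' hw'', e]⟩
    obtain ⟨s1, hs1, hs1e⟩ := (K.co.class_conj (x := sigma 2)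
      (Nat.le_of_ble_eq_true (by decide +kernel))).1 h2
    obtain ⟨s2, hs2, hs2e⟩ := (K.co.class_conj hx).2.2.1 hC
    obtain ⟨s3, hs3, hs3e⟩ := (K.co.class_conj (x := sigma 32)
      (Nat.le_of_ble_eq_true (by decide +kernel))).2.2.1 h32
    refine ⟨K', s3 * s2⁻¹ * g * s1⁻¹, ?_, ?_⟩
    · exact hNB' _ (Co.NB.mul K.co (Co.NB.mul K.co (Co.NB.mul K.co (K.co.nb_of_mem hs3)
        (K.co.nb_of_mem (P.1.inv_mem hs2))) hgNB) (K.co.nb_of_mem (P.1.inv_mem hs1)))
    · show s3 * s2⁻¹ * g * s1⁻¹ * K.co.e (sigma 2) * (s3 * s2⁻¹ * g * s1⁻¹)⁻¹ = K.co.e (sigma 32)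
      rw [← hs1e, ← hs3e]
      calc s3 * s2⁻¹ * g * s1⁻¹ * (s1 * K.co.e 2 * s1⁻¹) * (s3 * s2⁻¹ * g * s1⁻¹)⁻¹
          = s3 * (s2⁻¹ * (g * K.co.e 2 * g⁻¹) * s2) * s3⁻¹ := by group
        _ = _ := by rw [hgx, ← hs2e]; group

/-- A parity on codes gives a maximal subgroup. -/
def parSub {P : Subgroup G} (C : Co P 0) (q : ℕ → Bool)
    (hq : allB 64 (fun x => allB 64 fun y => q (tm 0 x y) == (xor (q x) (q y))) = true) :
    Subgroup G where
  carrier := {g | ∃ x < 64, q x = false ∧ C.e x = g}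
  mul_mem' := by
    rintro _ _ ⟨x, hx, hxq, rfl⟩ ⟨y, hy, hyq, rfl⟩
    refine ⟨_, tm_lt 0 x y, ?_, C.e_mul x hx y hy⟩
    have := allB_spec (allB_spec hq x hx) y hy
    rw [hxq, hyq] at this
    simpa using this
  one_mem' := ⟨0, by omega, by
    have := allB_spec (allB_spec hq 0 (by omega)) 0 (by omega)
    rw [Nat.eq_of_beq_eq_true (allB_spec chk_zero 0 (by omega))] at this
    cases h : q 0 <;> simp_all, C.e_zero⟩
  inv_mem' := by
    rintro _ ⟨x, hx, hxq, rfl⟩
    obtain ⟨y, hy, hye⟩ := (C.mem_iff _).1 (P.inv_mem (C.mem hx))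
    refine ⟨y, hy, ?_, hye⟩
    have e : tm 0 x y = 0 := C.e_inj _ (tm_lt _ _ _) _ (by omega) (by
      rw [C.e_mul x hx y hy, hye, mul_inv_cancel, C.e_zero])
    have := allB_spec (allB_spec hq x hx) y hy
    have h0 := allB_spec (allB_spec hq 0 (by omega)) 0 (by omega)
    rw [Nat.eq_of_beq_eq_true (allB_spec chk_zero 0 (by omega))] at h0
    rw [e, hxq] at this
    cases h : q 0 <;> simp_all

omit [Finite G] in
theorem relIndex_parSub {P : Subgroup G} (C : Co P 0) (q : ℕ → Bool)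
    (hq : allB 64 (fun x => allB 64 fun y => q (tm 0 x y) == (xor (q x) (q y))) = true)
    (h32 : q 32 = true) : (parSub C q hq).relIndex P = 2 := by
  rw [Subgroup.relIndex, Subgroup.index_eq_two_iff]
  refine ⟨⟨C.e 32, C.mem (by omega)⟩, fun b => ?_⟩
  obtain ⟨b, hb⟩ := b
  obtain ⟨x, hx, rfl⟩ := (C.mem_iff b).1 hb
  have key : ∀ y < 64, C.e y ∈ parSub C q hq ↔ q y = false := by
    intro y hy
    refine ⟨?_, fun h => ⟨y, hy, h, rfl⟩⟩
    rintro ⟨y', hy', h, e⟩
    rwa [← C.e_inj y' hy' y hy e]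
  simp only [Subgroup.mem_subgroupOf, Subgroup.coe_mul]
  rw [← C.e_mul x hx 32 (by omega), key _ (tm_lt _ _ _), key x hx]
  have := allB_spec (allB_spec hq x hx) 32 (by omega)
  rw [h32] at this
  cases h : q x <;> simp_all [xor_def]

/-- The parity `i + j + e`. -/
def q1 (x : ℕ) : Bool := Nat.beq ((ci x + cj x + ce x) % 2) 1
/-- The parity `j + e`. -/
def q2 (x : ℕ) : Bool := Nat.beq ((cj x + ce x) % 2) 1

theorem chk_q1 : allB 64 (fun x => allB 64 fun y => q1 (tm 0 x y) == (xor (q1 x) (q1 y))) = true := by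
  decide +kernel

theorem chk_q2 : allB 64 (fun x => allB 64 fun y => q2 (tm 0 x y) == (xor (q2 x) (q2 y))) = true := by
  decide +kernel

theorem chk_trans : allB 64 (fun x => !isInv 0 x ||
    ((q1 x || inL clB x || inL clFA x) && (q2 x || inL clB x || inL clFAC x))) = true := by
  decide +kernel

/-- Everything is fused to `z` or into the class `x0`. -/
theorem Ctx.transfer (K : Ctx P 0) (q : ℕ → Bool)
    (hq : allB 64 (fun x => allB 64 fun y => q (tm 0 x y) == (xor (q x) (q y))) = true)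
    (h32 : q 32 = true) (x0 : ℕ) (hcl : ∀ x < 64, isInv 0 x = true → q x = false →
      x ∈ clB ∨ IsConj (K.co.e x0) (K.co.e x))
    {t : G} (ht : orderOf t = 2) : IsConj (K.co.e 16) t ∨ IsConj (K.co.e x0) t := by
  haveI : Fact (Nat.Prime 2) := ⟨Nat.prime_two⟩
  obtain ⟨S', hS'⟩ := (IsPGroup.of_card (n := 1) (by rw [Nat.card_zpowers, ht, pow_one]) :
    IsPGroup 2 (zpowers t)).exists_le_sylow
  obtain ⟨g₀, hg₀⟩ := MulAction.exists_smul_eq G S' P
  have htS : g₀ * t * g₀⁻¹ ∈ (P : Subgroup G) := by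
    rw [← hg₀]
    show g₀ * t * g₀⁻¹ ∈ MulAut.conj g₀ • (S' : Subgroup G)
    rw [Subgroup.mem_pointwise_smul_iff_inv_smul_mem]
    simpa [mul_assoc] using hS' (mem_zpowers t)
  have ht' : orderOf (g₀ * t * g₀⁻¹) = 2 := by rw [order_conj, ht]
  obtain ⟨y, hy, hty, -⟩ := G2Fusion23.exists_extremal_mem P (parSub K.co q hq)
    (by rintro _ ⟨x, hx, -, rfl⟩; exact K.co.mem hx) (relIndex_parSub K.co q hq h32) K.noTwo _ ht' htS
  obtain ⟨x, hx, hxq, rfl⟩ := hy
  have hord : orderOf (K.co.e x) = 2 := by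
    obtain ⟨a, ha⟩ := isConj_iff.1 hty
    rw [← ha, order_conj, ht']
  obtain ⟨hx0, hxx⟩ := K.co.invol_code hx hord
  have htX : IsConj (K.co.e x) t := ((isConj_iff.2 ⟨g₀, rfl⟩ : IsConj t _).trans hty).symm
  rcases hcl x hx (isInv_iff.2 ⟨hxx, hx0⟩) hxq with h | h
  · refine Or.inl (IsConj.trans ?_ htX)
    fin_cases h
    · exact K.z_conj_b
    · exact IsConj.refl _
    · exact K.z_conj_b.trans (isConj_iff.2 ⟨_, K.co.b_conj⟩)
  · exact Or.inr (h.trans htX)

/-- Two representatives of the second class. -/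
theorem Ctx.transfers (K : Ctx P 0) (htwo : ∃ s t : G, orderOf s = 2 ∧ orderOf t = 2 ∧ ¬ IsConj s t) :
    ¬ IsConj (K.co.e 16) (K.co.e 6) ∧ ¬ IsConj (K.co.e 16) (K.co.e 38) := by
  have h6 : ∀ t : G, orderOf t = 2 → IsConj (K.co.e 16) t ∨ IsConj (K.co.e 6) t := fun t ht =>
    K.transfer q1 chk_q1 (by decide +kernel) 6 (fun x hx hi hq => by
      have h := allB_spec chk_trans x hx
      simp only [hi, hq, Bool.not_true, Bool.false_or, Bool.and_eq_true, Bool.or_eq_true, inL_iff] at h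
      refine h.1.imp id fun hc => ?_
      obtain ⟨s, -, hs⟩ := (K.co.class_conj hx).2.2.2.1 hc
      exact isConj_iff.2 ⟨s, hs⟩) ht
  have h38 : ∀ t : G, orderOf t = 2 → IsConj (K.co.e 16) t ∨ IsConj (K.co.e 38) t := fun t ht =>
    K.transfer q2 chk_q2 (by decide +kernel) 38 (fun x hx hi hq => by
      have h := allB_spec chk_trans x hx
      simp only [hi, hq, Bool.not_true, Bool.false_or, Bool.and_eq_true, Bool.or_eq_true, inL_iff] at h
      refine h.2.imp id fun hc => ?_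
      obtain ⟨s, -, hs⟩ := (K.co.class_conj hx).2.2.2.2 hc
      exact isConj_iff.2 ⟨s, hs⟩) ht
  have key : ∀ x, (∀ t : G, orderOf t = 2 → IsConj (K.co.e 16) t ∨ IsConj (K.co.e x) t) →
      ¬ IsConj (K.co.e 16) (K.co.e x) := by
    intro x hx hzx
    obtain ⟨s, t, hs, ht, hst⟩ := htwo
    have hall : ∀ t : G, orderOf t = 2 → IsConj (K.co.e 16) t := fun t ht =>
      (hx t ht).elim id hzx.trans
    exact hst ((hall s hs).symm.trans (hall t ht))
  exact ⟨key 6 h6, key 38 h38⟩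

theorem chk_closed : ((allB 2 fun d => allB 64 fun x => allB 64 fun y =>
      !(inL (0 :: clB) x || (Nat.beq d 1 && inL clC' x)) ||
      !(inL (0 :: clB) y || (Nat.beq d 1 && inL clC' y)) ||
      ((inL (0 :: clB) (tm 0 x y) || (Nat.beq d 1 && inL clC' (tm 0 x y))) && com 0 x y)) &&
    !com 0 4 1) = true := by decide +kernel

/-- `c` is conjugate to `z`. -/
theorem Ctx.z_conj_c [IsSimpleGroup G] (K : Ctx P 0) (hN : Normed K.co)
    (htwo : ∃ s t : G, orderOf s = 2 ∧ orderOf t = 2 ∧ ¬ IsConj s t) :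
    IsConj (K.co.e 16) (K.co.e 32) := by
  classical
  obtain ⟨h6, h38⟩ := K.transfers htwo
  by_contra hc
  obtain ⟨g, -, hg⟩ := hN
  have ha : ¬ IsConj (K.co.e 16) (K.co.e 2) := fun h => hc (h.trans (isConj_iff.2 ⟨g, hg⟩))
  let d : ℕ := if IsConj (K.co.e 16) (K.co.e 40) then 1 else 0
  let inA : ℕ → Bool := fun x => inL (0 :: clB) x || (Nat.beq d 1 && inL clC' x)
  have hd : d < 2 := by simp only [d]; split <;> omega
  have hch := chk_closed
  simp only [Bool.and_eq_true] at hch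
  have hmul : ∀ x < 64, ∀ y < 64, inA x = true → inA y = true →
      inA (tm 0 x y) = true ∧ com 0 x y = true := by
    intro x hx y hy hxA hyA
    have h := allB_spec (allB_spec (allB_spec hch.1 d hd) x hx) y hy
    simp only [inA] at hxA hyA ⊢
    rw [hxA, hyA] at h
    simpa [Bool.and_eq_true] using h
  have hA0 : inA 0 = true := by simp [inA, inL]
  let A : Subgroup G :=
    { carrier := {g | ∃ x < 64, inA x = true ∧ K.co.e x = g}
      mul_mem' := by
        rintro _ _ ⟨x, hx, hxA, rfl⟩ ⟨y, hy, hyA, rfl⟩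
        exact ⟨_, tm_lt 0 x y, (hmul x hx y hy hxA hyA).1, K.co.e_mul x hx y hy⟩
      one_mem' := ⟨0, by omega, hA0, K.co.e_zero⟩
      inv_mem' := by
        rintro _ ⟨x, hx, hxA, rfl⟩
        refine ⟨x, hx, hxA, eq_inv_of_mul_eq_one_left ?_⟩
        have h := allB_spec chk_lists x hx
        simp only [inA, Bool.or_eq_true, Bool.and_eq_true, inL_iff, List.mem_cons] at hxA
        rw [K.co.sq_eq hx]
        rcases hxA with (rfl | hxA) | ⟨-, hxA⟩
        · rw [Nat.eq_of_beq_eq_true (allB_spec chk_zero 0 (by omega)), K.co.e_zero]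
        · fin_cases hxA <;> rw [show tm 0 _ _ = 0 from by decide +kernel, K.co.e_zero]
        · fin_cases hxA <;> rw [show tm 0 _ _ = 0 from by decide +kernel, K.co.e_zero] }
  have hAz : ∀ x < 64, inA x = true → x ≠ 0 → IsConj (K.co.e 16) (K.co.e x) := by
    intro x hx hxA hx0
    simp only [inA, Bool.or_eq_true, Bool.and_eq_true, inL_iff, List.mem_cons, Nat.beq_eq] at hxA
    rcases hxA with (h | h) | ⟨hd1, h⟩
    · exact absurd h hx0
    · fin_cases h
      · exact K.z_conj_b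
      · exact IsConj.refl _
      · exact K.z_conj_b.trans (isConj_iff.2 ⟨_, K.co.b_conj⟩)
    · have h40 : IsConj (K.co.e 16) (K.co.e 40) := by
        by_contra hno
        simp only [d, if_neg hno] at hd1
        omega
      obtain ⟨s, -, hs⟩ := (K.co.class_conj hx).2.2.1 h
      exact h40.trans (isConj_iff.2 ⟨s, hs⟩)
  have hcl : Cfsg.IsStronglyClosed A (P : Subgroup G) := by
    refine ⟨fun g ⟨x, hx, _, he⟩ => he ▸ K.co.mem hx, ?_⟩
    rintro _ ⟨x, hx, hxA, rfl⟩ k hk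
    obtain ⟨y, hy, hye⟩ := (K.co.mem_iff _).1 hk
    refine ⟨y, hy, ?_, hye⟩
    rcases eq_or_ne x 0 with rfl | hx0
    · have : y = 0 := K.co.e_inj y hy 0 (by omega) (by rw [hye, K.co.e_zero]; group)
      rw [this]; exact hA0
    have hzy : IsConj (K.co.e 16) (K.co.e y) :=
      (hAz x hx hxA hx0).trans (isConj_iff.2 ⟨k, hye.symm⟩)
    have hyord : orderOf (K.co.e y) = 2 := by
      obtain ⟨a, ha'⟩ := isConj_iff.1 hzy
      rw [← ha', order_conj, K.co.z_order]
    obtain ⟨hy0, hyy⟩ := K.co.invol_code hy hyord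
    have hi := allB_spec chk_inv y hy
    simp only [isInv_iff.2 ⟨hyy, hy0⟩, Bool.not_true, Bool.false_or, Bool.or_eq_true, inL_iff] at hi
    have hl := allB_spec chk_lists y hy
    simp only [Bool.and_eq_true, Bool.or_eq_true, Bool.not_eq_true', inL_iff,
      ← Bool.not_eq_true] at hl
    have hcj := K.co.class_conj hy
    simp only [inA, Bool.or_eq_true, Bool.and_eq_true, inL_iff, List.mem_cons, Nat.beq_eq]
    rcases hi with hi | hi
    · rcases hl.1.1 with ((h | h) | h) | h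
      · exact absurd hi h
      · exact Or.inl (Or.inr h)
      · obtain ⟨s, -, hs⟩ := hcj.1 h
        exact absurd (hzy.trans (isConj_iff.2 ⟨s, hs⟩).symm) ha
      · obtain ⟨s, -, hs⟩ := hcj.2.1 h
        exact absurd (hzy.trans (isConj_iff.2 ⟨s, hs⟩).symm) hc
    · rcases hl.1.2 with ((h | h) | h) | h
      · exact absurd hi h
      · obtain ⟨s, -, hs⟩ := hcj.2.2.2.1 h
        exact absurd (hzy.trans (isConj_iff.2 ⟨s, hs⟩).symm) h6
      · obtain ⟨s, -, hs⟩ := hcj.2.2.2.2 h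
        exact absurd (hzy.trans (isConj_iff.2 ⟨s, hs⟩).symm) h38
      · obtain ⟨s, -, hs⟩ := hcj.2.2.1 h
        exact Or.inr ⟨by simp only [d, if_pos (hzy.trans (isConj_iff.2 ⟨s, hs⟩).symm)], h⟩
  have hA1 : A ≠ ⊥ := fun h => by
    have h16 : K.co.e 16 ∈ A := ⟨16, by omega, by simp [inA, inL, clB], rfl⟩
    rw [h, mem_bot] at h16
    exact K.co.z_ne h16
  have hAc : IsMulCommutative A := ⟨⟨by
    rintro ⟨_, x, hx, hxA, rfl⟩ ⟨_, y, hy, hyA, rfl⟩
    exact Subtype.ext ((K.co.commute_iff hx hy).2 (hmul x hx y hy hxA hyA).2)⟩⟩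
  rcases S1169.result P A hA1 hAc hcl with h | ⟨H, hH⟩
  · have h' := (K.co.commute_iff (x := 4) (y := 1) (by omega) (by omega)).1
      (congrArg Subtype.val (h.is_comm.comm ⟨_, K.co.mem (by omega)⟩ ⟨_, K.co.mem (by omega)⟩))
    rw [h'] at hch
    simp at hch
  · obtain ⟨s, t, hs, ht, hst⟩ := htwo
    exact hst (Involutions.StronglyEmbedded.isConj_involutions hH hs ht)

theorem chk_c' : (isInv 0 40 && !inB 40 && com 0 14 40 && isInv 0 14 &&
    (anyB 64 fun a => com 0 a 40 && Nat.beq (tm 0 a a) 16) &&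
    allB 64 fun x => !(isInv 0 x && (com 0 x 1 || com 0 x 17)) ||
      inL zset x || inL clC' x) = true := by decide +kernel

/-- `z`, `b`, `a`, `c` are fused, and `f² c` is not. -/
theorem Ctx.classes [IsSimpleGroup G] (K : Ctx P 0) (hN : Normed K.co)
    (htwo : ∃ s t : G, orderOf s = 2 ∧ orderOf t = 2 ∧ ¬ IsConj s t) {x : ℕ} (hx : x < 64) :
    (x ∈ zset → IsConj (K.co.e 16) (K.co.e x)) ∧ (x ∈ tset → ¬ IsConj (K.co.e 16) (K.co.e x)) := by
  have hc := K.z_conj_c hN htwo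
  obtain ⟨h6, h38⟩ := K.transfers htwo
  obtain ⟨g, -, hg⟩ := hN
  have ha : IsConj (K.co.e 16) (K.co.e 2) := hc.trans (isConj_iff.2 ⟨g, hg⟩).symm
  have hzset : ∀ y < 64, y ∈ zset → IsConj (K.co.e 16) (K.co.e y) := by
    intro y hy hym
    have hl := allB_spec chk_lists y hy
    simp only [Bool.and_eq_true, Bool.or_eq_true, Bool.not_eq_true', inL_iff,
      ← Bool.not_eq_true] at hl
    rcases hl.1.1 with ((h | h) | h) | h
    · exact absurd hym h
    · fin_cases h
      · exact K.z_conj_b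
      · exact IsConj.refl _
      · exact K.z_conj_b.trans (isConj_iff.2 ⟨_, K.co.b_conj⟩)
    · obtain ⟨s, -, hs⟩ := (K.co.class_conj hy).1 h
      exact ha.trans (isConj_iff.2 ⟨s, hs⟩)
    · obtain ⟨s, -, hs⟩ := (K.co.class_conj hy).2.1 h
      exact hc.trans (isConj_iff.2 ⟨s, hs⟩)
  have h40 : ¬ IsConj (K.co.e 16) (K.co.e 40) := by
    intro h
    have hf := chk_c'
    simp only [Bool.and_eq_true, Bool.not_eq_true'] at hf
    obtain ⟨⟨⟨⟨⟨hi40, hB40⟩, hc6⟩, hi6⟩, hroot⟩, hall⟩ := hf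
    obtain ⟨g', hg'⟩ := isConj_iff.1 h
    haveI : Fact (Nat.Prime 2) := ⟨Nat.prime_two⟩
    obtain ⟨m, hm, hmS⟩ := exists_into P K.co.z_comm hg'
      ((P : Subgroup G) ⊓ centralizer ({K.co.e 40} : Set G)) (P.2.to_le inf_le_left) inf_le_right
    have hmP : ∀ g' ∈ (P : Subgroup G), g' * K.co.e 40 = K.co.e 40 * g' →
        m * g' * m⁻¹ ∈ (P : Subgroup G) :=
      fun g' h1 h2 => hmS g' ⟨h1, mem_centralizer_singleton_iff.2 h2⟩
    obtain ⟨a, ha', hac⟩ := anyB_spec hroot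
    simp only [Bool.and_eq_true, Nat.beq_eq] at hac
    obtain ⟨-, hzm⟩ := K.z_image (by omega) ha' (by omega) hm hmP hac.1 hac.2
    obtain ⟨w, hw, hwe⟩ := (K.co.mem_iff _).1 (hmP _ (K.co.mem (x := 14) (by omega))
      ((K.co.commute_iff (by omega) (by omega)).2 hc6))
    obtain ⟨s14, -, hs14⟩ := (K.co.class_conj (x := 14) (by omega)).2.2.2.1 (by decide)
    obtain ⟨hw6, hw60⟩ := isInv_iff.1 hi6
    obtain ⟨hw0, hww⟩ := K.co.invol_code hw
      (by rw [hwe, order_conj, K.co.orderOf_invol (by omega) hw60 hw6])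
    have hcomm : K.co.e w * (m * K.co.e 16 * m⁻¹) = (m * K.co.e 16 * m⁻¹) * K.co.e w := by
      rw [hwe]
      calc m * K.co.e 14 * m⁻¹ * (m * K.co.e 16 * m⁻¹) = m * (K.co.e 14 * K.co.e 16) * m⁻¹ := by group
        _ = m * (K.co.e 16 * K.co.e 14) * m⁻¹ := by rw [K.co.z_comm _ (K.co.mem (by omega))]
        _ = _ := by group
    have h' := allB_spec hall w hw
    have hcw : (com 0 w 1 || com 0 w 17) = true := by
      rw [Bool.or_eq_true]
      rcases hzm with e | e <;> rw [e] at hcomm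
      · exact Or.inl ((K.co.commute_iff hw (by omega)).1 hcomm)
      · exact Or.inr ((K.co.commute_iff hw (by omega)).1 hcomm)
    rw [isInv_iff.2 ⟨hww, hw0⟩, hcw] at h'
    simp only [Bool.and_true, Bool.not_true, Bool.false_or, Bool.or_eq_true, inL_iff] at h'
    refine h6 ?_
    have hzw : IsConj (K.co.e 16) (K.co.e w) := by
      rcases h' with h' | h'
      · exact hzset w hw h'
      · obtain ⟨s, -, hs⟩ := (K.co.class_conj hw).2.2.1 h'
        exact h.trans (isConj_iff.2 ⟨s, hs⟩)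
    exact (hzw.trans (isConj_iff.2 ⟨m, hwe.symm⟩).symm).trans (isConj_iff.2 ⟨s14, hs14⟩).symm
  refine ⟨hzset x hx, fun hxm hzx => ?_⟩
  have hl := allB_spec chk_lists x hx
  simp only [Bool.and_eq_true, Bool.or_eq_true, Bool.not_eq_true', inL_iff,
    ← Bool.not_eq_true] at hl
  rcases hl.1.2 with ((h | h) | h) | h
  · exact absurd hxm h
  · obtain ⟨s, -, hs⟩ := (K.co.class_conj hx).2.2.2.1 h
    exact h6 (hzx.trans (isConj_iff.2 ⟨s, hs⟩).symm)
  · obtain ⟨s, -, hs⟩ := (K.co.class_conj hx).2.2.2.2 h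
    exact h38 (hzx.trans (isConj_iff.2 ⟨s, hs⟩).symm)
  · obtain ⟨s, -, hs⟩ := (K.co.class_conj hx).2.2.1 h
    exact h40 (hzx.trans (isConj_iff.2 ⟨s, hs⟩).symm)

end Cfsg.Agent.Lib.M12Sylow18
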