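import Cfsg.Agent.Lib.M12Sylow18.Classes

/-!
# The extraspecial subgroup `Q` in codes
-/

set_option autoImplicit false

namespace Cfsg.Agent.Lib.M12Sylow18

open Cfsg.Agent.Lib.M12Sylow18.Mod

/-- Membership in `Q = ⟨f², b, f a, c⟩`. -/
def qf (x : ℕ) : Bool := Nat.beq ((ci x + cj x) % 2) 0
/-- Membership in the first quaternion subgroup. -/
def w1 (x : ℕ) : Bool := inL [0, 7, 8, 15, 16, 23, 24, 31] x
/-- Membership in the second quaternion subgroup. -/
def w2 (x : ℕ) : Bool := inL [0, 9, 16, 25, 39, 46, 55, 62] x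
/-- Membership in `⟨z⟩`. -/
def zf (x : ℕ) : Bool := inL [0, 16] x

theorem chk_sub : (qf 0 && w1 0 && w2 0 && zf 0 && allB 64 fun x => allB 64 fun y =>
    (!(qf x && qf y) || qf (tm 0 x y)) && (!(w1 x && w1 y) || w1 (tm 0 x y)) &&
    (!(w2 x && w2 y) || w2 (tm 0 x y)) && (!(zf x && zf y) || zf (tm 0 x y))) = true := by
  decide +kernel

theorem chk_wsub : allB 64 (fun x => (!w1 x || qf x) && (!w2 x || qf x) && (!(w1 x && w2 x) || zf x) &&
    (!zf x || (w1 x && w2 x)) && (!qf x || anyB 64 fun u => w1 u && anyB 64 fun v => w2 v &&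
      Nat.beq (tm 0 u v) x)) = true := by decide +kernel

theorem chk_wcomm : allB 64 (fun x => allB 64 fun y => (!(w1 x && w2 y) || com 0 x y) &&
    (!(w1 x && w1 y) || Nat.beq (tm 0 x y) (tm 0 y x) || Nat.beq (tm 0 x y) (tm 0 (tm 0 y x) 16)) &&
    (!(w2 x && w2 y) || Nat.beq (tm 0 x y) (tm 0 y x) ||
      Nat.beq (tm 0 x y) (tm 0 (tm 0 y x) 16))) = true := by decide +kernel

theorem chk_out : allB 64 (fun x => (qf x || inL clA x ||
      (!Nat.beq (tm 0 x x) 0 && !Nat.beq (tm 0 x x) 16)) &&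
    (!qf x || Nat.beq (tm 0 x x) 0 || Nat.beq (tm 0 x x) 16) &&
    (!(qf x && inL zset x) || Nat.beq x 16 || inL [1, 17] x || inL clC x) &&
    (!inL [1, 17] x || qf x)) = true := by decide +kernel

/-- `s` commutes with the elements satisfying `q` modulo `z`. -/
def centMod (q : ℕ → Bool) (s : ℕ) : Bool :=
  allB 64 fun v => !q v ||
    Nat.beq (tm 0 s v) (tm 0 v s) || Nat.beq (tm 0 s v) (tm 0 (tm 0 v s) 16)

theorem chk_centMod : allB 64 (fun s =>
    (!centMod w1 s || qf s) && (!centMod w2 s || qf s)) = true := by decide +kernel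

theorem chk_flip : allB 64 (fun v => !Nat.beq (tm 0 v v) 16 || allB 64 fun β => !inL [1, 17] β ||
    com 0 v β || !inL zset (tm 0 v β)) = true := by decide +kernel

theorem chk_ident : allB 64 (fun u => allB 64 fun u' =>
    (!(w1 u && w1 u') || zf u || inL [u, tm 0 u 16] u' || anyB 64 fun v => w2 v &&
      inL zset (tm 0 u v) && !inL zset (tm 0 u' v) && !inL zset (tm 0 u' (tm 0 v 16))) &&
    (!(w2 u && w2 u') || zf u || inL [u, tm 0 u 16] u' || anyB 64 fun v => w1 v &&
      inL zset (tm 0 v u) && !inL zset (tm 0 v u') && !inL zset (tm 0 (tm 0 v 16) u'))) = true := by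
  decide +kernel

theorem chk_roots_q : allB 64 (fun u => !(qf u && Nat.beq (tm 0 u u) 16) || w1 u || w2 u) = true := by
  decide +kernel

theorem chk_gens : (w1 8 && w1 7 && w2 9 && w2 39 && !com 0 8 7 && !com 0 9 39 &&
    Nat.beq (tm 0 8 8) 16 && Nat.beq (tm 0 7 7) 16 && Nat.beq (tm 0 9 9) 16 &&
    Nat.beq (tm 0 39 39) 16 && !com 0 4 1) = true := by decide +kernel

/-- A power. -/
def pw (x : ℕ) : ℕ → ℕ
  | 0 => 0
  | n + 1 => tm 0 (pw x n) x

/-- The word with given index in the generators. -/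
def wd (a b c d i : ℕ) : ℕ :=
  tm 0 (tm 0 (tm 0 (pw a (i / 8)) (pw b (i / 4 % 2))) (pw c (i / 2 % 2))) (pw d (i % 2))

/-- The least index of a code among the first `n` words. -/
def findW : ℕ → ℕ → ℕ
  | 0, _ => 0
  | n + 1, x => bif Nat.beq (wd 8 7 9 39 n) x then n else findW n x

/-- The image of a code under the map given on the generators. -/
def imgC (t : List ℕ) (x : ℕ) : ℕ :=
  wd (t.getD 0 0) (t.getD 1 0) (t.getD 2 0) (t.getD 3 0) (findW 32 x)

theorem chk_words : allB 64 (fun x => !qf x ||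
    (Nat.beq (wd 8 7 9 39 (findW 32 x)) x && Nat.blt (findW 32 x) 32)) = true := by decide +kernel

theorem chk_words' : allB 32 (fun i => qf (wd 8 7 9 39 i)) = true := by decide +kernel

/-- The admissible images of the generators `8, 7, 9, 39`. -/
def okT (a b c d : ℕ) : Bool :=
  w1 a && w1 b && w2 c && w2 d && Nat.beq (tm 0 a a) 16 && Nat.beq (tm 0 b b) 16 &&
  Nat.beq (tm 0 c c) 16 && Nat.beq (tm 0 d d) 16 && !com 0 a b && !com 0 c d &&
  (inL zset (tm 0 a c) == inL zset (tm 0 8 9)) && (inL zset (tm 0 a d) == inL zset (tm 0 8 39)) &&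
  (inL zset (tm 0 b c) == inL zset (tm 0 7 9)) && (inL zset (tm 0 b d) == inL zset (tm 0 7 39)) &&
  (inL zset (tm 0 (tm 0 a b) c) == inL zset (tm 0 (tm 0 8 7) 9)) &&
  (inL zset (tm 0 (tm 0 a b) d) == inL zset (tm 0 (tm 0 8 7) 39)) &&
  (inL zset (tm 0 a (tm 0 c d)) == inL zset (tm 0 8 (tm 0 9 39))) &&
  (inL zset (tm 0 b (tm 0 c d)) == inL zset (tm 0 7 (tm 0 9 39))) &&
  (inL zset (tm 0 (tm 0 a b) (tm 0 c d)) == inL zset (tm 0 (tm 0 8 7) (tm 0 9 39)))

/-- The six roots of `z` in the first quaternion subgroup. -/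
def r1 : List ℕ := [7, 8, 15, 23, 24, 31]
/-- The six roots of `z` in the second quaternion subgroup. -/
def r2 : List ℕ := [9, 25, 39, 46, 55, 62]

/-- All admissible tuples. -/
def tuples : List (List ℕ) :=
  (r1.flatMap fun a => r1.flatMap fun b => r2.flatMap fun c => r2.map fun d => [a, b, c, d]).filter
    fun t => okT (t.getD 0 0) (t.getD 1 0) (t.getD 2 0) (t.getD 3 0)

theorem chk_tuples : tuples.length = 96 := by decide +kernel

theorem chk_roots_w : allB 64 (fun x => (!(w1 x && Nat.beq (tm 0 x x) 16) || inL r1 x) &&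
    (!(w2 x && Nat.beq (tm 0 x x) 16) || inL r2 x)) = true := by decide +kernel

/-- The cube of the map given by `t` fixes the generators. -/
def cube (t : List ℕ) : Bool :=
  Nat.beq (imgC t (imgC t (imgC t 8))) 8 && Nat.beq (imgC t (imgC t (imgC t 7))) 7 &&
  Nat.beq (imgC t (imgC t (imgC t 9))) 9 && Nat.beq (imgC t (imgC t (imgC t 39))) 39

theorem chk_fixed : (tuples.all fun t => !cube t || (t == [8, 7, 9, 39]) ||
    allB 64 fun x => !qf x || zf x || !Nat.beq (imgC t x) x) = true := by decide +kernel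

theorem chk_cent : allB 64 (fun x =>
    (!(allB 64 fun q => !qf q || com 0 x q) || zf x) &&
    (!isInv 0 x || anyB 64 fun q => qf q && !zf q && com 0 q x) &&
    (qf x || anyB 64 fun q => qf q && !com 0 x q)) = true := by decide +kernel

theorem chk_p : (allB 64 (fun x => !Nat.beq (tm 0 x x) 32) &&
    (anyB 64 fun x => Nat.beq (tm 0 x x) 1) && !qf 4 && qf 32 && qf 1) = true := by decide +kernel

/-- The number of codes of `Q`. -/
theorem chk_qcard : ((List.range 64).filter qf).length = 32 := by decide +kernel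

theorem chk_special : allB 64 (fun x => !qf x ||
    ((!(allB 64 fun y => !qf y || com 0 x y) || zf x) && zf (tm 0 x x))) = true := by decide +kernel

end Cfsg.Agent.Lib.M12Sylow18
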