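import Cfsg.Agent.S2767
import Cfsg.Agent.Lib.Cores.Basic

/-!
# Two commuting strongly closed abelian subgroups with little fusion are normal modulo the core
-/

set_option autoImplicit false
set_option linter.style.haveILetI false

namespace Cfsg.Agent.Lib.M12Sylow18

open Subgroup
open scoped Pointwise commutatorElement

variable {X : Type*} [Group X] [Finite X]

omit [Finite X] in
/-- An element of `A ⊔ O` is a product. -/
theorem exists_mul_of_sup {A O : Subgroup X} [O.Normal] {h : X} (hh : h ∈ A ⊔ O) :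
    ∃ a ∈ A, ∃ o ∈ O, h = a * o := by
  have := hh
  rw [← SetLike.mem_coe, Subgroup.mul_normal A O] at this
  obtain ⟨a, ha, o, ho, e⟩ := this
  exact ⟨a, ha, o, ho, e.symm⟩

/-- A `2`-subgroup of `A O` is conjugate under `O` into the `2`-group `A`, for `O` of odd order. -/
theorem exists_conj_into (A O : Subgroup X) [O.Normal] (hA : IsPGroup 2 A)
    (hO : (Nat.card O).Coprime 2) (B : Subgroup X) (hB : IsPGroup 2 B) (hBle : B ≤ A ⊔ O) :
    ∃ o ∈ O, ∀ b ∈ B, o * b * o⁻¹ ∈ A := by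
  haveI : Fact (Nat.Prime 2) := ⟨Nat.prime_two⟩
  set H := A ⊔ O with hH
  obtain ⟨R, hR⟩ := (hA.comap_of_injective H.subtype Subtype.val_injective).exists_le_sylow
  have hRA : (R : Subgroup H).map H.subtype = A := by
    symm
    refine eq_of_le_of_card_ge (fun a ha => ⟨⟨a, le_sup_left (a := A) (b := O) ha⟩, hR ha, rfl⟩) ?_
    rw [Subgroup.card_map_of_injective H.subtype_injective]
    obtain ⟨r, hr⟩ := IsPGroup.iff_card.1 R.2
    refine Nat.le_of_dvd Nat.card_pos ?_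
    have h1 : Nat.card (R : Subgroup H) ∣ Nat.card A * Nat.card O :=
      (Subgroup.card_subgroup_dvd_card _).trans (Cores.card_sup_dvd_mul A O)
    refine Nat.Coprime.dvd_of_dvd_mul_right ?_ h1
    rw [hr]
    exact Nat.Coprime.pow_left _ hO.symm
  obtain ⟨R', hR'⟩ := (hB.comap_of_injective H.subtype Subtype.val_injective).exists_le_sylow
  obtain ⟨h, hh⟩ := MulAction.exists_smul_eq H R' R
  obtain ⟨a, ha, o, ho, he⟩ := exists_mul_of_sup h.2
  refine ⟨o, ho, fun b hb => ?_⟩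
  have h1 : h * ⟨b, hBle hb⟩ * h⁻¹ ∈ (R : Subgroup H) := by
    rw [← hh]
    show h * ⟨b, hBle hb⟩ * h⁻¹ ∈ MulAut.conj h • (R' : Subgroup H)
    rw [Subgroup.mem_pointwise_smul_iff_inv_smul_mem]
    simpa [mul_assoc] using (show (⟨b, hBle hb⟩ : H) ∈ (R' : Subgroup H) from hR' hb)
  have h2 : (h : X) * b * (h : X)⁻¹ ∈ A := hRA ▸ ⟨_, h1, rfl⟩
  rw [he] at h2
  have := A.mul_mem (A.mul_mem (A.inv_mem ha) h2) ha
  rwa [show a⁻¹ * (a * o * b * (a * o)⁻¹) * a = o * b * o⁻¹ by group] at this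

/-- Fusion in a strongly closed abelian subgroup is controlled by its normaliser. -/
theorem exists_normalizing_conj (S : Sylow 2 X) {A : Subgroup X}
    (hA : Cfsg.IsStronglyClosed A (S : Subgroup X)) (hAc : ∀ a ∈ A, ∀ b ∈ A, a * b = b * a)
    {w g : X} (hw : w ∈ A) (hgw : g * w * g⁻¹ ∈ A) :
    ∃ n : X, (∀ a ∈ A, n * a * n⁻¹ ∈ A) ∧ n * w * n⁻¹ = g * w * g⁻¹ := by
  haveI : Fact (Nat.Prime 2) := ⟨Nat.prime_two⟩
  set K := centralizer ({w} : Set X) with hK
  have hAK : A ≤ K := fun a ha => mem_centralizer_singleton_iff.2 (hAc a ha w hw)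
  have hA2 : IsPGroup 2 A := S.2.to_le hA.1
  set A' := A.map (MulAut.conj g⁻¹).toMonoidHom with hA'
  have hA'K : A' ≤ K := by
    rintro _ ⟨a, ha, rfl⟩
    refine mem_centralizer_singleton_iff.2 ?_
    simp only [MulEquiv.coe_toMonoidHom, MulAut.conj_apply, inv_inv]
    calc g⁻¹ * a * g * w = g⁻¹ * (a * (g * w * g⁻¹)) * g := by group
      _ = g⁻¹ * ((g * w * g⁻¹) * a) * g := by rw [hAc a ha _ hgw]
      _ = _ := by group
  obtain ⟨T, hT⟩ := (hA2.comap_of_injective K.subtype Subtype.val_injective).exists_le_sylow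
  obtain ⟨T', hT'⟩ := ((hA2.map _).comap_of_injective K.subtype Subtype.val_injective :
    IsPGroup 2 (A'.comap K.subtype)).exists_le_sylow
  obtain ⟨c, hc⟩ := MulAction.exists_smul_eq K T' T
  obtain ⟨S', hS'⟩ := (T.2.map K.subtype).exists_le_sylow
  obtain ⟨h, hh⟩ := MulAction.exists_smul_eq X S' S
  have into : ∀ x ∈ (T : Subgroup K), h * (x : X) * h⁻¹ ∈ (S : Subgroup X) := by
    intro x hx
    rw [← hh]
    show h * (x : X) * h⁻¹ ∈ MulAut.conj h • (S' : Subgroup X)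
    rw [Subgroup.mem_pointwise_smul_iff_inv_smul_mem]
    simpa [mul_assoc] using hS' ⟨x, hx, rfl⟩
  have h1 : ∀ a ∈ A, h * a * h⁻¹ ∈ A := fun a ha =>
    hA.2 a ha h (into ⟨a, hAK ha⟩ (hT ha))
  have h2 : ∀ a ∈ A, h * c * g⁻¹ * a * (h * c * g⁻¹)⁻¹ ∈ A := by
    intro a ha
    refine hA.2 a ha _ ?_
    have hm : g⁻¹ * a * g ∈ A' := ⟨a, ha, by simp⟩
    have hct : c * ⟨_, hA'K hm⟩ * c⁻¹ ∈ (T : Subgroup K) := by
      rw [← hc]
      show c * ⟨_, hA'K hm⟩ * c⁻¹ ∈ MulAut.conj c • (T' : Subgroup K)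
      rw [Subgroup.mem_pointwise_smul_iff_inv_smul_mem]
      simpa [mul_assoc] using (show (⟨_, hA'K hm⟩ : K) ∈ (T' : Subgroup K) from hT' hm)
    have := into _ hct
    simp only [Subgroup.coe_mul, Subgroup.coe_inv] at this
    rwa [show h * c * g⁻¹ * a * (h * c * g⁻¹)⁻¹ = h * (c * (g⁻¹ * a * g) * (c : X)⁻¹) * h⁻¹ by group]
  have hinv : ∀ k : X, (∀ a ∈ A, k * a * k⁻¹ ∈ A) → ∀ a ∈ A, k⁻¹ * a * k ∈ A := by
    intro k hk a ha
    let φ : A → A := fun x => ⟨k * x * k⁻¹, hk x x.2⟩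
    have hφ : Function.Injective φ := fun x y e =>
      Subtype.ext (mul_left_cancel (mul_right_cancel (congrArg Subtype.val e)))
    obtain ⟨x, hx⟩ := Finite.surjective_of_injective hφ ⟨a, ha⟩
    have he : k * (x : X) * k⁻¹ = a := congrArg Subtype.val hx
    rw [show k⁻¹ * a * k = (x : X) by rw [← he]; group]
    exact x.2
  refine ⟨g * (c : X)⁻¹, fun a ha => ?_, ?_⟩
  · have := hinv _ h2 _ (h1 a ha)
    rwa [show (h * c * g⁻¹)⁻¹ * (h * a * h⁻¹) * (h * c * g⁻¹) = g * (c : X)⁻¹ * a * (g * (c : X)⁻¹)⁻¹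
      by group] at this
  · have hcw := mem_centralizer_singleton_iff.1 c.2
    calc g * (c : X)⁻¹ * w * (g * (c : X)⁻¹)⁻¹ = g * ((c : X)⁻¹ * (w * c)) * g⁻¹ := by group
      _ = g * ((c : X)⁻¹ * (c * w)) * g⁻¹ := by rw [hcw]
      _ = _ := by group

/-- One of two such subgroups generates a normal subgroup of the group inside their product. -/
theorem normalClosure_le_of_pair (S : Sylow 2 X) (W₁ W₂ : Subgroup X)
    (h₁ : Cfsg.IsStronglyClosed W₁ (S : Subgroup X)) (h₂ : Cfsg.IsStronglyClosed W₂ (S : Subgroup X))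
    (hc : ∀ a ∈ W₁, ∀ b ∈ W₂, a * b = b * a) (hab₁ : ∀ a ∈ W₁, ∀ b ∈ W₁, a * b = b * a)
    (hab₂ : ∀ a ∈ W₂, ∀ b ∈ W₂, a * b = b * a) (hd : W₁ ⊓ W₂ = ⊥)
    (hcs : ∀ s ∈ (S : Subgroup X), (∀ b ∈ W₂, s * b = b * s) → s ∈ W₁ ⊔ W₂)
    (hA : ∀ x : X, (∀ a ∈ W₁, x * a * x⁻¹ ∈ W₁) → (∀ b ∈ W₂, x * b = b * x) →
      ∀ a ∈ W₁, x * a = a * x) :
    Subgroup.normalClosure (W₁ : Set X) ≤ W₁ ⊔ W₂ ⊔ Cfsg.pPrimeCore 2 X := by
  haveI : Fact (Nat.Prime 2) := ⟨Nat.prime_two⟩
  set O := Cfsg.pPrimeCore 2 X with hOdef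
  set π := QuotientGroup.mk' O with hπ
  have hπs : Function.Surjective π := QuotientGroup.mk'_surjective O
  have hW₁2 : IsPGroup 2 W₁ := S.2.to_le h₁.1
  have hW₂2 : IsPGroup 2 W₂ := S.2.to_le h₂.1
  set W := W₁ ⊔ W₂ with hW
  have hWS : W ≤ (S : Subgroup X) := sup_le h₁.1 h₂.1
  have hW2 : IsPGroup 2 W := S.2.to_le hWS
  have hOc : (Nat.card O).Coprime 2 := Cores.pPrimeCore_coprime 2
  have disj : ∀ x, x ∈ (S : Subgroup X) → x ∈ O → x = 1 := by
    intro x hxS hxO
    obtain ⟨r, hr⟩ := IsPGroup.iff_card.1 S.2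
    exact Subgroup.disjoint_def.1
      (Subgroup.disjoint_of_coprime_natCard (H := (S : Subgroup X)) (K := O)
        (by rw [hr]; exact Nat.Coprime.pow_left _ hOc.symm)) hxS hxO
  have eqπ : ∀ x y : X, π x = π y → x * y⁻¹ ∈ O := by
    intro x y h
    have : π (x * y⁻¹) = 1 := by rw [map_mul, map_inv, h, mul_inv_cancel]
    exact (QuotientGroup.eq_one_iff _).1 this
  -- commutation of the normal closures
  have hcomm : ∀ a ∈ Subgroup.normalClosure (W₁ : Set X),
      ∀ b ∈ Subgroup.normalClosure (W₂ : Set X), π a * π b = π b * π a := by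
    intro a ha b hb
    have h := S2767.result S W₁ W₂ h₁ h₂ hc (Subgroup.commutator_mem_commutator ha hb)
    rw [hd, Subgroup.coe_bot] at h
    have h1 : Subgroup.normalClosure ({1} : Set X) = ⊥ :=
      le_bot_iff.1 (Subgroup.normalClosure_le_normal (by simp))
    rw [h1, bot_sup_eq] at h
    have h2 : π ⁅a, b⁆ = 1 := (QuotientGroup.eq_one_iff _).2 h
    rw [map_commutatorElement, commutatorElement_eq_one_iff_mul_comm] at h2
    exact h2
  set N := (Subgroup.normalClosure (W₁ : Set X)).map π with hN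
  haveI hNn : N.Normal := Subgroup.Normal.map Subgroup.normalClosure_normal π hπs
  set S' := (S : Subgroup X).map π with hS'
  set T := S' ⊓ N with hT
  -- `T` is in the image of `W`
  have hTW : T ≤ W.map π := by
    rintro t ⟨⟨s, hs, rfl⟩, a, ha, hat⟩
    refine ⟨s, hcs s hs fun b hb => ?_, rfl⟩
    have hbN : b ∈ Subgroup.normalClosure (W₂ : Set X) := Subgroup.subset_normalClosure hb
    have h := hcomm a ha b hbN
    rw [hat, ← map_mul, ← map_mul] at h
    have hm := eqπ _ _ h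
    have hmS : s * b * (b * s)⁻¹ ∈ (S : Subgroup X) :=
      (S : Subgroup X).mul_mem ((S : Subgroup X).mul_mem hs (h₂.1 hb))
        ((S : Subgroup X).inv_mem ((S : Subgroup X).mul_mem (h₂.1 hb) hs))
    exact mul_inv_eq_one.1 (disj _ hmS hm)
  have hTc : ∀ x ∈ T, ∀ y ∈ T, x * y = y * x := by
    intro x hx y hy
    obtain ⟨u, hu, rfl⟩ := hTW hx
    obtain ⟨v, hv, rfl⟩ := hTW hy
    have hle : W ≤ centralizer (W : Set X) := by
      refine sup_le ?_ ?_ <;> intro a ha <;> rw [Subgroup.mem_centralizer_iff] <;> intro c hc'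
      all_goals
        suffices hsuf : W ≤ centralizer ({a} : Set X) from mem_centralizer_singleton_iff.1 (hsuf hc')
      · exact sup_le (fun c hc => mem_centralizer_singleton_iff.2 (hab₁ c hc a ha))
          (fun c hc' => mem_centralizer_singleton_iff.2 (hc a ha c hc').symm)
      · exact sup_le (fun c hc' => mem_centralizer_singleton_iff.2 (hc c hc' a ha))
          (fun c hc => mem_centralizer_singleton_iff.2 (hab₂ c hc a ha))
    rw [← map_mul, ← map_mul, Subgroup.mem_centralizer_iff.1 (hle hv) u hu]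
  -- `T` is a Sylow subgroup of `N`
  have hS'2 : IsPGroup 2 S' := S.2.map π
  obtain ⟨R, hR⟩ := ((hS'2.to_le inf_le_left : IsPGroup 2 T).comap_of_injective N.subtype
    Subtype.val_injective).exists_le_sylow
  have hRT : (R : Subgroup N).map N.subtype = T := by
    symm
    refine eq_of_le_of_card_ge (fun t ht => ⟨⟨t, ht.2⟩, hR ht, rfl⟩) ?_
    obtain ⟨R', hR'⟩ := (R.2.map N.subtype).exists_le_sylow
    obtain ⟨y, hy⟩ := MulAction.exists_smul_eq (X ⧸ O) R' (S.mapSurjective hπs)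
    have hle : ((R : Subgroup N).map N.subtype).map (MulAut.conj y).toMonoidHom ≤ T := by
      rintro _ ⟨x, hx, rfl⟩
      refine ⟨?_, hNn.conj_mem x (by obtain ⟨r, -, rfl⟩ := hx; exact r.2) y⟩
      show y * x * y⁻¹ ∈ (S : Subgroup X).map π
      rw [← Sylow.coe_mapSurjective hπs S, ← hy]
      show y * x * y⁻¹ ∈ MulAut.conj y • (R' : Subgroup (X ⧸ O))
      rw [Subgroup.mem_pointwise_smul_iff_inv_smul_mem]
      simpa [mul_assoc] using hR' hx
    have := Subgroup.card_le_of_le hle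
    rwa [Subgroup.card_map_of_injective (MulAut.conj y).injective] at this
  -- the normaliser of `T` centralises it
  have hcent : normalizer ((R : Subgroup N) : Set N) ≤ centralizer ((R : Subgroup N) : Set N) := by
    intro n hn
    obtain ⟨x, hxN, hxn⟩ := n.2
    have hnW₁ : ∀ a ∈ W₁, ∃ a' ∈ W₁, (n : X ⧸ O) * π a * (n : X ⧸ O)⁻¹ = π a' := by
      intro a ha
      have haT : π a ∈ T :=
        ⟨⟨a, h₁.1 ha, rfl⟩, ⟨a, Subgroup.subset_normalClosure ha, rfl⟩⟩
      rw [← hRT] at haT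
      obtain ⟨r, hr, hre⟩ := haT
      have hnr := (Subgroup.mem_normalizer_iff.1 hn r).1 hr
      have h3 : (n : X ⧸ O) * π a * (n : X ⧸ O)⁻¹ ∈ T := by
        rw [← hRT, ← hre]; exact ⟨_, hnr, rfl⟩
      obtain ⟨⟨s, hs, hse⟩, -⟩ := h3
      rw [← hxn, ← map_inv, ← map_mul, ← map_mul] at hse ⊢
      have hm : x * a * x⁻¹ ∈ (S : Subgroup X) ⊔ O := by
        have := eqπ _ _ hse.symm
        rw [show x * a * x⁻¹ = (x * a * x⁻¹ * s⁻¹) * s by group]
        exact mul_mem (le_sup_right (a := (S : Subgroup X)) this) (le_sup_left (b := O) hs)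
      obtain ⟨o, ho, hoS⟩ := exists_conj_into (S : Subgroup X) O S.2 hOc
        (Subgroup.zpowers (x * a * x⁻¹)) (by
          refine (hW₁2.map (MulAut.conj x).toMonoidHom).to_le ?_
          exact Subgroup.zpowers_le.2 ⟨a, ha, rfl⟩) (Subgroup.zpowers_le.2 hm)
      have h4 := h₁.2 a ha (o * x) (by
        have := hoS _ (Subgroup.mem_zpowers _)
        rwa [show o * (x * a * x⁻¹) * o⁻¹ = o * x * a * (o * x)⁻¹ by group] at this)
      refine ⟨_, h4, ?_⟩
      have ho1 : π o = 1 := (QuotientGroup.eq_one_iff _).2 ho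
      simp [map_mul, ho1]
    have hnW₂ : ∀ b ∈ W₂, (n : X ⧸ O) * π b * (n : X ⧸ O)⁻¹ = π b := by
      intro b hb
      rw [mul_inv_eq_iff_eq_mul, ← hxn]
      exact hcomm x hxN b (Subgroup.subset_normalClosure hb)
    have hxW : ∀ w ∈ W, x * w * x⁻¹ ∈ W ⊔ O := by
      have hle : W ≤ (W ⊔ O).comap (MulAut.conj x).toMonoidHom := by
        refine sup_le (fun a ha => ?_) (fun b hb => ?_)
        · obtain ⟨a', ha', e⟩ := hnW₁ a ha
          rw [← hxn, ← map_inv, ← map_mul, ← map_mul] at e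
          show x * a * x⁻¹ ∈ W ⊔ O
          rw [show x * a * x⁻¹ = (x * a * x⁻¹ * a'⁻¹) * a' by group]
          exact mul_mem (le_sup_right (a := W) (eqπ _ _ e))
            (le_sup_left (b := O) (le_sup_left (b := W₂) ha'))
        · have e := hnW₂ b hb
          rw [← hxn, ← map_inv, ← map_mul, ← map_mul] at e
          show x * b * x⁻¹ ∈ W ⊔ O
          rw [show x * b * x⁻¹ = (x * b * x⁻¹ * b⁻¹) * b by group]
          exact mul_mem (le_sup_right (a := W) (eqπ _ _ e))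
            (le_sup_left (b := O) (le_sup_right (a := W₁) hb))
      exact fun w hw => hle hw
    obtain ⟨o, ho, hoW⟩ := exists_conj_into W O hW2 hOc (W.map (MulAut.conj x).toMonoidHom)
      (hW2.map _) (by rintro _ ⟨w, hw, rfl⟩; exact hxW w hw)
    have hyW : ∀ w ∈ W, o * x * w * (o * x)⁻¹ ∈ W := by
      intro w hw
      have := hoW _ ⟨w, hw, rfl⟩
      simp only [MulEquiv.coe_toMonoidHom, MulAut.conj_apply] at this
      rwa [show o * x * w * (o * x)⁻¹ = o * (x * w * x⁻¹) * o⁻¹ by group]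
    have ho1 : π o = 1 := (QuotientGroup.eq_one_iff _).2 ho
    have hy : π (o * x) = n := by rw [map_mul, ho1, one_mul, hxn]
    have hy₂ : ∀ b ∈ W₂, o * x * b = b * (o * x) := by
      intro b hb
      have h5 := h₂.2 b hb (o * x) (hWS (hyW b (le_sup_right (a := W₁) hb)))
      have h6 : π (o * x * b * (o * x)⁻¹) = π b := by
        rw [map_mul, map_mul, map_inv, hy, hnW₂ b hb]
      exact mul_inv_eq_iff_eq_mul.1 (mul_inv_eq_one.1 (disj _
        (h₂.1 (W₂.mul_mem h5 (W₂.inv_mem hb))) (eqπ _ _ h6)))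
    have hy₁ : ∀ a ∈ W₁, o * x * a = a * (o * x) :=
      hA (o * x) (fun a ha => h₁.2 a ha _ (hWS (hyW a (le_sup_left (b := W₂) ha)))) hy₂
    have hle : W ≤ (centralizer ({(n : X ⧸ O)} : Set (X ⧸ O))).comap π := by
      refine sup_le ?_ ?_ <;> intro w hw <;>
        rw [Subgroup.mem_comap, mem_centralizer_singleton_iff, ← hy, ← map_mul, ← map_mul]
      · rw [hy₁ w hw]
      · rw [hy₂ w hw]
    rw [Subgroup.mem_centralizer_iff]
    intro r hr
    obtain ⟨w, hw, hwr⟩ := hTW (hRT ▸ Subgroup.mem_map_of_mem _ hr)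
    refine Subtype.ext ?_
    have := mem_centralizer_singleton_iff.1 (hle hw)
    rw [hwr] at this
    simpa using this
  -- the normal complement is trivial
  have hcompl := MonoidHom.ker_transferSylow_isComplement' R hcent
  set D := (MonoidHom.transferSylow R hcent).ker with hD
  have hDc : (Nat.card D).Coprime 2 := by
    rw [← hcompl.index_eq_card]
    exact (Nat.prime_two.coprime_iff_not_dvd.2 R.not_dvd_index).symm
  have hD1 : D = ⊥ := by
    haveI := Cores.normal_map_subtype N (Cfsg.pPrimeCore 2 N)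
    have h1 : (Cfsg.pPrimeCore 2 N).map N.subtype ≤ Cfsg.pPrimeCore 2 (X ⧸ O) :=
      Cores.le_pPrimeCore ((Cores.pPrimeCore_coprime 2).coprime_dvd_left
        (Subgroup.card_map_dvd _ _))
    rw [Cores.pPrimeCore_quotient_pPrimeCore, le_bot_iff,
      Subgroup.map_eq_bot_iff_of_injective _ N.subtype_injective] at h1
    exact le_bot_iff.1 (h1 ▸ Cores.le_pPrimeCore hDc)
  have hNT : N ≤ T := by
    have htop : (R : Subgroup N) = ⊤ := by
      have := hcompl.sup_eq_top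
      rwa [hD1, bot_sup_eq] at this
    intro x hx
    rw [← hRT]
    exact ⟨⟨x, hx⟩, htop.symm ▸ Subgroup.mem_top _, rfl⟩
  intro a ha
  obtain ⟨w, hw, hwe⟩ := hTW (hNT ⟨a, ha, rfl⟩)
  rw [show a = (a * w⁻¹) * w by group]
  exact mul_mem (le_sup_right (a := W) (eqπ _ _ hwe.symm)) (le_sup_left (b := O) hw)

end Cfsg.Agent.Lib.M12Sylow18
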