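import Cfsg.Agent.Lib.M12Sylow18.Std
import Cfsg.Agent.Lib.M12Sylow18.QData
import Cfsg.Agent.Lib.M12Sylow18.Split

/-!
# Fusion inside the centraliser of `z`
-/

set_option autoImplicit false
set_option linter.style.haveILetI false
set_option linter.unusedSectionVars false

namespace Cfsg.Agent.Lib.M12Sylow18

open Cfsg.Agent.Lib.M12Sylow18.Mod
open Subgroup
open scoped Pointwise

variable {G : Type*} [Group G] [Finite G]

/-- The subgroup of elements with code satisfying `q`. -/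
def setSub {P : Subgroup G} (C : Co P 0) (q : ℕ → Bool) (h0 : q 0 = true)
    (hq : ∀ x < 64, ∀ y < 64, q x = true → q y = true → q (tm 0 x y) = true) : Subgroup G where
  carrier := {g | ∃ x < 64, q x = true ∧ C.e x = g}
  mul_mem' := by
    rintro _ _ ⟨x, hx, hxq, rfl⟩ ⟨y, hy, hyq, rfl⟩
    exact ⟨_, tm_lt 0 x y, hq x hx y hy hxq hyq, C.e_mul x hx y hy⟩
  one_mem' := ⟨0, by omega, h0, C.e_zero⟩
  inv_mem' := by
    rintro g ⟨x, hx, hxq, rfl⟩
    suffices h : ∀ n, ∃ y < 64, q y = true ∧ C.e y = C.e x ^ n by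
      obtain ⟨y, hy, hyq, hye⟩ := h (orderOf (C.e x) - 1)
      refine ⟨y, hy, hyq, hye.trans (eq_inv_of_mul_eq_one_left ?_)⟩
      rw [← pow_succ, Nat.sub_add_cancel (orderOf_pos _), pow_orderOf_eq_one]
    intro n
    induction n with
    | zero => exact ⟨0, by omega, h0, by rw [pow_zero, C.e_zero]⟩
    | succ n ih =>
      obtain ⟨y, hy, hyq, hye⟩ := ih
      exact ⟨_, tm_lt 0 y x, hq y hy x hx hyq hxq, by rw [C.e_mul y hy x hx, hye, pow_succ]⟩

theorem mem_setSub {P : Subgroup G} {C : Co P 0} {q : ℕ → Bool} {h0 : q 0 = true}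
    {hq : ∀ x < 64, ∀ y < 64, q x = true → q y = true → q (tm 0 x y) = true} {x : ℕ} (hx : x < 64) :
    C.e x ∈ setSub C q h0 hq ↔ q x = true := by
  refine ⟨?_, fun h => ⟨x, hx, h, rfl⟩⟩
  rintro ⟨y, hy, hyq, e⟩
  rwa [← C.e_inj y hy x hx e]

theorem sub_checks : (qf 0 = true ∧ w1 0 = true ∧ w2 0 = true ∧ zf 0 = true) ∧
    ∀ x < 64, ∀ y < 64, (qf x = true → qf y = true → qf (tm 0 x y) = true) ∧
      (w1 x = true → w1 y = true → w1 (tm 0 x y) = true) ∧
      (w2 x = true → w2 y = true → w2 (tm 0 x y) = true) := by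
  have h := chk_sub
  simp only [Bool.and_eq_true] at h
  obtain ⟨⟨⟨⟨a, b⟩, c⟩, d⟩, e⟩ := h
  refine ⟨⟨a, b, c, d⟩, fun x hx y hy => ?_⟩
  have e' := allB_spec (allB_spec e x hx) y hy
  simp only [Bool.and_eq_true, Bool.or_eq_true, Bool.not_eq_true', Bool.and_eq_false_iff] at e'
  obtain ⟨⟨⟨e1, e2⟩, e3⟩, -⟩ := e'
  refine ⟨fun p q => ?_, fun p q => ?_, fun p q => ?_⟩
  · exact e1.resolve_left (by rw [p, q]; simp)
  · exact e2.resolve_left (by rw [p, q]; simp)
  · exact e3.resolve_left (by rw [p, q]; simp)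

namespace Std

variable {P : Sylow 2 G} (S : Std P)

/-- The subgroup `Q`. -/
def Q : Subgroup G :=
  setSub S.co qf sub_checks.1.1 (fun x hx y hy => (sub_checks.2 x hx y hy).1)

/-- The first quaternion subgroup. -/
def W1 : Subgroup G :=
  setSub S.co w1 sub_checks.1.2.1 (fun x hx y hy => (sub_checks.2 x hx y hy).2.1)

/-- The second quaternion subgroup. -/
def W2 : Subgroup G :=
  setSub S.co w2 sub_checks.1.2.2.1 (fun x hx y hy => (sub_checks.2 x hx y hy).2.2)

theorem mem_Q {x : ℕ} (hx : x < 64) : S.co.e x ∈ S.Q ↔ qf x = true := mem_setSub hx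

theorem mem_W1 {x : ℕ} (hx : x < 64) : S.co.e x ∈ S.W1 ↔ w1 x = true := mem_setSub hx

theorem mem_W2 {x : ℕ} (hx : x < 64) : S.co.e x ∈ S.W2 ↔ w2 x = true := mem_setSub hx

theorem Q_le : S.Q ≤ (P : Subgroup G) := by rintro _ ⟨x, hx, -, rfl⟩; exact S.co.mem hx

theorem W1_le : S.W1 ≤ S.Q := by
  rintro _ ⟨x, hx, h, rfl⟩
  have := allB_spec chk_wsub x hx
  simp only [Bool.and_eq_true, Bool.or_eq_true, Bool.not_eq_true', h, Bool.true_eq_false,
    false_or] at this
  exact (S.mem_Q hx).2 this.1.1.1.1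

theorem W2_le : S.W2 ≤ S.Q := by
  rintro _ ⟨x, hx, h, rfl⟩
  have := allB_spec chk_wsub x hx
  simp only [Bool.and_eq_true, Bool.or_eq_true, Bool.not_eq_true', h, Bool.true_eq_false,
    false_or] at this
  exact (S.mem_Q hx).2 this.1.1.1.2

theorem z_mem_W1 : S.co.e 16 ∈ S.W1 := (S.mem_W1 (by omega)).2 (by decide)

theorem z_mem_W2 : S.co.e 16 ∈ S.W2 := (S.mem_W2 (by omega)).2 (by decide)

theorem z_mem_Q : S.co.e 16 ∈ S.Q := S.W1_le S.z_mem_W1

/-- Move an element of `Q` of `z`-type to `b` inside the centraliser of `z`. -/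
theorem to_b {x : ℕ} (hx : x < 64) (hq : qf x = true) (hz : x ∈ zset) (h16 : x ≠ 16) :
    ∃ g, g * S.co.e 16 = S.co.e 16 * g ∧ g * S.co.e x * g⁻¹ = S.co.e 1 := by
  have h := allB_spec chk_out x hx
  simp only [Bool.and_eq_true, Bool.or_eq_true, Bool.not_eq_true', Nat.beq_eq,
    inL_iff, ← Bool.not_eq_true, hq, hz, h16, and_self, not_true_eq_false, false_or] at h
  rcases h.1.2 with h1 | hc
  · simp only [List.mem_cons, List.not_mem_nil, or_false] at h1
    rcases h1 with rfl | rfl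
    · exact ⟨1, by simp, by simp⟩
    · refine ⟨S.co.e 4, S.co.z_comm _ (S.co.mem (by omega)), ?_⟩
      have h' := chk_swap
      simp only [Bool.and_eq_true, Nat.beq_eq] at h'
      exact S.co.conj_code (by omega) (by omega) (by omega) h'.1.1.2
  · obtain ⟨g, hgz, hg⟩ := S.swap
    obtain ⟨s, hs, hse⟩ := (S.co.class_conj hx).2.1 hc
    refine ⟨g * s⁻¹, ?_, ?_⟩
    · rw [mul_assoc, S.co.z_comm _ ((P : Subgroup G).inv_mem hs), ← mul_assoc, hgz, mul_assoc]
    · rw [← hse, ← hg]; group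

/-- `a` is not conjugate to `b` in the centraliser of `z`. -/
theorem not_flip {g : G} (hgz : g * S.co.e 16 = S.co.e 16 * g)
    (hg : g * S.co.e 2 * g⁻¹ = S.co.e 1) : False := by
  haveI : Fact (Nat.Prime 2) := ⟨Nat.prime_two⟩
  set H : Subgroup G := centralizer ({S.co.e 16} : Set G) ⊓
    normalizer ({S.co.e 1, S.co.e 17} : Set G) with hH
  have e17 : ∀ k : G, k * S.co.e 17 * k⁻¹ = (k * S.co.e 1 * k⁻¹) * (k * S.co.e 16 * k⁻¹) := by
    intro k; rw [← S.co.e_one_z]; group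
  have e17z : S.co.e 17 * S.co.e 16 = S.co.e 1 := by
    rw [← S.co.e_one_z, mul_assoc, S.co.sq_eq (by omega), show tm 0 16 16 = 0 from by decide +kernel,
      S.co.e_zero, mul_one]
  have hmemH : ∀ k : G, k * S.co.e 16 = S.co.e 16 * k →
      (k * S.co.e 1 * k⁻¹ = S.co.e 1 ∨ k * S.co.e 1 * k⁻¹ = S.co.e 17) → k ∈ H := by
    intro k hk h
    have hz' : k * S.co.e 16 * k⁻¹ = S.co.e 16 := conj_fix hk
    refine ⟨mem_centralizer_singleton_iff.2 hk, Subgroup.mem_set_normalizer_iff.2 fun n => ?_⟩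
    simp only [Set.mem_insert_iff, Set.mem_singleton_iff]
    constructor
    · rintro (rfl | rfl)
      · exact h
      · rw [e17, hz']
        rcases h with h | h <;> rw [h]
        · exact Or.inr S.co.e_one_z
        · exact Or.inl e17z
    · intro hn
      have key : ∀ w, k * n * k⁻¹ = k * w * k⁻¹ → n = w := fun w e =>
        mul_left_cancel (mul_right_cancel e)
      rcases h with h | h
      · rcases hn with hn | hn
        · exact Or.inl (key _ (hn.trans h.symm))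
        · exact Or.inr (key _ (by rw [hn, e17, h, hz', S.co.e_one_z]))
      · rcases hn with hn | hn
        · exact Or.inr (key _ (by rw [hn, e17, h, hz', e17z]))
        · exact Or.inl (key _ (hn.trans h.symm))
  have hPH : (P : Subgroup G) ≤ H := by
    intro k hk
    refine hmemH k (S.co.z_comm k hk) ?_
    obtain ⟨w, hw, hwe⟩ := S.co.nb_of_mem hk 1 (by simp [clB])
    fin_cases hw
    · exact Or.inl hwe
    · exfalso
      have h2 : k * S.co.e 1 * k⁻¹ = k * S.co.e 16 * k⁻¹ := by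
        rw [hwe, conj_fix (S.co.z_comm k hk)]
      exact S.co.b_ne (mul_left_cancel (mul_right_cancel h2))
    · exact Or.inr hwe
  set U := (Subgroup.closure ({S.co.e 16, S.co.e 2, S.co.e 8} : Set G)).map
    (MulAut.conj g).toMonoidHom with hU
  have hUP : Subgroup.closure ({S.co.e 16, S.co.e 2, S.co.e 8} : Set G) ≤ (P : Subgroup G) := by
    rw [Subgroup.closure_le]
    rintro _ (rfl | rfl | rfl) <;> exact S.co.mem (by omega)
  have hU2 : IsPGroup 2 U := (P.2.to_le hUP).map _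
  have gmap : ∀ {x y : G}, x * y = y * x →
      g * x * g⁻¹ * (g * y * g⁻¹) = g * y * g⁻¹ * (g * x * g⁻¹) := by
    intro x y hxy
    calc g * x * g⁻¹ * (g * y * g⁻¹) = g * (x * y) * g⁻¹ := by group
      _ = g * (y * x) * g⁻¹ := by rw [hxy]
      _ = _ := by group
  have hgz' : g * S.co.e 16 * g⁻¹ = S.co.e 16 := conj_fix hgz
  have c2 : S.co.e 2 * S.co.e 16 = S.co.e 16 * S.co.e 2 := S.co.z_comm _ (S.co.mem (by omega))
  have c8 : S.co.e 8 * S.co.e 16 = S.co.e 16 * S.co.e 8 := S.co.z_comm _ (S.co.mem (by omega))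
  have conj28 : S.co.e 8 * S.co.e 2 * (S.co.e 8)⁻¹ = S.co.e 18 :=
    S.co.conj_code (by omega) (by omega) (by omega) (by decide +kernel)
  have h18 : g * S.co.e 18 * g⁻¹ = S.co.e 17 := by
    rw [show (18 : ℕ) = tm 0 2 16 from by decide +kernel, S.co.e_mul 2 (by omega) 16 (by omega),
      ← S.co.e_one_z, ← hg]
    nth_rewrite 2 [← hgz']
    group
  have hUH : U ≤ H := by
    rw [hU, MonoidHom.map_closure, Subgroup.closure_le]
    rintro _ ⟨x, (rfl | rfl | rfl), rfl⟩ <;>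
      simp only [MulEquiv.coe_toMonoidHom, MulAut.conj_apply, SetLike.mem_coe]
    · exact hPH (by rw [hgz']; exact S.co.mem (by omega))
    · exact hPH (by rw [hg]; exact S.co.mem (by omega))
    · refine hmemH _ ?_ (Or.inr ?_)
      · have := gmap c8
        rwa [hgz'] at this
      · rw [← hg, ← conj28] at *
        calc g * S.co.e 8 * g⁻¹ * (g * S.co.e 2 * g⁻¹) * (g * S.co.e 8 * g⁻¹)⁻¹
            = g * (S.co.e 8 * S.co.e 2 * (S.co.e 8)⁻¹) * g⁻¹ := by group
          _ = _ := h18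
  obtain ⟨h, hh, hle⟩ := Involutions.StronglyEmbedded.exists_conj_le_sylow (P.subtype hPH) hU2 hUH
  have hmapP : (P.subtype hPH : Subgroup H).map H.subtype = (P : Subgroup G) := by
    rw [Sylow.coe_subtype, subgroupOf_map_subtype, inf_of_le_left hPH]
  have hin : ∀ x ∈ U, h * x * h⁻¹ ∈ (P : Subgroup G) := fun x hx =>
    hmapP ▸ hle ⟨x, hx, rfl⟩
  obtain ⟨hhz, hhn⟩ := hh
  have hhz' : h * S.co.e 16 * h⁻¹ = S.co.e 16 := conj_fix (mem_centralizer_singleton_iff.1 hhz)
  have hβ := (Subgroup.mem_set_normalizer_iff.1 hhn (S.co.e 1)).1 (Set.mem_insert _ _)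
  obtain ⟨β, hβ17, hβe⟩ : ∃ β, (β = 1 ∨ β = 17) ∧ h * g * S.co.e 2 * (h * g)⁻¹ = S.co.e β := by
    rw [← conj_comp, hg]
    rcases hβ with e | e
    · exact ⟨1, Or.inl rfl, e⟩
    · exact ⟨17, Or.inr rfl, e⟩
  have h8U : g * S.co.e 8 * g⁻¹ ∈ U :=
    ⟨S.co.e 8, Subgroup.subset_closure (by simp), rfl⟩
  obtain ⟨v, hv, hve⟩ := (S.co.mem_iff _).1 (hin _ h8U)
  rw [conj_comp] at hve
  have hzfix : h * g * S.co.e 16 * (h * g)⁻¹ = S.co.e 16 := by rw [← conj_comp, hgz', hhz']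
  have hvv : tm 0 v v = 16 := by
    refine S.co.e_inj _ (tm_lt _ _ _) 16 (by omega) ?_
    rw [← S.co.sq_eq hv, hve, ← hzfix, show (16 : ℕ) = tm 0 8 8 from by decide +kernel,
      ← S.co.sq_eq (by omega)]
    group
  have hf := allB_spec chk_flip v hv
  rw [hvv] at hf
  simp only [Nat.beq_refl, Bool.not_true, Bool.false_or] at hf
  have hβ64 : β < 64 := by rcases hβ17 with rfl | rfl <;> omega
  have hf' := allB_spec hf β hβ64
  rw [inL_iff.2 (show β ∈ [1, 17] by rcases hβ17 with rfl | rfl <;> simp)] at hf'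
  simp only [Bool.not_true, Bool.false_or, Bool.or_eq_true, Bool.not_eq_true'] at hf'
  rcases hf' with hc | hc
  · have h1 := (S.co.commute_iff hv hβ64).2 hc
    rw [hve, ← hβe] at h1
    have h2 : S.co.e 8 * S.co.e 2 = S.co.e 2 * S.co.e 8 := by
      refine mul_left_cancel (a := h * g) (mul_right_cancel (b := (h * g)⁻¹) ?_)
      calc h * g * (S.co.e 8 * S.co.e 2) * (h * g)⁻¹
          = h * g * S.co.e 8 * (h * g)⁻¹ * (h * g * S.co.e 2 * (h * g)⁻¹) := by group
        _ = h * g * S.co.e 2 * (h * g)⁻¹ * (h * g * S.co.e 8 * (h * g)⁻¹) := h1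
        _ = _ := by group
    rw [mul_inv_eq_iff_eq_mul.2 h2] at conj28
    have := S.co.e_inj 2 (by omega) 18 (by omega) conj28
    omega
  · have h10 : tm 0 8 2 ∈ zset := by decide +kernel
    have e : h * g * S.co.e (tm 0 8 2) * (h * g)⁻¹ = S.co.e (tm 0 v β) := by
      rw [S.co.e_mul 8 (by omega) 2 (by omega), S.co.e_mul v hv β hβ64, hve, ← hβe]; group
    have := (S.zset_conj (tm_lt _ _ _) (tm_lt _ _ _) e).1 h10
    rw [← inL_iff, hc] at this
    exact Bool.noConfusion this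

/-- `Q` is strongly closed in `P` in the centraliser of `z`. -/
theorem Q_closed {g : G} (hgz : g * S.co.e 16 = S.co.e 16 * g) {q : G} (hq : q ∈ S.Q)
    (h : g * q * g⁻¹ ∈ (P : Subgroup G)) : g * q * g⁻¹ ∈ S.Q := by
  obtain ⟨x, hx, hxq, rfl⟩ := hq
  obtain ⟨y, hy, hye⟩ := (S.co.mem_iff _).1 h
  rw [← hye, S.mem_Q hy]
  by_contra hyq
  have hyo := allB_spec chk_out y hy
  simp only [Bool.and_eq_true, Bool.or_eq_true, Bool.not_eq_true', inL_iff,
    ← Bool.not_eq_true, Nat.beq_eq] at hyo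
  have hyy : S.co.e (tm 0 y y) = g * S.co.e (tm 0 x x) * g⁻¹ := by
    rw [← S.co.sq_eq hy, hye, ← S.co.sq_eq hx]; group
  have hxx := allB_spec chk_out x hx
  simp only [Bool.and_eq_true, Bool.or_eq_true, Bool.not_eq_true', inL_iff,
    ← Bool.not_eq_true, Nat.beq_eq, hxq, not_true_eq_false, false_or] at hxx
  have hy02 : tm 0 y y = 0 ∨ tm 0 y y = 16 := by
    rcases hxx.1.1.2 with e | e <;> rw [e] at hyy
    · refine Or.inl (S.co.e_inj _ (tm_lt _ _ _) 0 (by omega) ?_)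
      rw [hyy, S.co.e_zero]; group
    · exact Or.inr (S.co.e_inj _ (tm_lt _ _ _) 16 (by omega) (hyy.trans (conj_fix hgz)))
  rcases hyo.1.1.1 with (hy' | hyA) | hy'
  · exact hyq hy'
  · have hyz : y ∈ zset := by fin_cases hyA <;> decide
    have hxz : x ∈ zset := (S.zset_conj hx hy hye.symm).2 hyz
    rcases eq_or_ne x 16 with rfl | h16
    · rw [conj_fix hgz] at hye
      have := S.co.e_inj y hy 16 (by omega) hye
      subst this
      exact hyq (by decide)
    · obtain ⟨k, hkz, hk⟩ := S.to_b hx hxq hxz h16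
      obtain ⟨s, hs, hse⟩ := (S.co.class_conj hy).1 hyA
      refine S.not_flip (g := k * g⁻¹ * s) ?_ ?_
      · have hgi : g⁻¹ * S.co.e 16 = S.co.e 16 * g⁻¹ := by
          rw [inv_mul_eq_iff_eq_mul, ← mul_assoc, hgz]; group
        rw [mul_assoc, S.co.z_comm s hs, ← mul_assoc, mul_assoc k, hgi, ← mul_assoc, hkz]
        group
      · rw [← hk]
        calc k * g⁻¹ * s * S.co.e 2 * (k * g⁻¹ * s)⁻¹
            = k * (g⁻¹ * (s * S.co.e 2 * s⁻¹) * g) * k⁻¹ := by group
          _ = _ := by rw [hse, hye]; group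
  · rcases hy02 with e | e
    · exact hy'.1 e
    · exact hy'.2 e

end Std

end Cfsg.Agent.Lib.M12Sylow18
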