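import Cfsg.Agent.Lib.M12Sylow18.Model

/-!
# Coordinates on a Sylow subgroup of order 64 with a self-centralising element of order 8
-/

set_option autoImplicit false

namespace Cfsg.Agent.Lib.M12Sylow18

open Cfsg.Agent.Lib.M12Sylow18.Mod

variable {G : Type*} [Group G]

/-- Coordinates on the subgroup `P`. -/
structure Co (P : Subgroup G) (p : ℕ) where
  /-- The element with given code. -/
  e : ℕ → G
  p_lt : p < 8
  e_mul : ∀ x < 64, ∀ y < 64, e (tm p x y) = e x * e y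
  e_inj : ∀ x < 64, ∀ y < 64, e x = e y → x = y
  mem_iff : ∀ g, g ∈ P ↔ ∃ x < 64, e x = g

/-- Generators of a subgroup of type `⟨f, a, b⟩`. -/
structure NGen (A : ℕ) (f a b : G) : Prop where
  A_lt : A < 2
  f8 : f ^ 8 = 1
  af : a * f = f ^ 7 * a
  bf : b * f = f ^ 5 * b
  aa : a * a = f ^ (4 * A)
  bb : b * b = 1
  ab : a * b = b * a

/-- The element of `⟨f, a, b⟩` with given code. -/
def e0 (f a b : G) (x : ℕ) : G := f ^ ci x * a ^ cj x * b ^ cl x

theorem ci_mk {i j l e : ℕ} : ci (mk i j l e) = i % 8 := by simp only [ci, mk]; omega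

theorem cj_mk {i j l e : ℕ} : cj (mk i j l e) = j % 2 := by simp only [cj, mk]; omega

theorem cl_mk {i j l e : ℕ} : cl (mk i j l e) = l % 2 := by simp only [cl, mk]; omega

theorem cj_lt (x : ℕ) : cj x < 2 := by simp only [cj]; omega

theorem cl_lt (x : ℕ) : cl x < 2 := by simp only [cl]; omega

namespace NGen

variable {A : ℕ} {f a b : G} (h : NGen A f a b)

include h in
theorem f_congr {i k : ℕ} (hik : i % 8 = k % 8) : f ^ i = f ^ k := by
  rw [pow_eq_pow_mod i h.f8, pow_eq_pow_mod k h.f8, hik]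

include h in
theorem a_pow (k : ℕ) : a * f ^ k = f ^ (7 * k) * a := by
  have := (SemiconjBy.pow_right (show SemiconjBy a f (f ^ 7) from h.af) k).eq
  rwa [← pow_mul] at this

include h in
theorem b_pow (k : ℕ) : b * f ^ k = f ^ (5 * k) * b := by
  have := (SemiconjBy.pow_right (show SemiconjBy b f (f ^ 5) from h.bf) k).eq
  rwa [← pow_mul] at this

include h in
theorem move (j l k : ℕ) (hj : j < 2) (hl : l < 2) :
    a ^ j * b ^ l * f ^ k = f ^ (sg j l * k) * (a ^ j * b ^ l) := by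
  interval_cases j <;> interval_cases l <;>
    simp only [sg, Nat.zero_mod, Nat.one_mod, pow_zero, pow_one, one_mul, mul_one]
  · exact (one_mul (f ^ k)).symm ▸ (by simp)
  · exact h.b_pow k
  · exact h.a_pow k
  · rw [mul_assoc, h.b_pow, ← mul_assoc, h.a_pow, mul_assoc]
    refine congrArg (· * (a * b)) (h.f_congr ?_)
    show 7 * (5 * k) % 8 = 3 * k % 8
    omega

include h in
theorem mul_tail (j l m o : ℕ) (hj : j < 2) (_hl : l < 2) (hm : m < 2) (_ho : o < 2) :
    a ^ j * b ^ l * (a ^ m * b ^ o) =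
      f ^ (4 * A * (j * m)) * a ^ ((j + m) % 2) * b ^ ((l + o) % 2) := by
  have hc : Commute a b := h.ab
  rw [mul_assoc, ← mul_assoc (b ^ l), ← (hc.pow_pow m l).eq, mul_assoc (a ^ m), ← mul_assoc,
    ← pow_add, ← pow_add]
  have hb : b ^ (l + o) = b ^ ((l + o) % 2) := pow_eq_pow_mod _ (by rw [pow_two, h.bb])
  rw [hb]
  refine congrArg (· * b ^ ((l + o) % 2)) ?_
  interval_cases j <;> interval_cases m <;> simp [pow_two, h.aa]

include h in
theorem e0_nm (x y : ℕ) : e0 f a b (nm A x y) = e0 f a b x * e0 f a b y := by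
  simp only [e0, nm, ci_mk, cj_mk, cl_mk]
  set i := ci x
  set j := cj x
  set l := cl x
  set k := ci y
  set m := cj y
  set o := cl y
  have hj : j < 2 := cj_lt x
  have hl : l < 2 := cl_lt x
  have hm : m < 2 := cj_lt y
  have ho : o < 2 := cl_lt y
  rw [← pow_eq_pow_mod _ h.f8]
  calc f ^ (i + sg j l * k + 4 * A * (j * m)) * a ^ ((j + m) % 2) * b ^ ((l + o) % 2)
      = f ^ i * f ^ (sg j l * k) *
          (f ^ (4 * A * (j * m)) * a ^ ((j + m) % 2) * b ^ ((l + o) % 2)) := by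
        rw [pow_add, pow_add]; group
    _ = f ^ i * (f ^ (sg j l * k) * (a ^ j * b ^ l)) * (a ^ m * b ^ o) := by
        rw [← h.mul_tail j l m o hj hl hm ho]; group
    _ = f ^ i * (a ^ j * b ^ l * f ^ k) * (a ^ m * b ^ o) := by rw [h.move j l k hj hl]
    _ = _ := by group

include h in
theorem e0_npw (x : ℕ) : ∀ n, e0 f a b (npw A x n) = e0 f a b x ^ n
  | 0 => by simp [npw, e0, ci, cj, cl]
  | n + 1 => by rw [npw, h.e0_nm, e0_npw x n, pow_succ]

theorem chk_conj : allB 2 (fun A => allB 32 fun x =>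
    Nat.beq (nm A x 4) (nm A (4 * sg (cj x) (cl x)) x)) = true := by decide +kernel

theorem e0_four_mul (f a b : G) {k : ℕ} (hk : k < 8) : e0 f a b (4 * k) = f ^ k := by
  have h1 : ci (4 * k) = k := by simp only [ci]; omega
  have h2 : cj (4 * k) = 0 := by simp only [cj]; omega
  have h3 : cl (4 * k) = 0 := by simp only [cl]; omega
  simp [e0, h1, h2, h3]

theorem sg_lt {j l : ℕ} : sg j l < 8 := by
  simp only [sg]
  cases Nat.beq (j % 2) 0 <;> cases Nat.beq (l % 2) 0 <;> simp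

include h in
theorem conj_f {x : ℕ} (hx : x < 32) :
    e0 f a b x * f = f ^ sg (cj x) (cl x) * e0 f a b x := by
  have h1 := Nat.eq_of_beq_eq_true (allB_spec (allB_spec chk_conj A h.A_lt) x hx)
  have h2 := congrArg (e0 f a b) h1
  rwa [h.e0_nm, h.e0_nm, e0_four_mul f a b (k := 1) (by omega), pow_one,
    e0_four_mul f a b sg_lt] at h2

include h in
theorem inj (hf : orderOf f = 8) {x y : ℕ} (hx : x < 32) (hy : y < 32)
    (hxy : e0 f a b x = e0 f a b y) : x = y := by
  have h1 : f ^ sg (cj x) (cl x) = f ^ sg (cj y) (cl y) := by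
    have := (h.conj_f hx).symm.trans (hxy ▸ h.conj_f hy)
    exact mul_right_cancel (this.trans (by rw [hxy]))
  have h2 : sg (cj x) (cl x) = sg (cj y) (cl y) :=
    pow_injOn_Iio_orderOf (by rw [Set.mem_Iio, hf]; exact sg_lt) (by rw [Set.mem_Iio, hf]; exact sg_lt) h1
  have hj := cj_lt x
  have hl := cl_lt x
  have hj' := cj_lt y
  have hl' := cl_lt y
  have h3 : cj x = cj y ∧ cl x = cl y := by
    generalize cj x = j at *
    generalize cl x = l at *
    generalize cj y = m at *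
    generalize cl y = o at *
    interval_cases j <;> interval_cases l <;> interval_cases m <;> interval_cases o <;>
      first | exact ⟨rfl, rfl⟩ | exact absurd h2 (by decide)
  have h4 : f ^ ci x = f ^ ci y := by
    simp only [e0, h3.1, h3.2] at hxy
    exact mul_right_cancel (mul_right_cancel hxy)
  have h5 : ci x = ci y :=
    pow_injOn_Iio_orderOf (by rw [Set.mem_Iio, hf]; simp only [ci]; omega)
      (by rw [Set.mem_Iio, hf]; simp only [ci]; omega) h4
  obtain ⟨h6, h7⟩ := h3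
  simp only [ci, cj, cl] at h5 h6 h7
  omega

end NGen

/-- A conjugate of a subgroup of index 2. -/
theorem conj_mem_of_card {P N : Subgroup G} [Finite G] (hNP : N ≤ P)
    (hcard : Nat.card P = 2 * Nat.card N) {x n : G} (hx : x ∈ P) (hn : n ∈ N) :
    x * n * x⁻¹ ∈ N := by
  have hidx : (N.subgroupOf P).index = 2 := by
    have h1 := (N.subgroupOf P).index_mul_card
    rw [Nat.card_congr (Subgroup.subgroupOfEquivOfLe hNP).toEquiv, hcard] at h1
    exact Nat.eq_of_mul_eq_mul_right Nat.card_pos h1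
  exact (Subgroup.normal_of_index_eq_two hidx).conj_mem ⟨n, hNP hn⟩ hn ⟨x, hx⟩

theorem chk_eight : allB 2 (fun A => allB 32 fun u => Nat.beq (npw A u 4) 0 ||
    (Nat.beq (cj u) 0 && Nat.beq (ci u % 2) 1)) = true := by decide +kernel

theorem chk_adjust : allB 2 (fun A => allB 4 fun i =>
    anyB 32 fun w => Nat.beq (nm A w (8 * i + 5)) (nm A 5 w)) = true := by decide +kernel

theorem chk_b : allB 2 (fun A => allB 32 fun v => !(Nat.beq (nm A v 5) (nm A (npw A 5 5) v) &&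
    Nat.beq (nm A v v) 0) || (Nat.beq v 1 || Nat.beq v 17)) = true := by decide +kernel

theorem chk_a : allB 2 (fun A => allB 32 fun w => allB 2 fun d =>
    !(Nat.beq (nm A w 5) (nm A (npw A 5 7) w) && Nat.beq (nm A w w) (16 * A) &&
      Nat.beq (nm A w (1 + 16 * d)) (nm A (1 + 16 * d) w)) ||
    anyB 8 fun m => Nat.beq (nm A (npw A 5 m) w) (nm A 3 (npw A 5 m))) = true := by decide +kernel

theorem chk_sq : allB 2 (fun A => allB 2 fun d => allB 32 fun n =>
    !(Nat.beq (th (A + 2 * d) n) n &&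
      Nat.beq (nm A n 4) (nm A (th (A + 2 * d) 5) n)) ||
    anyB 2 fun s => Nat.beq n (pN (A + 2 * d + 4 * s))) = true := by decide +kernel

theorem th_congr {p q : ℕ} (hA : pA p = pA q) (hE : pE p = pE q) (x : ℕ) : th p x = th q x := by
  simp only [th, hA, hE]

/-- The normal form. -/
theorem exists_co [Finite G] {P : Subgroup G} (hcard : Nat.card P = 64) {f : G}
    (hfP : f ∈ P) (hf : orderOf f = 8) (hself : ∀ x ∈ P, x * f = f * x → x ∈ Subgroup.zpowers f)
    (hodd : ∀ k ∈ ({3, 5, 7} : Set ℕ), ∃ x ∈ P, x * f * x⁻¹ = f ^ k) :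
    ∃ p, ∃ C : Co P p, C.e 4 = f := by
  classical
  have f8 : f ^ 8 = 1 := hf ▸ pow_orderOf_eq_one f
  have fne : ∀ k, 0 < k → k < 8 → f ^ k ≠ 1 := fun k h0 h8 =>
    pow_ne_one_of_lt_orderOf (by omega) (hf ▸ h8)
  have finj : ∀ i j, f ^ i = f ^ j → i % 8 = j % 8 := fun i j h => by
    have := pow_eq_pow_iff_modEq.1 h
    rwa [hf] at this
  have hcent : ∀ x ∈ P, x * f = f * x → ∃ i < 8, x = f ^ i := fun x hx hc => by
    obtain ⟨i, hi⟩ := (mem_powers_iff_mem_zpowers (x := f)).2 (hself x hx hc)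
    exact ⟨i % 8, Nat.mod_lt _ (by omega), by rw [← pow_eq_pow_mod i f8]; exact hi.symm⟩
  obtain ⟨a0, ha0P, ha0⟩ := hodd 7 (by simp)
  obtain ⟨b0, hb0P, hb0⟩ := hodd 5 (by simp)
  rw [mul_inv_eq_iff_eq_mul] at ha0 hb0
  -- the square of `b0`
  obtain ⟨i, hi8, hi⟩ := hcent (b0 * b0) (P.mul_mem hb0P hb0P) (by
    have h1 : b0 * f ^ 5 = f ^ 25 * b0 := by
      have := (SemiconjBy.pow_right (show SemiconjBy b0 f (f ^ 5) from hb0) 5).eq
      rwa [← pow_mul] at this
    rw [mul_assoc, hb0, ← mul_assoc, h1, pow_eq_pow_mod 25 f8]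
    simp [mul_assoc])
  have hbpow : ∀ k, b0 * f ^ k = f ^ (5 * k) * b0 := fun k => by
    have := (SemiconjBy.pow_right (show SemiconjBy b0 f (f ^ 5) from hb0) k).eq
    rwa [← pow_mul] at this
  have hieven : i % 2 = 0 := by
    have h1 : f ^ (5 * i) * b0 = f ^ i * b0 := by rw [← hbpow, ← hi, mul_assoc]
    have := finj _ _ (mul_right_cancel h1)
    omega
  set b := f ^ (i / 2) * b0 with hbdef
  have hbP : b ∈ P := P.mul_mem (P.pow_mem hfP _) hb0P
  have hbf : b * f = f ^ 5 * b := by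
    rw [hbdef, mul_assoc, hb0, ← mul_assoc, ← mul_assoc, ← pow_add, ← pow_add, add_comm]
  have hbb : b * b = 1 := by
    calc b * b = f ^ (i / 2) * (b0 * f ^ (i / 2)) * b0 := by rw [hbdef]; group
      _ = f ^ (i / 2) * f ^ (5 * (i / 2)) * (b0 * b0) := by rw [hbpow]; group
      _ = f ^ (i / 2 + 5 * (i / 2) + i) := by rw [hi, ← pow_add, ← pow_add]
      _ = 1 := by rw [pow_eq_pow_mod _ f8, show (i / 2 + 5 * (i / 2) + i) % 8 = 0 by omega, pow_zero]
  have hapow : ∀ k, a0 * f ^ k = f ^ (7 * k) * a0 := fun k => by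
    have := (SemiconjBy.pow_right (show SemiconjBy a0 f (f ^ 7) from ha0) k).eq
    rwa [← pow_mul] at this
  obtain ⟨q, hq8, hq⟩ := hcent (a0 * a0) (P.mul_mem ha0P ha0P) (by
    rw [mul_assoc, ha0, ← mul_assoc, hapow, pow_eq_pow_mod (7 * 7) f8]
    simp [mul_assoc])
  have hq4 : q % 4 = 0 := by
    have h1 : f ^ (7 * q) * a0 = f ^ q * a0 := by rw [← hapow, ← hq, mul_assoc]
    have := finj _ _ (mul_right_cancel h1)
    omega
  have hbpow' : ∀ k, b * f ^ k = f ^ (5 * k) * b := fun k => by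
    have := (SemiconjBy.pow_right (show SemiconjBy b f (f ^ 5) from hbf) k).eq
    rwa [← pow_mul] at this
  -- the commutator of `a0` and `b`
  have hab0 : ∃ r, r < 8 ∧ a0 * b * a0⁻¹ * b⁻¹ = f ^ r := by
    obtain ⟨r, hr, he⟩ := hcent (a0 * b * a0⁻¹ * b⁻¹)
      (P.mul_mem (P.mul_mem (P.mul_mem ha0P hbP) (P.inv_mem ha0P)) (P.inv_mem hbP)) (by
      have hai : a0⁻¹ * f = f ^ 7 * a0⁻¹ := by
        have h49 := hapow 7
        rw [pow_eq_pow_mod (7 * 7) f8, show 7 * 7 % 8 = 1 from rfl, pow_one] at h49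
        rw [inv_mul_eq_iff_eq_mul, ← mul_assoc, h49]; group
      have hbi : b⁻¹ = b := inv_eq_of_mul_eq_one_right hbb
      rw [hbi]
      calc a0 * b * a0⁻¹ * b * f = a0 * b * (a0⁻¹ * f ^ 5) * b := by
            rw [mul_assoc _ b f, hbf]; group
        _ = a0 * b * (f ^ 35 * a0⁻¹) * b := by
            have := (SemiconjBy.pow_right (show SemiconjBy a0⁻¹ f (f ^ 7) from hai) 5).eq
            rw [← pow_mul] at this
            rw [this]
        _ = a0 * (f ^ (5 * 35) * b) * a0⁻¹ * b := by rw [← hbpow']; group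
        _ = f ^ (7 * (5 * 35)) * (a0 * b * a0⁻¹ * b) := by rw [← mul_assoc a0, hapow]; group
        _ = f * (a0 * b * a0⁻¹ * b) := by
            rw [pow_eq_pow_mod (7 * (5 * 35)) f8]; simp)
    exact ⟨r, hr, he⟩
  obtain ⟨r, hr8, hr⟩ := hab0
  have hr4 : r % 4 = 0 := by
    have h1 : a0 * b * a0⁻¹ = f ^ r * b := by rw [← hr]; group
    have h2 : (f ^ r * b) * (f ^ r * b) = 1 := by
      rw [← h1]
      calc a0 * b * a0⁻¹ * (a0 * b * a0⁻¹) = a0 * (b * b) * a0⁻¹ := by group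
        _ = 1 := by rw [hbb]; group
    have h3 : f ^ (r + 5 * r) = f ^ 0 := by
      rw [pow_zero, ← h2]
      calc f ^ (r + 5 * r) = f ^ r * f ^ (5 * r) * (b * b) := by rw [hbb, mul_one, pow_add]
        _ = f ^ r * (f ^ (5 * r) * b) * b := by group
        _ = _ := by rw [← hbpow']; group
    have := finj _ _ h3
    omega
  set A := q / 4 with hA
  set a := f ^ (r / 4) * a0 with hadef
  have haP : a ∈ P := P.mul_mem (P.pow_mem hfP _) ha0P
  have haf : a * f = f ^ 7 * a := by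
    rw [hadef, mul_assoc, ha0, ← mul_assoc, ← mul_assoc, ← pow_add, ← pow_add, add_comm]
  have haa : a * a = f ^ (4 * A) := by
    calc a * a = f ^ (r / 4) * (a0 * f ^ (r / 4)) * a0 := by rw [hadef]; group
      _ = f ^ (r / 4) * f ^ (7 * (r / 4)) * (a0 * a0) := by rw [hapow]; group
      _ = f ^ (r / 4 + 7 * (r / 4) + q) := by rw [hq, ← pow_add, ← pow_add]
      _ = _ := by
        rw [pow_eq_pow_mod _ f8, pow_eq_pow_mod (4 * A) f8]
        congr 1
        omega
  have hab : a * b = b * a := by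
    calc a * b = f ^ (r / 4) * (a0 * b * a0⁻¹) * a0 := by rw [hadef]; group
      _ = f ^ (r / 4) * f ^ r * b * a0 := by rw [show a0 * b * a0⁻¹ = f ^ r * b by rw [← hr]; group]; group
      _ = f ^ (5 * (r / 4)) * b * a0 := by
        rw [← pow_add, pow_eq_pow_mod (r / 4 + r) f8, pow_eq_pow_mod (5 * (r / 4)) f8]
        congr 3
        omega
      _ = _ := by rw [← hbpow', hadef]; group
  have hN : NGen A f a b := ⟨by omega, f8, haf, hbf, haa, hbb, hab⟩
  -- the normaliser of `⟨f⟩`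
  have he0P : ∀ x, e0 f a b x ∈ P := fun x =>
    P.mul_mem (P.mul_mem (P.pow_mem hfP _) (P.pow_mem haP _)) (P.pow_mem hbP _)
  have e0one : e0 f a b 0 = 1 := by simp [e0, ci, cj, cl]
  let N : Subgroup G :=
    { carrier := {g | ∃ x < 32, e0 f a b x = g}
      mul_mem' := by
        rintro _ _ ⟨x, hx, rfl⟩ ⟨y, hy, rfl⟩
        exact ⟨nm A x y, nm_lt A x y, hN.e0_nm x y⟩
      one_mem' := ⟨0, by omega, e0one⟩
      inv_mem' := by
        rintro _ ⟨x, hx, rfl⟩
        refine ⟨npw A x (orderOf (e0 f a b x) - 1), ?_, ?_⟩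
        · cases orderOf (e0 f a b x) - 1 with
          | zero => simp [npw]
          | succ n => exact nm_lt _ _ _
        · rw [hN.e0_npw]
          refine eq_inv_of_mul_eq_one_left ?_
          rw [← pow_succ, Nat.sub_add_cancel (orderOf_pos _), pow_orderOf_eq_one] }
  have hNle : N ≤ P := by rintro _ ⟨x, -, rfl⟩; exact he0P x
  have hN32 : Nat.card N = 32 := by
    rw [← Nat.card_fin 32]
    refine (Nat.card_eq_of_bijective (fun x : Fin 32 => (⟨e0 f a b x, x, x.2, rfl⟩ : N))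
      ⟨fun x y h => Fin.ext (hN.inj hf x.2 y.2 (congrArg Subtype.val h)), ?_⟩).symm
    rintro ⟨_, x, hx, rfl⟩
    exact ⟨⟨x, hx⟩, rfl⟩
  have hnorm : ∀ g ∈ P, ∀ k, g * f = f ^ k * g → g ∈ N := by
    intro g hg k hk
    have hk' : g * f * g⁻¹ = f ^ k := mul_inv_eq_iff_eq_mul.2 hk
    have hodd' : k % 2 = 1 := by
      have h1 : (g * f * g⁻¹) ^ 4 ≠ 1 := by
        rw [conj_pow]
        intro h
        exact fne 4 (by omega) (by omega) (by simpa using h)
      rw [hk', ← pow_mul, pow_eq_pow_mod _ f8] at h1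
      by_contra h
      exact h1 (by rw [show k * 4 % 8 = 0 by omega, pow_zero])
    obtain ⟨u, hu, hus⟩ : ∃ u < 4, sg (cj u) (cl u) = k % 8 := by
      have h8 : k % 8 = 1 ∨ k % 8 = 3 ∨ k % 8 = 5 ∨ k % 8 = 7 := by omega
      rcases h8 with h | h | h | h <;> rw [h]
      exacts [⟨0, by omega, rfl⟩, ⟨3, by omega, rfl⟩, ⟨1, by omega, rfl⟩, ⟨2, by omega, rfl⟩]
    have h2 := hN.conj_f (x := u) (by omega)
    rw [hus, ← pow_eq_pow_mod k f8] at h2
    obtain ⟨j, hj, hje⟩ := hcent ((e0 f a b u)⁻¹ * g) (P.mul_mem (P.inv_mem (he0P u)) hg) (by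
      have h3 : (e0 f a b u)⁻¹ * f ^ k = f * (e0 f a b u)⁻¹ := by
        rw [inv_mul_eq_iff_eq_mul, ← mul_assoc, h2]; group
      rw [mul_assoc, hk, ← mul_assoc, h3, mul_assoc])
    refine ⟨nm A u (4 * j), nm_lt _ _ _, ?_⟩
    rw [hN.e0_nm, NGen.e0_four_mul f a b hj, ← hje, mul_inv_cancel_left]
  obtain ⟨x, hxP, hxN⟩ : ∃ x ∈ P, x ∉ N := by
    refine SetLike.exists_of_lt (lt_of_le_of_ne hNle fun h => ?_)
    rw [h] at hN32
    omega
  have hconj : ∀ g ∈ P, ∀ n ∈ N, g * n * g⁻¹ ∈ N := fun g hg n hn =>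
    conj_mem_of_card hNle (by omega) hg hn
  have hfe : e0 f a b 4 = f := by simpa using NGen.e0_four_mul f a b (k := 1) (by omega)
  have hbe : e0 f a b 1 = b := by simp [e0, ci, cj, cl]
  have hae : e0 f a b 2 = a := by simp [e0, ci, cj, cl]
  have h5 : e0 f a b 5 = f * b := by simp [e0, ci, cj, cl]
  have h3e : e0 f a b 3 = a * b := by simp [e0, ci, cj, cl]
  have h17 : e0 f a b 17 = f ^ 4 * b := by simp [e0, ci, cj, cl]
  obtain ⟨u, hu, hue⟩ := hconj x hxP f ⟨4, by omega, hfe⟩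
  have hu4 : ¬ npw A u 4 = 0 := by
    intro h
    have := congrArg (e0 f a b) h
    rw [hN.e0_npw, hue, conj_pow, e0one] at this
    exact fne 4 (by omega) (by omega) (by simpa using this)
  have hushape := allB_spec (allB_spec chk_eight A hN.A_lt) u hu
  simp only [Bool.or_eq_true, Bool.and_eq_true, Nat.beq_eq] at hushape
  obtain ⟨huj, hui⟩ := hushape.resolve_left hu4
  have hul : cl u = 1 := by
    by_contra h
    have h0 : cl u = 0 := by have := cl_lt u; omega
    refine hxN (hnorm x hxP (ci u) (mul_inv_eq_iff_eq_mul.1 ?_))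
    rw [← hue]
    simp [e0, huj, h0]
  obtain ⟨w, hw, hwe⟩ : ∃ w < 32, e0 f a b w * e0 f a b u = e0 f a b 5 * e0 f a b w := by
    obtain ⟨i', hi', hu'⟩ : ∃ i' < 4, u = 8 * i' + 5 := by
      refine ⟨u / 8, by omega, ?_⟩
      simp only [ci, cj, cl] at huj hui hul
      omega
    obtain ⟨w, hw, hwc⟩ := anyB_spec (allB_spec (allB_spec chk_adjust A hN.A_lt) i' hi')
    refine ⟨w, hw, ?_⟩
    rw [← hN.e0_nm, ← hN.e0_nm, hu', Nat.eq_of_beq_eq_true hwc]
  set c₁ := e0 f a b w * x with hc₁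
  have hc₁P : c₁ ∈ P := P.mul_mem (he0P w) hxP
  have hc₁f : c₁ * f * c₁⁻¹ = f * b := by
    calc c₁ * f * c₁⁻¹ = e0 f a b w * (x * f * x⁻¹) * (e0 f a b w)⁻¹ := by rw [hc₁]; group
      _ = _ := by rw [← hue, hwe, h5]; group
  have hbimg : ∀ c ∈ P, c * f * c⁻¹ = f * b → ∃ d < 2, c * b * c⁻¹ = e0 f a b (1 + 16 * d) := by
    intro c hc hcf
    obtain ⟨v, hv, hve⟩ := hconj c hc b ⟨1, by omega, hbe⟩
    have h := allB_spec (allB_spec chk_b A hN.A_lt) v hv
    simp only [Bool.or_eq_true, Bool.not_eq_true', Bool.and_eq_false_iff] at h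
    rcases h with (h | h) | h | h
    · refine absurd ?_ (Nat.ne_of_beq_eq_false h)
      refine hN.inj hf (nm_lt _ _ _) (nm_lt _ _ _) ?_
      rw [hN.e0_nm, hN.e0_nm, hN.e0_npw, hve, h5, ← hcf, conj_pow]
      calc c * b * c⁻¹ * (c * f * c⁻¹) = c * (b * f) * c⁻¹ := by group
        _ = c * (f ^ 5 * b) * c⁻¹ := by rw [hbf]
        _ = _ := by group
    · refine absurd ?_ (Nat.ne_of_beq_eq_false h)
      refine hN.inj hf (nm_lt _ _ _) (by omega) ?_
      rw [hN.e0_nm, hve, e0one]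
      calc c * b * c⁻¹ * (c * b * c⁻¹) = c * (b * b) * c⁻¹ := by group
        _ = 1 := by rw [hbb]; group
    · exact ⟨0, by omega, by rw [← hve, Nat.eq_of_beq_eq_true h]⟩
    · exact ⟨1, by omega, by rw [← hve, Nat.eq_of_beq_eq_true h]⟩
  obtain ⟨d₁, hd₁, hd₁e⟩ := hbimg c₁ hc₁P hc₁f
  obtain ⟨y, hy, hye⟩ := hconj c₁ hc₁P a ⟨2, by omega, hae⟩
  obtain ⟨m, -, hm⟩ : ∃ m < 8, nm A (npw A 5 m) y = nm A 3 (npw A 5 m) := by
    have h := allB_spec (allB_spec (allB_spec chk_a A hN.A_lt) y hy) d₁ hd₁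
    simp only [Bool.or_eq_true, Bool.not_eq_true', Bool.and_eq_false_iff] at h
    rcases h with ((h | h) | h) | h
    · refine absurd ?_ (Nat.ne_of_beq_eq_false h)
      refine hN.inj hf (nm_lt _ _ _) (nm_lt _ _ _) ?_
      rw [hN.e0_nm, hN.e0_nm, hN.e0_npw, hye, h5, ← hc₁f, conj_pow]
      calc c₁ * a * c₁⁻¹ * (c₁ * f * c₁⁻¹) = c₁ * (a * f) * c₁⁻¹ := by group
        _ = c₁ * (f ^ 7 * a) * c₁⁻¹ := by rw [haf]
        _ = _ := by group
    · refine absurd ?_ (Nat.ne_of_beq_eq_false h)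
      refine hN.inj hf (nm_lt _ _ _) (by have := hN.A_lt; omega) ?_
      rw [hN.e0_nm, hye]
      have h16 : e0 f a b (16 * A) = f ^ (4 * A) := by
        rw [show 16 * A = 4 * (4 * A) by ring]
        exact NGen.e0_four_mul f a b (by have := hN.A_lt; omega)
      rw [h16]
      calc c₁ * a * c₁⁻¹ * (c₁ * a * c₁⁻¹) = c₁ * (a * a) * c₁⁻¹ := by group
        _ = c₁ * f ^ (4 * A) * c₁⁻¹ := by rw [haa]
        _ = (c₁ * f * c₁⁻¹) ^ (4 * A) := (conj_pow).symm
        _ = f ^ (4 * A) := by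
          rw [hc₁f, ← h5, ← hN.e0_npw]
          have hA2 := hN.A_lt
          interval_cases hAv : A
          · simp [npw, e0one]
          · rw [show npw 1 5 4 = 4 * 4 from rfl]
            exact NGen.e0_four_mul f a b (by omega)
    · refine absurd ?_ (Nat.ne_of_beq_eq_false h)
      refine hN.inj hf (nm_lt _ _ _) (nm_lt _ _ _) ?_
      rw [hN.e0_nm, hN.e0_nm, hye, ← hd₁e]
      calc c₁ * a * c₁⁻¹ * (c₁ * b * c₁⁻¹) = c₁ * (a * b) * c₁⁻¹ := by group
        _ = c₁ * (b * a) * c₁⁻¹ := by rw [hab]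
        _ = _ := by group
    · obtain ⟨m, hm8, hm⟩ := anyB_spec h
      exact ⟨m, hm8, Nat.eq_of_beq_eq_true hm⟩
  set c := e0 f a b 5 ^ m * c₁ with hcdef
  have hcP : c ∈ P := P.mul_mem (P.pow_mem (he0P 5) _) hc₁P
  have hcf : c * f * c⁻¹ = f * b := by
    calc c * f * c⁻¹ = e0 f a b 5 ^ m * (c₁ * f * c₁⁻¹) * (e0 f a b 5 ^ m)⁻¹ := by rw [hcdef]; group
      _ = e0 f a b 5 ^ m * e0 f a b 5 * (e0 f a b 5 ^ m)⁻¹ := by rw [hc₁f, h5]
      _ = _ := by rw [← pow_succ, pow_succ', h5]; group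
  have hca : c * a * c⁻¹ = a * b := by
    calc c * a * c⁻¹ = e0 f a b 5 ^ m * (c₁ * a * c₁⁻¹) * (e0 f a b 5 ^ m)⁻¹ := by rw [hcdef]; group
      _ = _ := by rw [← hye, ← hN.e0_npw, ← hN.e0_nm, hm, hN.e0_nm, h3e]; group
  obtain ⟨d, hd, hcb⟩ := hbimg c hcP hcf
  have hcN : c ∉ N := by
    intro hcN
    obtain ⟨v, hv, hve⟩ := hcN
    have h1 := hN.conj_f hv
    rw [hve, ← mul_inv_eq_iff_eq_mul, hcf, ← h5] at h1
    have h2 := hN.inj hf (by omega) (by have := @NGen.sg_lt (cj v) (cl v); omega)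
      (h1.trans (NGen.e0_four_mul f a b NGen.sg_lt).symm)
    omega
  set p0 := A + 2 * d with hp0
  have hpA : pA p0 = A := by have := hN.A_lt; simp only [pA, p0]; omega
  have hpE : pE p0 = d := by have := hN.A_lt; simp only [pE, p0]; omega
  have hth : ∀ v < 32, c * e0 f a b v * c⁻¹ = e0 f a b (th p0 v) := by
    intro v hv
    have hx1 : c * e0 f a b v * c⁻¹ =
        (c * f * c⁻¹) ^ ci v * (c * a * c⁻¹) ^ cj v * (c * b * c⁻¹) ^ cl v := by
      simp only [e0, conj_pow]; group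
    rw [hx1, hcf, hca, hcb, th, hpA, hpE, hN.e0_nm, hN.e0_nm, hN.e0_npw, hN.e0_npw, hN.e0_npw,
      h5, h3e]
    congr 2
    interval_cases d <;> rfl
  -- the square of `c`
  obtain ⟨n, hn, hne⟩ : c * c ∈ N := by
    by_contra h
    have hidx : (N.subgroupOf P).index = 2 := by
      have h1 := (N.subgroupOf P).index_mul_card
      rw [Nat.card_congr (Subgroup.subgroupOfEquivOfLe hNle).toEquiv, hcard, hN32] at h1
      omega
    have := Subgroup.mul_mem_iff_of_index_two hidx (a := ⟨c, hcP⟩) (b := ⟨c, hcP⟩)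
    exact h (Subgroup.mem_subgroupOf.1 (this.2 Iff.rfl))
  obtain ⟨s, hs, hns⟩ : ∃ s < 2, n = pN (p0 + 4 * s) := by
    have h := allB_spec (allB_spec (allB_spec chk_sq A hN.A_lt) d hd) n hn
    simp only [Bool.or_eq_true, Bool.not_eq_true', Bool.and_eq_false_iff] at h
    rcases h with (h | h) | h
    · refine absurd ?_ (Nat.ne_of_beq_eq_false h)
      refine hN.inj hf (nm_lt _ _ _) hn ?_
      rw [← hth n hn, hne]; group
    · refine absurd ?_ (Nat.ne_of_beq_eq_false h)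
      refine hN.inj hf (nm_lt _ _ _) (nm_lt _ _ _) ?_
      rw [hN.e0_nm, hN.e0_nm, ← hth 5 (by omega), hne, hfe, h5, ← hcf]
      group
    · obtain ⟨s, hs, h⟩ := anyB_spec h
      exact ⟨s, hs, Nat.eq_of_beq_eq_true h⟩
  set p := p0 + 4 * s with hp
  have hpA' : pA p = A := by have := hN.A_lt; simp only [pA, p, p0]; omega
  have hpE' : pE p = d := by have := hN.A_lt; simp only [pE, p, p0]; omega
  have hth' : ∀ v < 32, c * e0 f a b v = e0 f a b (th p v) * c := fun v hv => by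
    rw [th_congr (q := p0) (hpA'.trans hpA.symm) (hpE'.trans hpE.symm), ← hth v hv]; group
  have hthlt : ∀ v, th p v < 32 := fun v => nm_lt _ _ _
  have hcc : c * c = e0 f a b (pN p) := by rw [← hne, hns]
  let e : ℕ → G := fun v => e0 f a b (v % 32) * c ^ ce v
  have hmul : ∀ v < 64, ∀ v' < 64, e (tm p v v') = e v * e v' := by
    intro v hv v' hv'
    have hev : ∀ u t, u < 32 → t < 2 → e (u + t * 32) = e0 f a b u * c ^ t := fun u t hu ht => by
      show e0 f a b ((u + t * 32) % 32) * c ^ ce (u + t * 32) = _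
      rw [show (u + t * 32) % 32 = u by omega, show ce (u + t * 32) = t by simp only [ce]; omega]
    simp only [tm, hpA']
    have hce : ce v = 0 ∨ ce v = 1 := by simp only [ce]; omega
    have hce' : ce v' = 0 ∨ ce v' = 1 := by simp only [ce]; omega
    rcases hce with hce | hce <;> rcases hce' with hce' | hce' <;>
      simp only [hce, hce', Nat.mul_zero, Nat.zero_mul, Nat.mul_one, Nat.zero_add, Nat.add_zero]
    · show e (nm A (v % 32) (v' % 32) + 0 * 32) = _
      rw [hev _ _ (nm_lt _ _ _) (by omega), hN.e0_nm]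
      simp [e, hce, hce']
    · show e (nm A (v % 32) (v' % 32) + 1 * 32) = _
      rw [hev _ _ (nm_lt _ _ _) (by omega), hN.e0_nm]
      simp [e, hce, hce', mul_assoc]
    · show e (nm A (v % 32) (th p (v' % 32)) + 1 * 32) = _
      rw [hev _ _ (nm_lt _ _ _) (by omega), hN.e0_nm, pow_one]
      simp only [e, hce, hce', pow_one, pow_zero, mul_one]
      rw [mul_assoc (e0 f a b (v % 32)) c, hth' _ (Nat.mod_lt _ (by omega)), mul_assoc]
    · show e (nm A (nm A (v % 32) (th p (v' % 32))) (pN p) + 0 * 32) = _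
      rw [hev _ _ (nm_lt _ _ _) (by omega), hN.e0_nm, hN.e0_nm, pow_zero, mul_one, ← hcc]
      simp only [e, hce, hce', pow_one]
      have h := hth' (v' % 32) (Nat.mod_lt _ (by omega))
      calc e0 f a b (v % 32) * e0 f a b (th p (v' % 32)) * (c * c)
          = e0 f a b (v % 32) * (e0 f a b (th p (v' % 32)) * c) * c := by group
        _ = e0 f a b (v % 32) * (c * e0 f a b (v' % 32)) * c := by rw [h]
        _ = _ := by group
  have hinj : ∀ v < 64, ∀ v' < 64, e v = e v' → v = v' := by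
    intro v hv v' hv' h
    simp only [e] at h
    have hmem : ∀ u, e0 f a b (u % 32) ∈ N := fun u => ⟨_, Nat.mod_lt _ (by omega), rfl⟩
    have hce : ce v = ce v' := by
      by_contra hne'
      have h01 : ce v = 0 ∧ ce v' = 1 ∨ ce v = 1 ∧ ce v' = 0 := by simp only [ce] at hne' ⊢; omega
      rcases h01 with ⟨h0, h1⟩ | ⟨h0, h1⟩ <;> rw [h0, h1, pow_one, pow_zero, mul_one] at h
      · exact hcN (by
            have h2 := N.mul_mem (N.inv_mem (hmem v')) (h ▸ hmem v)
            rwa [inv_mul_cancel_left] at h2)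
      · exact hcN (by
            have h2 := N.mul_mem (N.inv_mem (hmem v)) (h.symm ▸ hmem v')
            rwa [inv_mul_cancel_left] at h2)
    rw [hce] at h
    have := hN.inj hf (Nat.mod_lt _ (by omega)) (Nat.mod_lt _ (by omega)) (mul_right_cancel h)
    simp only [ce] at hce
    omega
  refine ⟨p, ⟨e, by have := hN.A_lt; simp only [p, p0]; omega, hmul, hinj, fun g => ⟨fun hg => ?_, ?_⟩⟩, ?_⟩
  · let ψ : Fin 64 → P := fun v => ⟨e v, P.mul_mem (he0P _) (P.pow_mem hcP _)⟩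
    have hb : Function.Bijective ψ := (Nat.bijective_iff_injective_and_card ψ).2
      ⟨fun v v' h => Fin.ext (hinj v v.2 v' v'.2 (congrArg Subtype.val h)), by rw [Nat.card_fin, hcard]⟩
    obtain ⟨v, hv⟩ := hb.2 ⟨g, hg⟩
    exact ⟨v, v.2, congrArg Subtype.val hv⟩
  · rintro ⟨v, -, rfl⟩
    exact P.mul_mem (he0P _) (P.pow_mem hcP _)
  · show e0 f a b 4 * c ^ 0 = f
    simp [hfe]

end Cfsg.Agent.Lib.M12Sylow18
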