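import Cfsg.Agent.Lib.M12Sylow18.Functor
import Cfsg.Agent.Lib.Cent192x61.Main
import Cfsg.Agent.Lib.Cores.Basic
import Cfsg.Agent.Lib.PGroups.Frattini

/-!
# `C(z)` has the shape of the centraliser in `M₁₂`
-/

set_option autoImplicit false
set_option linter.style.haveILetI false
set_option linter.unusedSectionVars false

namespace Cfsg.Agent.Lib.M12Sylow18

open Cfsg.Agent.Lib.M12Sylow18.Mod
open Subgroup
open scoped commutatorElement

theorem chk_qz : allB 64 (fun x => (!zf x || Nat.beq x 0 || Nat.beq x 16)) = true := by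
  decide +kernel

theorem chk_f4 : tm 0 4 4 = 8 ∧ tm 0 8 8 = 16 ∧ com 0 8 7 = false := by decide +kernel

theorem chk_no_eight : (A8Recog.sylList.all fun x =>
    Nat.beq (A8Recog.mulC (A8Recog.mulC x x) (A8Recog.mulC x x)) 0) = true := by decide +kernel

/-- A group of order six with two elements that do not commute is `S₃`. -/
theorem perm_three_of_six {Y : Type*} [Group Y] [Finite Y] (hY : Nat.card Y = 6) {a b : Y}
    (hab : ¬ Commute a b) : Nonempty (Y ≃* Equiv.Perm (Fin 3)) := by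
  classical
  have : Fact (Nat.Prime 2) := ⟨Nat.prime_two⟩
  have : Fact (Nat.Prime 3) := ⟨Nat.prime_three⟩
  obtain ⟨t, ht⟩ := exists_prime_orderOf_dvd_card' (G := Y) 2 (by rw [hY]; norm_num)
  obtain ⟨c, hc⟩ := exists_prime_orderOf_dvd_card' (G := Y) 3 (by rw [hY]; norm_num)
  set T := zpowers t with hT
  have hcT : Nat.card T = 2 := by rw [hT, Nat.card_zpowers, ht]
  have hidx : T.index = 3 := by
    have := T.card_mul_index
    rw [hcT, hY] at this
    omega
  have hker : T.normalCore = ⊥ := by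
    by_contra hne
    have hle := T.normalCore_le
    have h2 : Nat.card T.normalCore = 2 := by
      rcases (Nat.dvd_prime Nat.prime_two).1 (hcT ▸ card_dvd_of_le hle) with e | e
      · exact absurd (Subgroup.card_eq_one.1 e) hne
      · exact e
    have hTn : T.Normal := Subgroup.eq_of_le_of_card_ge hle (by rw [h2, hcT]) ▸ T.normalCore_normal
    have hmem : ∀ y ∈ T, y = 1 ∨ y = t := by
      intro y hy
      obtain ⟨k, rfl⟩ := mem_zpowers_iff.1 hy
      rw [← zpow_mod_orderOf, ht]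
      rcases Int.emod_two_eq_zero_or_one k with e | e <;> simp [e]
    have hct : Commute c t := by
      rcases hmem _ (hTn.conj_mem t (mem_zpowers t) c) with e | e
      · exact absurd (conj_eq_one_iff.1 e) (fun e' => by simp [e'] at ht)
      · exact mul_inv_eq_iff_eq_mul.1 e
    have hgen : ∀ y : Y, y ∈ zpowers (c * t) := by
      intro y
      have ho : orderOf (c * t) = 6 := by
        rw [hct.orderOf_mul_eq_mul_orderOf_of_coprime (by rw [hc, ht]; norm_num), hc, ht]
      rw [Subgroup.eq_top_of_card_eq (zpowers (c * t)) (by rw [Nat.card_zpowers, ho, hY])]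
      exact mem_top y
    refine hab ?_
    obtain ⟨i, rfl⟩ := mem_zpowers_iff.1 (hgen a)
    obtain ⟨j, rfl⟩ := mem_zpowers_iff.1 (hgen b)
    exact (Commute.refl _).zpow_zpow i j
  let f : Y →* Equiv.Perm (Y ⧸ T) := MulAction.toPermHom Y (Y ⧸ T)
  have hinj : Function.Injective f := by
    rw [← MonoidHom.ker_eq_bot_iff, ← hker, Subgroup.normalCore_eq_ker]
  have e3 : Nat.card (Y ⧸ T) = 3 := hidx
  let e := (Finite.equivFinOfCardEq e3).permCongrHom
  have hbij : Function.Bijective (e.toMonoidHom.comp f) := by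
    rw [Nat.bijective_iff_injective_and_card]
    refine ⟨e.injective.comp hinj, ?_⟩
    rw [hY, Nat.card_eq_fintype_card, Fintype.card_perm, Fintype.card_fin]
    rfl
  exact ⟨MulEquiv.ofBijective _ hbij⟩

variable {G : Type*} [Group G] [Finite G]

namespace Std

variable {P : Sylow 2 G} (S : Std P)

section Simple

variable [IsSimpleGroup G]

theorem O_bot : S.O = ⊥ := by
  have h := S.core_eq_bot
  rwa [S.core_z, Subgroup.map_eq_bot_iff_of_injective _ S.C.subtype_injective] at h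

theorem H_top : S.H = ⊤ := by
  refine top_le_iff.1 fun g _ => ?_
  obtain ⟨o, ho, hh⟩ := S.frattini g
  rw [S.O_bot, mem_bot] at ho
  rwa [ho, one_mul] at hh

theorem QC_normal : S.QC.Normal := Subgroup.normalizer_eq_top_iff.1 S.H_top

theorem zC_mem_Kc : S.zC ∈ S.Kc := by
  rw [Subgroup.mem_centralizer_iff]
  exact fun q _ => S.zC_comm q

theorem Kc_eq : S.Kc = zpowers S.zC := by
  refine le_antisymm (S.Kc_le.trans ?_) (zpowers_le.2 S.zC_mem_Kc)
  rw [S.O_bot, sup_bot_eq]

theorem card_C_or : Nat.card S.C = 64 ∨ Nat.card S.C = 192 := by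
  obtain ⟨h96, ⟨k, hk⟩, -⟩ := S.index_facts
  have hmul : (S.Kc.subgroupOf S.H).index * Nat.card S.Kc = Nat.card S.H := by
    rw [← Nat.card_congr (Subgroup.subgroupOfEquivOfLe S.Kc_le_H).toEquiv]
    exact (S.Kc.subgroupOf S.H).index_mul_card
  have hK : Nat.card S.Kc = 2 := by rw [S.Kc_eq, Nat.card_zpowers, S.zC_order]
  have hH : Nat.card S.H = Nat.card S.C := by rw [S.H_top, Subgroup.card_top]
  rw [hK, hH, hk] at hmul
  rw [hk, show 96 = 32 * 3 from rfl] at h96
  rcases (Nat.dvd_prime Nat.prime_three).1 (Nat.dvd_of_mul_dvd_mul_left (by norm_num) h96) with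
    rfl | rfl <;> omega

/-- The Sylow subgroup inside the centraliser. -/
abbrev Pc : Sylow 2 S.C := P.subtype S.P_le_C

theorem Pc_coe : (S.Pc : Subgroup S.C) = (P : Subgroup G).subgroupOf S.C := Sylow.coe_subtype _ _

theorem card_Pc : Nat.card (S.Pc : Subgroup S.C) = 64 := by
  rw [S.Pc_coe, Nat.card_congr (Subgroup.subgroupOfEquivOfLe S.P_le_C).toEquiv, S.card_P]

theorem not_normal_Pc : ¬ (S.Pc : Subgroup S.C).Normal := by
  intro hn
  obtain ⟨g, hgz, hg⟩ := S.swap
  have hc := chk_p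
  simp only [Bool.and_eq_true] at hc
  obtain ⟨⟨⟨⟨hno, hsq⟩, -⟩, -⟩, -⟩ := hc
  obtain ⟨x, hx, hxx⟩ := anyB_spec hsq
  have hgC : g ∈ S.C := mem_centralizer_singleton_iff.2 hgz
  have hxC : S.co.e x ∈ S.C := S.P_le_C (S.co.mem hx)
  have hmem := hn.conj_mem (⟨S.co.e x, hxC⟩ : S.C)
    (by rw [S.Pc_coe]; exact Subgroup.mem_subgroupOf.2 (S.co.mem hx)) (⟨g, hgC⟩⁻¹ : S.C)
  rw [S.Pc_coe, Subgroup.mem_subgroupOf] at hmem
  simp only [Subgroup.coe_mul, Subgroup.coe_inv, inv_inv] at hmem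
  obtain ⟨y, hy, hye⟩ := (S.co.mem_iff _).1 hmem
  have h32 : S.co.e (tm 0 y y) = S.co.e 32 := by
    rw [← S.co.sq_eq hy, hye]
    calc g⁻¹ * S.co.e x * g * (g⁻¹ * S.co.e x * g) = g⁻¹ * (S.co.e x * S.co.e x) * g := by group
      _ = g⁻¹ * S.co.e 1 * g := by rw [S.co.sq_eq hx, Nat.eq_of_beq_eq_true hxx]
      _ = g⁻¹ * (g * S.co.e 32 * g⁻¹) * g := by rw [hg]
      _ = S.co.e 32 := by group
  have hne := allB_spec hno y hy
  rw [S.co.e_inj _ (tm_lt _ _ _) 32 (by omega) h32] at hne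
  simp at hne

theorem card_C : Nat.card S.C = 192 := by
  rcases S.card_C_or with h | h
  · refine absurd ?_ S.not_normal_Pc
    rw [Subgroup.eq_top_of_card_eq (S.Pc : Subgroup S.C) (by rw [S.card_Pc, h])]
    infer_instance
  · exact h

theorem card_Q : Nat.card S.Q = 32 := by rw [Q, card_setSub, chk_qcard]

theorem card_QC : Nat.card S.QC = 32 := by
  rw [Nat.card_congr (Subgroup.subgroupOfEquivOfLe S.Q_le_C).toEquiv, S.card_Q]

theorem pCore_eq : Cfsg.pCore 2 S.C = S.QC := by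
  haveI : Fact (Nat.Prime 2) := ⟨Nat.prime_two⟩
  haveI := S.QC_normal
  have h1 : S.QC ≤ Cfsg.pCore 2 S.C := Cores.le_pCore S.QC_two
  have h2 : Cfsg.pCore 2 S.C ≤ (S.Pc : Subgroup S.C) := Cores.pCore_le_sylow S.Pc
  refine (Subgroup.eq_of_le_of_card_ge h1 ?_).symm
  rw [S.card_QC]
  by_contra hlt
  refine S.not_normal_Pc ?_
  have h3 : 32 ∣ Nat.card (Cfsg.pCore 2 S.C) := S.card_QC ▸ Subgroup.card_dvd_of_le h1
  obtain ⟨k, hk⟩ := h3
  have h4 : Nat.card (Cfsg.pCore 2 S.C) ∣ 64 := S.card_Pc ▸ Subgroup.card_dvd_of_le h2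
  rw [hk] at h4 hlt
  have h5 : k ∣ 2 := Nat.dvd_of_mul_dvd_mul_left (by norm_num) (show 32 * k ∣ 32 * 2 from h4)
  have h6 : k = 2 := by
    rcases (Nat.dvd_prime Nat.prime_two).1 h5 with rfl | rfl
    · omega
    · rfl
  rw [← Subgroup.eq_of_le_of_card_ge h2 (by rw [S.card_Pc, hk, h6])]
  exact Subgroup.sSup_normal _ fun _ h => h.1

theorem quot_iso : Nonempty (S.C ⧸ Cfsg.pCore 2 S.C ≃* Equiv.Perm (Fin 3)) := by
  haveI : Fact (Nat.Prime 2) := ⟨Nat.prime_two⟩
  haveI : (Cfsg.pCore 2 S.C).Normal := Subgroup.sSup_normal _ fun _ h => h.1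
  have h6 : Nat.card (S.C ⧸ Cfsg.pCore 2 S.C) = 6 := by
    have h := (Cfsg.pCore 2 S.C).card_mul_index
    rw [S.card_C] at h
    conv at h =>
      lhs
      arg 1
      rw [S.pCore_eq, S.card_QC]
    rw [Subgroup.index_eq_card] at h
    omega
  by_contra hno
  refine S.not_normal_Pc ⟨fun x hx g => ?_⟩
  set π := QuotientGroup.mk' (Cfsg.pCore 2 S.C)
  have hc : Commute (π g) (π x) := by
    by_contra hne
    exact hno (perm_three_of_six h6 hne)
  have hker : g * x * g⁻¹ * x⁻¹ ∈ Cfsg.pCore 2 S.C := by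
    refine (QuotientGroup.eq_one_iff _).1 ?_
    change π (g * x * g⁻¹ * x⁻¹) = 1
    simp only [map_mul, map_inv]
    rw [hc.eq]
    group
  simpa using (S.Pc : Subgroup S.C).mul_mem (Cores.pCore_le_sylow S.Pc hker) hx

theorem Q_eq_map : S.Q = (Cfsg.pCore 2 S.C).map S.C.subtype := by
  rw [S.pCore_eq, subgroupOf_map_subtype, inf_of_le_left S.Q_le_C]

theorem extraspecial : Cfsg.IsExtraspecial 2 S.Q := by
  haveI : Fact (Nat.Prime 2) := ⟨Nat.prime_two⟩
  set zQ : S.Q := ⟨S.co.e 16, S.z_mem_Q⟩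
  have hord : orderOf zQ = 2 := by rw [Subgroup.orderOf_mk, S.co.z_order]
  have hzf : ∀ x, x < 64 → zf x = true → ∀ (h : S.co.e x ∈ S.Q), (⟨S.co.e x, h⟩ : S.Q) ∈ zpowers zQ := by
    intro x hx hz h
    have t := allB_spec chk_qz x hx
    simp only [hz, Bool.not_true, Bool.false_or, Bool.or_eq_true, Nat.beq_eq] at t
    rcases t with rfl | rfl
    · rw [show (⟨S.co.e 0, h⟩ : S.Q) = 1 from Subtype.ext S.co.e_zero]
      exact one_mem _
    · exact mem_zpowers _
  have hcz : Subgroup.center S.Q = zpowers zQ := by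
    refine le_antisymm (fun q hq => ?_) (zpowers_le.2 (mem_center_iff.2 fun q =>
      Subtype.ext (S.co.z_comm _ (S.Q_le q.2))))
    obtain ⟨q, x, hx, hxq, rfl⟩ := q
    refine hzf x hx ?_ _
    have t := allB_spec chk_special x hx
    simp only [hxq, Bool.not_true, Bool.false_or, Bool.and_eq_true, Bool.or_eq_true,
      Bool.not_eq_true'] at t
    refine t.1.resolve_left fun hf => ?_
    have hall : (allB 64 fun y => !qf y || com 0 x y) = true := by
      by_contra hcon
      simp only [Bool.not_eq_true] at hcon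
      have : ∀ n, n ≤ 64 → allB n (fun y => !qf y || com 0 x y) = true := by
        intro n
        induction n with
        | zero => intro _; rfl
        | succ n ih =>
          intro hn
          simp only [allB, Bool.and_eq_true]
          refine ⟨?_, ih (by omega)⟩
          cases hy : qf n with
          | false => rfl
          | true =>
            simp only [Bool.not_true, Bool.false_or]
            exact (S.co.commute_iff hx (by omega)).1
              (congrArg Subtype.val (mem_center_iff.1 hq ⟨S.co.e n, (S.mem_Q (by omega)).2 hy⟩)).symm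
      rw [this 64 le_rfl] at hcon
      exact Bool.noConfusion hcon
    rw [hall] at hf
    exact Bool.noConfusion hf
  have hcard : Nat.card (Subgroup.center S.Q) = 2 := by rw [hcz, Nat.card_zpowers, hord]
  have hP : IsPGroup 2 S.Q := P.2.to_le S.Q_le
  have hle : commutator S.Q ≤ Subgroup.center S.Q := by
    rw [hcz, _root_.commutator_def, Subgroup.commutator_le]
    rintro ⟨_, x, hx, hxq, rfl⟩ - ⟨_, y, hy, hyq, rfl⟩ -
    have t := allB_spec (allB_spec chk_qcomm x hx) y hy
    simp only [hxq, hyq, Bool.and_self, Bool.not_true, Bool.false_or, Bool.or_eq_true,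
      Nat.beq_eq] at t
    rcases t with t | t
    · convert (zpowers zQ).one_mem
      rw [commutatorElement_eq_one_iff_mul_comm]
      exact Subtype.ext ((S.co.commute_iff hx hy).2 t)
    · convert mem_zpowers zQ
      refine Subtype.ext ?_
      simp only [commutatorElement_def, Subgroup.coe_mul, Subgroup.coe_inv, zQ]
      rw [mul_inv_eq_iff_eq_mul, mul_inv_eq_iff_eq_mul, ← S.co.e_mul x hx y hy, t,
        S.co.e_mul _ (tm_lt _ _ _) 16 (by omega), S.co.e_mul y hy x hx, mul_assoc, mul_assoc]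
      have h1 := S.co.z_comm _ (S.co.mem hy)
      have h2 := S.co.z_comm _ (S.co.mem hx)
      rw [h2, ← mul_assoc (S.co.e y), h1, mul_assoc]
  have hne : commutator S.Q ≠ ⊥ := by
    intro h
    have hq8 : qf 8 = true := by decide +kernel
    have hq7 : qf 7 = true := by decide +kernel
    have hm : ⁅(⟨S.co.e 8, (S.mem_Q (by omega)).2 hq8⟩ : S.Q), ⟨S.co.e 7, (S.mem_Q (by omega)).2 hq7⟩⁆
        ∈ commutator S.Q := Subgroup.commutator_mem_commutator (mem_top _) (mem_top _)
    rw [h, mem_bot, commutatorElement_eq_one_iff_mul_comm] at hm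
    have := (S.co.commute_iff (x := 8) (y := 7) (by omega) (by omega)).1 (congrArg Subtype.val hm)
    rw [chk_f4.2.2] at this
    exact Bool.noConfusion this
  have hcomm : commutator S.Q = Subgroup.center S.Q := by
    refine Subgroup.eq_of_le_of_card_ge hle ?_
    obtain ⟨n, hn⟩ := (hP.to_subgroup (commutator S.Q)).exists_card_eq
    rw [hcard, hn]
    refine Nat.le_self_pow (fun h0 => hne ?_) 2
    exact Subgroup.card_eq_one.mp (by rw [hn, h0, pow_zero])
  refine ⟨⟨hP, le_antisymm ?_ ?_, hcomm⟩, hcard⟩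
  · refine PGroups.frattini_le_of_pow_commutator (p := 2) (Subgroup.center S.Q) ?_ hle
    rintro ⟨_, x, hx, hxq, rfl⟩
    have t := allB_spec chk_special x hx
    simp only [hxq, Bool.not_true, Bool.false_or, Bool.and_eq_true] at t
    rw [hcz]
    have hsq : S.co.e (tm 0 x x) ∈ S.Q := (S.co.sq_eq hx) ▸ S.Q.mul_mem
      ((S.mem_Q hx).2 hxq) ((S.mem_Q hx).2 hxq)
    have he : (⟨S.co.e x, x, hx, hxq, rfl⟩ : S.Q) ^ 2 = ⟨S.co.e (tm 0 x x), hsq⟩ :=
      Subtype.ext (by rw [Subgroup.coe_pow, pow_two, S.co.sq_eq hx])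
    rw [he]
    exact hzf _ (tm_lt _ _ _) t.2 hsq
  · rw [← hcomm]
    exact PGroups.commutator_le_frattini hP

theorem cent_X (X : Sylow 3 S.C) : S.Q ⊓ Subgroup.centralizer
    (((X : Subgroup S.C).map S.C.subtype : Subgroup G) : Set G) = Subgroup.zpowers (S.co.e 16) := by
  haveI : Fact (Nat.Prime 3) := ⟨Nat.prime_three⟩
  refine le_antisymm ?_ (zpowers_le.2 (Subgroup.mem_inf.2 ⟨S.z_mem_Q, ?_⟩))
  · rintro q ⟨⟨x, hx, hxq, rfl⟩, hqX⟩
    by_contra hnot
    obtain ⟨h, ho⟩ := exists_prime_orderOf_dvd_card' (G := (X : Subgroup S.C)) 3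
      (X.dvd_card_of_dvd_card (by rw [S.card_C]; norm_num))
    obtain ⟨h, hhX⟩ := h
    rw [Subgroup.orderOf_mk] at ho
    have hxz : zf x = false := by
      by_contra hc
      simp only [Bool.not_eq_false] at hc
      have t := allB_spec chk_qz x hx
      simp only [hc, Bool.not_true, Bool.false_or, Bool.or_eq_true, Nat.beq_eq] at t
      rcases t with rfl | rfl
      · exact hnot (S.co.e_zero ▸ (zpowers _).one_mem)
      · exact hnot (mem_zpowers _)
    have hK : h ∈ S.Kc := S.Kc_of_fixed (by rw [S.H_top]; exact mem_top h)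
      (by
        have h3 := pow_orderOf_eq_one h
        rw [ho, pow_succ, pow_two] at h3
        rw [h3]; exact one_mem _)
      hx hxq hxz (mul_inv_eq_iff_eq_mul.2 (Subgroup.mem_centralizer_iff.1 hqX (h : G) ⟨h, hhX, rfl⟩))
    rw [S.Kc_eq] at hK
    have := orderOf_dvd_of_mem_zpowers hK
    rw [ho, S.zC_order] at this
    omega
  · rw [Subgroup.mem_centralizer_iff]
    rintro _ ⟨c, -, rfl⟩
    exact mem_centralizer_singleton_iff.1 c.2

include S in
/-- The recognition. -/
theorem iso_M12 : Nonempty (G ≃* Cfsg.Spor.M12) := by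
  haveI : Fact (Nat.Prime 2) := ⟨Nat.prime_two⟩
  haveI : Fact (Nat.Prime 3) := ⟨Nat.prime_three⟩
  have hG : 64 ≤ Nat.card G := S.card_P ▸ Subgroup.card_le_card_group (P : Subgroup G)
  obtain ⟨e⟩ := S.quot_iso
  obtain ⟨X⟩ : Nonempty (Sylow 3 S.C) := inferInstance
  have hnwc : ∃ g : G, g * S.co.e 16 * g⁻¹ ∈ S.Q ∧ g * S.co.e 16 * g⁻¹ ≠ S.co.e 16 := by
    obtain ⟨g, hg⟩ := isConj_iff.1 (S.zc 1 (by omega) (by decide +kernel))
    refine ⟨g, hg ▸ (S.mem_Q (by omega)).2 (by decide +kernel), fun h => ?_⟩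
    have := S.co.e_inj 1 (by omega) 16 (by omega) (hg.symm.trans h)
    omega
  rcases Cent192x61.main (S.co.e 16) S.co.z_order S.C rfl S.Q S.Q_eq_map S.extraspecial S.card_Q e X
    (S.cent_X X) hnwc with ⟨N, hN, -, -, hN8, -⟩ | ⟨E, -⟩ | h
  · rcases hN.eq_bot_or_eq_top with h | h
    · rw [h, Subgroup.card_bot] at hN8; omega
    · rw [h, Subgroup.card_top] at hN8; omega
  · exfalso
    obtain ⟨T, hT⟩ := E.exists_sylow
    obtain ⟨g, hg⟩ := MulAction.exists_smul_eq G P T
    have hmem : g * S.co.e 4 * g⁻¹ ∈ E.sylSub := by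
      rw [← hT, ← hg, Sylow.coe_subgroup_smul]
      exact Subgroup.smul_mem_pointwise_smul _ (MulAut.conj g) _ (S.co.mem (x := 4) (by omega))
    obtain ⟨x, hxl, hxe⟩ := hmem
    have hx := A8Recog.Emb.syl_lt hxl
    have h0 := Nat.eq_of_beq_eq_true (List.all_eq_true.1 chk_no_eight x hxl)
    have hl : A8Recog.mulC x x < 192 := A8Recog.mulC_lt hx hx
    have h1 := congrArg E.ι h0
    rw [E.map_zero, E.map_mul _ hl _ hl, E.map_mul x hx x hx, hxe] at h1
    refine S.co.z_ne ?_
    have h2 : S.co.e 4 * S.co.e 4 * (S.co.e 4 * S.co.e 4) = S.co.e 16 := by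
      rw [S.co.sq_eq (by omega), chk_f4.1, S.co.sq_eq (by omega), chk_f4.2.1]
    calc S.co.e 16 = g⁻¹ * (g * S.co.e 4 * g⁻¹ * (g * S.co.e 4 * g⁻¹) *
          (g * S.co.e 4 * g⁻¹ * (g * S.co.e 4 * g⁻¹))) * g := by rw [← h2]; group
      _ = 1 := by rw [h1]; group
  · exact h

end Simple

end Std

end Cfsg.Agent.Lib.M12Sylow18
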