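import Cfsg.Agent.Lib.M12Sylow18.Aut
import Cfsg.Agent.Lib.Signalizer.Complete
import Cfsg.Agent.Lib.Balance.Basic
import Cfsg.Agent.Lib.Coprime.Generation
import Cfsg.Agent.Lib.PGroups.ElemAb
import Cfsg.Agent.Lib.OddOrder.FeitThompson
import Cfsg.Agent.S1175

/-!
# The core of `C(z)` is trivial
-/

set_option autoImplicit false
set_option linter.style.haveILetI false
set_option linter.unusedSectionVars false

namespace Cfsg.Agent.Lib.M12Sylow18

open Cfsg.Agent.Lib.M12Sylow18.Mod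
open Subgroup
open scoped Pointwise

/-- The elementary abelian subgroup `⟨b, c, z⟩`. -/
def eSet (x : ℕ) : Bool := qf x && (Nat.beq x 0 || inL zset x)
/-- The four group `⟨b, z⟩`. -/
def bSet (x : ℕ) : Bool := inL (0 :: clB) x

theorem chk_eSet : (eSet 0 && bSet 0 && allB 64 fun x => allB 64 fun y =>
    (!(eSet x && eSet y) || (eSet (tm 0 x y) && com 0 x y)) &&
    (!(bSet x && bSet y) || bSet (tm 0 x y))) = true := by decide +kernel

theorem chk_eSet' : allB 64 (fun x => (!eSet x || Nat.beq (tm 0 x x) 0) &&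
    (!bSet x || eSet x) &&
    (!inL zset x || Nat.beq x 16 || inL zset (tm 0 x 16))) = true := by decide +kernel

theorem chk_eCard : ((List.range 64).filter eSet).length = 8 ∧
    ((List.range 64).filter bSet).length = 4 := by decide +kernel

theorem chk_fixBack : allB 64 (fun x => allB 64 fun y =>
    !(inL clB x) || !(Nat.beq (tm 0 y y) x) || !Nat.beq x 32) = true := by decide +kernel

variable {G : Type*} [Group G] [Finite G]

local notation "θ" => Cfsg.centralizerPPrimeCore 2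

namespace Std

variable {P : Sylow 2 G} (S : Std P)

/-- The elementary abelian group of order 8. -/
def E : Subgroup G :=
  setSub S.co eSet (by decide +kernel) (fun x hx y hy h h' => by
    have := chk_eSet
    simp only [Bool.and_eq_true] at this
    have t := allB_spec (allB_spec this.2 x hx) y hy
    simp only [h, h', Bool.and_self, Bool.not_true, Bool.false_or, Bool.and_eq_true] at t
    exact t.1.1)

/-- The four group. -/
def B : Subgroup G :=
  setSub S.co bSet (by decide +kernel) (fun x hx y hy h h' => by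
    have := chk_eSet
    simp only [Bool.and_eq_true] at this
    have t := allB_spec (allB_spec this.2 x hx) y hy
    simp only [h, h', Bool.and_self, Bool.not_true, Bool.false_or, Bool.and_eq_true] at t
    exact t.2)

theorem E_elem : Cfsg.IsElementaryAbelian 2 S.E := by
  refine ⟨⟨⟨?_⟩⟩, ?_⟩
  · rintro ⟨_, x, hx, hxe, rfl⟩ ⟨_, y, hy, hye, rfl⟩
    have := chk_eSet
    simp only [Bool.and_eq_true] at this
    have t := allB_spec (allB_spec this.2 x hx) y hy
    simp only [hxe, hye, Bool.and_self, Bool.not_true, Bool.false_or, Bool.and_eq_true] at t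
    exact Subtype.ext ((S.co.commute_iff hx hy).2 t.1.2)
  · rintro _ ⟨x, hx, hxe, rfl⟩
    have t := allB_spec chk_eSet' x hx
    simp only [hxe, Bool.not_true, Bool.false_or, Bool.and_eq_true, Nat.beq_eq] at t
    rw [pow_two, S.co.sq_eq hx, t.1.1, S.co.e_zero]

theorem E_card : Nat.card S.E = 8 := by rw [E, card_setSub, chk_eCard.1]

theorem B_le : S.B ≤ S.E := by
  rintro _ ⟨x, hx, hxb, rfl⟩
  refine ⟨x, hx, ?_, rfl⟩
  have t := allB_spec chk_eSet' x hx
  simp only [hxb, Bool.not_true, Bool.false_or, Bool.and_eq_true] at t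
  exact t.1.2

theorem B_card : Nat.card S.B = 4 := by rw [B, card_setSub, chk_eCard.2]

theorem B_not_cyclic : ¬ IsCyclic S.B := by
  intro h
  haveI := h
  obtain ⟨g, hg⟩ := IsCyclic.exists_ofOrder_eq_natCard (α := S.B)
  have h2 : g ^ 2 = 1 := Subtype.ext (by
    rw [Subgroup.coe_pow]
    exact S.E_elem.2 (g : G) (S.B_le g.2))
  have := orderOf_dvd_of_pow_eq_one h2
  rw [hg, S.B_card] at this
  exact absurd (Nat.le_of_dvd (by omega) this) (by omega)

theorem E_conj {e : G} (he : e ∈ S.E) (h1 : e ≠ 1) : IsConj (S.co.e 16) e := by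
  obtain ⟨x, hx, hxe, rfl⟩ := he
  simp only [eSet, Bool.and_eq_true, Bool.or_eq_true, Nat.beq_eq, inL_iff] at hxe
  rcases hxe.2 with rfl | h
  · exact absurd S.co.e_zero h1
  · exact S.zc x hx h

theorem core_z : θ (S.co.e 16) = S.O.map S.C.subtype := rfl

/-- Balance for two commuting conjugates of `z`. -/
theorem balance {a b : G} (hb : IsConj (S.co.e 16) b) (ha : orderOf a = 2) (hab : a * b = b * a) :
    θ a ⊓ centralizer ({b} : Set G) ≤ θ b := by
  haveI : Fact (Nat.Prime 2) := ⟨Nat.prime_two⟩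
  obtain ⟨g, rfl⟩ := isConj_iff.1 hb
  intro y hy
  set a' := g⁻¹ * a * g with ha'
  have haC : a' ∈ S.C := by
    refine mem_centralizer_singleton_iff.2 ?_
    calc a' * S.co.e 16 = g⁻¹ * (a * (g * S.co.e 16 * g⁻¹)) * g := by rw [ha']; group
      _ = g⁻¹ * ((g * S.co.e 16 * g⁻¹) * a) * g := by rw [hab]
      _ = _ := by rw [ha']; group
  have haord : orderOf a' = 2 := by
    rw [ha', show g⁻¹ * a * g = g⁻¹ * a * g⁻¹⁻¹ by group, order_conj, ha]
  have hθ : θ a' = (θ a).map (MulAut.conj g⁻¹).toMonoidHom := by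
    rw [← Balance.centralizerPPrimeCore_conj, ha']; group
  set Y := (θ a' ⊓ S.C).subgroupOf S.C with hY
  have hodd : Odd (Nat.card Y) := by
    rw [hY, Nat.card_congr (Subgroup.subgroupOfEquivOfLe (inf_le_right : θ a' ⊓ S.C ≤ S.C)).toEquiv]
    refine Odd.of_dvd_nat ?_ (Subgroup.card_dvd_of_le inf_le_left)
    have := Balance.not_dvd_card_centralizerPPrimeCore (p := 2) a'
    exact Nat.odd_iff.2 (by omega)
  have hle : Y ≤ S.O := by
    refine S.balance_core (a := ⟨a', haC⟩) (by rw [Subgroup.orderOf_mk, haord]) Y hodd ?_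
    intro c hc v hv
    refine Subgroup.mem_subgroupOf.2 ⟨?_, (c * v * c⁻¹).2⟩
    exact (Subgroup.mem_normalizer_iff.1 (Balance.centralizer_le_normalizer_centralizerPPrimeCore a'
      (mem_centralizer_singleton_iff.2 (congrArg Subtype.val hc))) _).1 (Subgroup.mem_subgroupOf.1 hv).1
  have hyC : g⁻¹ * y * g ∈ S.C := by
    refine mem_centralizer_singleton_iff.2 ?_
    have := mem_centralizer_singleton_iff.1 hy.2
    calc g⁻¹ * y * g * S.co.e 16 = g⁻¹ * (y * (g * S.co.e 16 * g⁻¹)) * g := by group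
      _ = g⁻¹ * ((g * S.co.e 16 * g⁻¹) * y) * g := by rw [this]
      _ = _ := by group
  have hyY : (⟨g⁻¹ * y * g, hyC⟩ : S.C) ∈ Y :=
    Subgroup.mem_subgroupOf.2 ⟨hθ ▸ ⟨y, hy.1, by simp⟩, hyC⟩
  rw [Balance.centralizerPPrimeCore_conj, S.core_z]
  exact ⟨g⁻¹ * y * g, ⟨_, hle hyY, rfl⟩, by simp [mul_assoc]⟩

theorem functor : Cfsg.IsSolvableSignalizerFunctor 2 S.E (Cfsg.centralizerPPrimeCore 2) := by
  haveI : Fact (Nat.Prime 2) := ⟨Nat.prime_two⟩
  refine ⟨⟨fun a _ _ => Balance.centralizerPPrimeCore_le a,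
    fun a _ _ => Balance.not_dvd_card_centralizerPPrimeCore a, ?_, ?_⟩, fun a _ _ =>
    OddOrder.FeitThompson.isSolvable_of_odd_card (Nat.odd_iff.2 (by
      have := Balance.not_dvd_card_centralizerPPrimeCore (p := 2) a
      omega))⟩
  · intro a ha _ b hb x hx
    exact (Subgroup.mem_normalizer_iff.1 (Balance.centralizer_le_normalizer_centralizerPPrimeCore a
      (mem_centralizer_singleton_iff.2 (PGroups.elemAb_comm S.E_elem hb ha))) x).1 hx
  · intro a ha ha1 b hb hb1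
    exact S.balance (S.E_conj hb hb1) (orderOf_eq_prime (PGroups.elemAb_pow S.E_elem ha) ha1)
      (PGroups.elemAb_comm S.E_elem ha hb)

/-- The closure. -/
def W : Subgroup G := ⨆ b : {b : G // b ∈ S.B ∧ b ≠ 1}, θ (b : G)

theorem W_facts : Odd (Nat.card S.W) ∧ ∀ e ∈ S.E, e ≠ 1 → θ e ≤ S.W := by
  haveI : Fact (Nat.Prime 2) := ⟨Nat.prime_two⟩
  have h8 : 2 ^ 3 ≤ Nat.card S.E := by rw [S.E_card]; norm_num
  obtain ⟨hU, hUc⟩ :=
    (Signalizer.completes_two S.E_elem h8 S.functor).closure S.E_elem h8 S.functor.1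
  set U := Cfsg.signalizerClosure S.E (Cfsg.centralizerPPrimeCore 2) with hUdef
  haveI : IsMulCommutative S.B := (PGroups.elemAb_mono S.E_elem S.B_le).1
  have hcop : (Nat.card S.B).Coprime (Nat.card U) := by
    rw [S.B_card, show (4 : ℕ) = 2 ^ 2 from rfl]
    exact Nat.Coprime.pow_left _ (Nat.prime_two.coprime_iff_not_dvd.2 hU.2.1)
  have hle : U ≤ S.W := by
    refine (Coprime.iSup_centralizer_eq S.B_not_cyclic
      (S.B_le.trans (Signalizer.le_normalizer_of_mem hU)) hcop).ge.trans (iSup₂_le fun b hb => ?_)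
    rw [hUc b (S.B_le hb.1) hb.2]
    exact le_iSup (fun b : {b : G // b ∈ S.B ∧ b ≠ 1} => θ (b : G)) ⟨b, hb⟩
  have hge : ∀ e ∈ S.E, e ≠ 1 → θ e ≤ U := fun e he he1 =>
    le_iSup (fun a : {a : G // a ∈ S.E ∧ a ≠ 1} => θ (a : G)) ⟨e, he, he1⟩
  have heq : S.W = U := le_antisymm (iSup_le fun b => hge b (S.B_le b.2.1) b.2.2) hle
  refine ⟨?_, fun e he he1 => heq ▸ hge e he he1⟩
  rw [heq]
  exact Nat.odd_iff.2 (by have := hU.2.1; omega)

/-- The control subgroup. -/
def M : Subgroup G := normalizer (S.W : Set G)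

theorem mem_M {g : G} (h : ∀ w ∈ clB, g * S.co.e w * g⁻¹ ∈ S.E) : g ∈ S.M := by
  refine mem_normalizer_of_le fun x hx => ?_
  have hle : S.W.map (MulAut.conj g).toMonoidHom ≤ S.W := by
    rw [W, Subgroup.map_iSup]
    refine iSup_le fun b => ?_
    obtain ⟨⟨w, hw, hwb, hwe⟩, hb1⟩ := b.2
    rw [← Balance.centralizerPPrimeCore_conj]
    have hwB : w ∈ clB := by
      simp only [bSet, inL_iff, List.mem_cons] at hwb
      rcases hwb with rfl | h
      · exact absurd (hwe ▸ S.co.e_zero) hb1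
      · exact h
    have hE : g * (b : G) * g⁻¹ ∈ S.E := hwe ▸ h w hwB
    refine S.W_facts.2 _ hE fun e => hb1 ?_
    calc (b : G) = g⁻¹ * (g * b * g⁻¹) * g := by group
      _ = 1 := by rw [e]; group
  exact hle ⟨x, hx, rfl⟩

theorem mem_E {x : ℕ} (hx : x < 64) : S.co.e x ∈ S.E ↔ eSet x = true := mem_setSub hx

theorem nb_mem_M {g : G} (h : S.co.NB g) : g ∈ S.M := S.mem_M fun w hw => by
  obtain ⟨w', hw', e⟩ := h w hw
  rw [e, S.mem_E (by fin_cases hw' <;> omega)]
  fin_cases hw' <;> decide +kernel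

theorem P_le_M : (P : Subgroup G) ≤ S.M := fun _ hg => S.nb_mem_M (S.co.nb_of_mem hg)

theorem C_le_M : S.C ≤ S.M := by
  intro g hg
  obtain ⟨o, ho, hh⟩ := S.frattini ⟨g, hg⟩
  set h := o * ⟨g, hg⟩ with hhdef
  have hoM : (o : G) ∈ S.M := by
    refine (le_normalizer : S.W ≤ normalizer (S.W : Set G)) ?_
    refine le_iSup (fun b : {b : G // b ∈ S.B ∧ b ≠ 1} => θ (b : G))
      ⟨S.co.e 16, (mem_setSub (by omega)).2 (by decide +kernel), S.co.z_ne⟩ ?_
    exact S.core_z ▸ ⟨o, ho, rfl⟩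
  have hhM : (h : G) ∈ S.M := S.mem_M fun w hw => by
    have hw64 : w < 64 := by fin_cases hw <;> omega
    have hwq : qf w = true := by fin_cases hw <;> decide +kernel
    obtain ⟨y, hy, hyq, hye⟩ := (Subgroup.mem_subgroupOf.1
      ((Subgroup.mem_normalizer_iff.1 hh ⟨S.co.e w, S.Q_le_C ((S.mem_Q hw64).2 hwq)⟩).1
        ((S.mem_Q hw64).2 hwq)) : (h : G) * S.co.e w * (h : G)⁻¹ ∈ S.Q)
    have hye' : S.co.e y = (h : G) * S.co.e w * (h : G)⁻¹ := hye
    rw [← hye', S.mem_E hy]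
    have := (S.zset_conj hw64 hy hye'.symm).1 (by fin_cases hw <;> decide +kernel)
    simp [eSet, hyq, inL_iff.2 this]
  have : g = (o : G)⁻¹ * (h : G) := by simp [hhdef]
  rw [this]
  exact S.M.mul_mem (S.M.inv_mem hoM) hhM

theorem code_conj_z {x : ℕ} (hx : x < 64) (hz : x ∈ zset) :
    ∃ k ∈ S.M, k * S.co.e 16 * k⁻¹ = S.co.e x := by
  obtain ⟨m, hmNB, hm⟩ := S.move
  have hmM := S.nb_mem_M hmNB
  have hb : ∃ k ∈ S.M, k * S.co.e 16 * k⁻¹ = S.co.e 1 :=
    ⟨m⁻¹, S.M.inv_mem hmM, by rw [← hm]; group⟩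
  have step : ∀ {s v w : G}, s ∈ S.M → s * v * s⁻¹ = w →
      (∃ k ∈ S.M, k * S.co.e 16 * k⁻¹ = v) → ∃ k ∈ S.M, k * S.co.e 16 * k⁻¹ = w := by
    rintro s v w hs hsv ⟨k, hk, hke⟩
    exact ⟨s * k, S.M.mul_mem hs hk, by rw [← conj_comp, hke, hsv]⟩
  obtain ⟨sw, hswz, hsw⟩ := S.swap
  have hc : ∃ k ∈ S.M, k * S.co.e 16 * k⁻¹ = S.co.e 32 :=
    step (S.M.inv_mem (S.C_le_M (mem_centralizer_singleton_iff.2 hswz)))
      (by rw [← hsw]; group) hb
  obtain ⟨fu, hfuNB, hfu⟩ := S.fuse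
  have ha : ∃ k ∈ S.M, k * S.co.e 16 * k⁻¹ = S.co.e 2 :=
    step (S.M.inv_mem (S.nb_mem_M hfuNB)) (by rw [← hfu]; group) hc
  have hl := allB_spec chk_lists x hx
  simp only [Bool.and_eq_true, Bool.or_eq_true, Bool.not_eq_true', inL_iff,
    ← Bool.not_eq_true] at hl
  rcases hl.1.1 with ((h | h) | h) | h
  · exact absurd hz h
  · fin_cases h
    · exact hb
    · exact ⟨1, S.M.one_mem, by group⟩
    · exact step (S.P_le_M (S.co.mem (by omega))) S.co.b_conj hb
  · obtain ⟨s, hs, hse⟩ := (S.co.class_conj hx).1 h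
    exact step (S.P_le_M hs) hse ha
  · obtain ⟨s, hs, hse⟩ := (S.co.class_conj hx).2.1 h
    exact step (S.P_le_M hs) hse hc

theorem conj_z_in_M {y : G} (hy : y ∈ S.M) (hc : IsConj (S.co.e 16) y) :
    ∃ k ∈ S.M, k * S.co.e 16 * k⁻¹ = y := by
  haveI : Fact (Nat.Prime 2) := ⟨Nat.prime_two⟩
  have hy2 : orderOf y = 2 := by
    obtain ⟨a, rfl⟩ := isConj_iff.1 hc
    rw [order_conj, S.co.z_order]
  obtain ⟨h, hh, hle⟩ := Involutions.StronglyEmbedded.exists_conj_le_sylow (P.subtype S.P_le_M)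
    (IsPGroup.of_card (n := 1) (by rw [Nat.card_zpowers, hy2, pow_one])) (zpowers_le.2 hy)
  have hmapP : (P.subtype S.P_le_M : Subgroup S.M).map S.M.subtype = (P : Subgroup G) := by
    rw [Sylow.coe_subtype, subgroupOf_map_subtype, inf_of_le_left S.P_le_M]
  obtain ⟨x, hx, hxe⟩ := (S.co.mem_iff _).1
    (hmapP ▸ hle ⟨y, mem_zpowers y, rfl⟩ : h * y * h⁻¹ ∈ (P : Subgroup G))
  obtain ⟨k, hk, hke⟩ := S.code_conj_z hx (S.zcode hx (hc.trans (isConj_iff.2 ⟨h, hxe.symm⟩)))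
  exact ⟨h⁻¹ * k, S.M.mul_mem (S.M.inv_mem hh) hk, by rw [← conj_comp, hke, hxe]; group⟩

/-- The core of the centraliser of `z` is trivial. -/
theorem core_eq_bot [IsSimpleGroup G] : θ (S.co.e 16) = ⊥ := by
  haveI : Fact (Nat.Prime 2) := ⟨Nat.prime_two⟩
  by_contra hne
  have hW1 : θ (S.co.e 16) ≤ S.W :=
    le_iSup (fun b : {b : G // b ∈ S.B ∧ b ≠ 1} => θ (b : G))
      ⟨S.co.e 16, (mem_setSub (by omega)).2 (by decide +kernel), S.co.z_ne⟩
  have hMtop : S.M ≠ ⊤ := by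
    intro h
    have hn : S.W.Normal := Subgroup.normalizer_eq_top_iff.1 h
    rcases hn.eq_bot_or_eq_top with e | e
    · exact hne (le_bot_iff.1 (e ▸ hW1))
    · have h1 := S.W_facts.1
      rw [e, Subgroup.card_top] at h1
      have h2 : 2 ∣ Nat.card G := S.co.z_order ▸ _root_.orderOf_dvd_natCard (S.co.e 16)
      exact Nat.not_even_iff_odd.2 h1 (even_iff_two_dvd.2 h2)
  have hCM : S.C ≤ S.M := S.C_le_M
  have hzM : S.co.e 16 ∈ S.M := S.P_le_M (S.co.mem (by omega))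
  have h2 : ∀ g : G, g * S.co.e 16 * g⁻¹ ∈ S.M → g ∈ S.M := by
    intro g hg
    obtain ⟨k, hk, hke⟩ := S.conj_z_in_M hg (isConj_iff.2 ⟨g, rfl⟩)
    have : k⁻¹ * g ∈ S.C := mem_centralizer_singleton_iff.2 (by
      rw [← mul_inv_eq_iff_eq_mul, ← conj_comp, ← hke]; group)
    simpa using S.M.mul_mem hk (hCM this)
  have h3 : ∀ g : G, Commute (S.co.e 16) (g * S.co.e 16 * g⁻¹) → g * S.co.e 16 * g⁻¹ ≠ S.co.e 16 →
      centralizer ({S.co.e 16 * (g * S.co.e 16 * g⁻¹)} : Set G) ≤ S.M := by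
    intro g hcm hne'
    set y := g * S.co.e 16 * g⁻¹ with hy
    have hyC : y ∈ S.C := mem_centralizer_singleton_iff.2 hcm.eq.symm
    have hy2 : orderOf y = 2 := by rw [hy, order_conj, S.co.z_order]
    obtain ⟨c, hcC, hle⟩ := Involutions.StronglyEmbedded.exists_conj_le_sylow (P.subtype S.P_le_C)
      (IsPGroup.of_card (n := 1) (by rw [Nat.card_zpowers, hy2, pow_one])) (zpowers_le.2 hyC)
    have hmapP : (P.subtype S.P_le_C : Subgroup S.C).map S.C.subtype = (P : Subgroup G) := by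
      rw [Sylow.coe_subtype, subgroupOf_map_subtype, inf_of_le_left S.P_le_C]
    obtain ⟨x, hx, hxe⟩ := (S.co.mem_iff _).1
      (hmapP ▸ hle ⟨y, mem_zpowers y, rfl⟩ : c * y * c⁻¹ ∈ (P : Subgroup G))
    have hxz : x ∈ zset := S.zcode hx
      ((isConj_iff.2 ⟨g, rfl⟩ : IsConj (S.co.e 16) y).trans (isConj_iff.2 ⟨c, hxe.symm⟩))
    have hcz : c * S.co.e 16 * c⁻¹ = S.co.e 16 := conj_fix (mem_centralizer_singleton_iff.1 hcC)
    have h16 : x ≠ 16 := by
      rintro rfl
      exact hne' (mul_left_cancel (mul_right_cancel (hxe.symm.trans hcz.symm)))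
    have ht := allB_spec chk_eSet' x hx
    simp only [inL_iff.2 hxz, Bool.not_true, Bool.false_or, Bool.and_eq_true, Bool.or_eq_true,
      Nat.beq_eq, h16, false_or, inL_iff] at ht
    obtain ⟨d, hd⟩ := isConj_iff.1 (S.zc _ (tm_lt _ _ _) ht.2)
    have hzy : IsConj (S.co.e 16) (S.co.e 16 * y) := by
      refine isConj_iff.2 ⟨c⁻¹ * d, ?_⟩
      rw [← conj_comp, hd, S.co.e_mul x hx 16 (by omega), hxe,
        S.co.z_comm _ (hxe ▸ S.co.mem hx)]
      nth_rewrite 1 [← hcz]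
      group
    obtain ⟨k, hk, hke⟩ := S.conj_z_in_M (S.M.mul_mem hzM (hCM hyC)) hzy
    intro v hv
    have hvC : k⁻¹ * v * k ∈ S.C := by
      refine mem_centralizer_singleton_iff.2 ?_
      have := mem_centralizer_singleton_iff.1 hv
      rw [← hke] at this
      calc k⁻¹ * v * k * S.co.e 16 = k⁻¹ * (v * (k * S.co.e 16 * k⁻¹)) * k := by group
        _ = k⁻¹ * ((k * S.co.e 16 * k⁻¹) * v) * k := by rw [this]
        _ = _ := by group
    have := S.M.mul_mem (S.M.mul_mem hk (hCM hvC)) (S.M.inv_mem hk)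
    rwa [show k * (k⁻¹ * v * k) * k⁻¹ = v by group] at this
  obtain ⟨H, hH⟩ := S1175.result S.M hMtop _ S.co.z_order hzM
    ⟨P, S.co.mem (by omega), fun s hs => S.co.z_comm s hs⟩ h2 h3
  have h6 : S.co.e 6 ≠ 1 := fun e => by
    have := S.co.e_inj 6 (by omega) 0 (by omega) (e.trans S.co.e_zero.symm)
    omega
  exact S.tc 6 (by omega) (by decide) (Involutions.StronglyEmbedded.isConj_involutions hH S.co.z_order
    (orderOf_eq_prime (by rw [pow_two, S.co.sq_eq (by omega),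
      show tm 0 6 6 = 0 from by decide +kernel, S.co.e_zero]) h6))

end Std

end Cfsg.Agent.Lib.M12Sylow18
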