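import Cfsg.Agent.Lib.M12Sylow18.Setup

/-!
# The central involution is fused to `b`, and this determines the isomorphism type
-/

set_option autoImplicit false
set_option linter.style.haveILetI false

namespace Cfsg.Agent.Lib.M12Sylow18

open Cfsg.Agent.Lib.M12Sylow18.Mod
open Subgroup

variable {G : Type*} [Group G]

/-- An involution code. -/
def isInv (p x : ℕ) : Bool := Nat.beq (tm p x x) 0 && !Nat.beq x 0

/-- `x` is `z`, `b` or `b z`. -/
def inB (x : ℕ) : Bool := Nat.beq x 16 || Nat.beq x 1 || Nat.beq x 17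

theorem inB_iff {x : ℕ} : inB x = true ↔ x = 16 ∨ x = 1 ∨ x = 17 := by
  simp only [inB, Bool.or_eq_true, Nat.beq_eq]
  tauto

theorem chk_sqInv : allB 8 (fun p => allB 64 fun x => !isInv p (tm p x x) ||
    (Nat.beq (tm p x x) 16 || (Nat.beq (pE p) 0 && inB (tm p x x)))) = true := by decide +kernel

theorem chk_cases : allB 8 (fun p => allB 64 fun x => !isInv p x || inB x ||
    (anyB 64 fun a => com p a x && Nat.beq (tm p a a) 16) ||
    (com p 1 x && com p 17 x && !com p 4 x &&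
      allB 64 fun w => !com p w x || !isInv p w || inB w ||
        anyB 64 fun y => Nat.beq (tm p y x) (tm p w y))) = true := by decide +kernel

theorem chk_B : allB 8 (fun p => Nat.beq (tm p 4 1) (tm p 17 4) && com p 4 16 && com p 1 16 &&
    com p 1 17 && Nat.beq (tm p 1 1) 0 && Nat.beq (tm p 17 17) 0 &&
    anyB 64 fun a => com p a 1 && Nat.beq (tm p a a) 16) = true := by decide +kernel

/-- The square roots of `t` commuting with `b`. -/
def roots (p t : ℕ) : List ℕ :=
  (List.range 64).filter fun v => com p v 1 && Nat.beq (tm p v v) t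

theorem chk_roots : allB 8 (fun p => !Nat.beq (pE p) 0 || Nat.beq p 0 ||
    (Nat.blt (roots p 1).length (roots p 16).length &&
      Nat.blt (roots p 17).length (roots p 16).length)) = true := by decide +kernel

theorem chk_cent_b : allB 8 (fun p => allB 64 fun v => (com p v 1 || !com p v 17) &&
    (!com p v 1 || com p v 17)) = true := by decide +kernel

namespace Co

variable {P : Subgroup G} {p : ℕ} (C : Co P p)

theorem b_conj : C.e 4 * C.e 1 * (C.e 4)⁻¹ = C.e 17 := by
  have h := allB_spec chk_B p C.p_lt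
  simp only [Bool.and_eq_true, Nat.beq_eq] at h
  exact C.conj_code (by omega) (by omega) (by omega) h.1.1.1.1.1.1

theorem b_order : orderOf (C.e 1) = 2 := by
  have h := allB_spec chk_B p C.p_lt
  simp only [Bool.and_eq_true, Nat.beq_eq] at h
  exact C.orderOf_invol (by omega) (by omega) h.1.1.2

theorem bz_order : orderOf (C.e 17) = 2 := by
  have h := allB_spec chk_B p C.p_lt
  simp only [Bool.and_eq_true, Nat.beq_eq] at h
  exact C.orderOf_invol (by omega) (by omega) h.1.2

theorem b_ne : C.e 1 ≠ C.e 16 := fun h => by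
  have := C.e_inj 1 (by omega) 16 (by omega) h
  omega

theorem bz_ne : C.e 17 ≠ C.e 16 := fun h => by
  have := C.e_inj 17 (by omega) 16 (by omega) h
  omega

end Co

variable [Finite G] {P : Sylow 2 G} {p : ℕ}

/-- A square root of `z` centralising a conjugate of `z` shows where `z` is sent. -/
theorem Ctx.z_image (K : Ctx P p) {x a : ℕ} (hx : x < 64) (ha : a < 64) (hx16 : x ≠ 16)
    {m : G} (hm : m * K.co.e x * m⁻¹ = K.co.e 16)
    (hmP : ∀ g ∈ (P : Subgroup G), g * K.co.e x = K.co.e x * g → m * g * m⁻¹ ∈ (P : Subgroup G))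
    (hca : com p a x = true) (hsq : tm p a a = 16) :
    pE p = 0 ∧ (m * K.co.e 16 * m⁻¹ = K.co.e 1 ∨ m * K.co.e 16 * m⁻¹ = K.co.e 17) := by
  obtain ⟨a', ha', hae⟩ :=
    (K.co.mem_iff _).1 (hmP _ (K.co.mem ha) ((K.co.commute_iff ha hx).2 hca))
  have h1 : K.co.e (tm p a' a') = m * K.co.e 16 * m⁻¹ := by
    rw [← K.co.sq_eq ha', hae, ← hsq, ← K.co.sq_eq ha]
    group
  have hord : orderOf (K.co.e (tm p a' a')) = 2 := by rw [h1, order_conj, K.co.z_order]
  obtain ⟨h0, h00⟩ := K.co.invol_code (tm_lt _ _ _) hord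
  have hne : tm p a' a' ≠ 16 := fun h => by
    rw [h] at h1
    exact hx16 (K.co.e_inj x hx 16 (by omega)
      (mul_left_cancel (mul_right_cancel (hm.trans h1))))
  have h := allB_spec (allB_spec chk_sqInv p K.co.p_lt) a' ha'
  simp only [Bool.or_eq_true, Bool.and_eq_true, Bool.not_eq_true', Nat.beq_eq, inB_iff] at h
  have hinv : isInv p (tm p a' a') = true := by
    simp only [isInv, Bool.and_eq_true, Nat.beq_eq, Bool.not_eq_true']
    exact ⟨h00, Bool.eq_false_iff.2 fun e => h0 (Nat.eq_of_beq_eq_true e)⟩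
  rcases h with h | h | ⟨hE, h⟩
  · rw [hinv] at h; exact Bool.noConfusion h
  · exact absurd h hne
  · rcases h with h | h | h
    · exact absurd h hne
    · exact ⟨hE, Or.inl (by rw [← h1, h])⟩
    · exact ⟨hE, Or.inr (by rw [← h1, h])⟩

/-- The central involution is fused to `b`. -/
theorem Ctx.z_conj_b (K : Ctx P p) : IsConj (K.co.e 16) (K.co.e 1) := by
  classical
  haveI : Fact (Nat.Prime 2) := ⟨Nat.prime_two⟩
  have C := K.co
  set z := K.co.e 16 with hz
  by_contra hnb
  have hb17 : IsConj (K.co.e 1) (K.co.e 17) := isConj_iff.2 ⟨_, K.co.b_conj⟩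
  have hnbz : ¬ IsConj z (K.co.e 17) := fun h => hnb (h.trans hb17.symm)
  let c : G → ℕ := fun x => Nat.card ↥((P : Subgroup G) ⊓ centralizer ({x} : Set G))
  obtain ⟨g₁, hg₁, hne₁⟩ := K.fused
  obtain ⟨y, ⟨hyP, hzy, hyz⟩, hmax⟩ := Set.exists_max_image
    {x : G | x ∈ (P : Subgroup G) ∧ IsConj z x ∧ x ≠ z} c (Set.toFinite _)
    ⟨_, hg₁, isConj_iff.2 ⟨g₁, rfl⟩, hne₁⟩
  obtain ⟨g, hg⟩ := isConj_iff.1 hzy
  obtain ⟨x, hx, rfl⟩ := (K.co.mem_iff y).1 hyP
  have hxord : orderOf (K.co.e x) = 2 := by rw [← hg, order_conj, hz, K.co.z_order]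
  obtain ⟨hx0, hxx⟩ := K.co.invol_code hx hxord
  have hxinv : isInv p x = true := by
    simp only [isInv, Bool.and_eq_true, Nat.beq_eq, Bool.not_eq_true']
    exact ⟨hxx, Bool.eq_false_iff.2 fun e => hx0 (Nat.eq_of_beq_eq_true e)⟩
  have hx16 : x ≠ 16 := fun h => hyz (by rw [h])
  set B : Subgroup G := (P : Subgroup G) ⊓ centralizer ({K.co.e x} : Set G) with hB
  obtain ⟨m, hm, hmS⟩ := exists_into P K.co.z_comm hg B (P.2.to_le inf_le_left) inf_le_right
  have hmP : ∀ g' ∈ (P : Subgroup G), g' * K.co.e x = K.co.e x * g' →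
      m * g' * m⁻¹ ∈ (P : Subgroup G) :=
    fun g' h1 h2 => hmS g' ⟨h1, mem_centralizer_singleton_iff.2 h2⟩
  have h := allB_spec (allB_spec chk_cases p K.co.p_lt) x hx
  simp only [Bool.or_eq_true, Bool.and_eq_true, hxinv, Bool.not_true, Bool.false_eq_true,
    false_or, inB_iff] at h
  rcases h with ((h | h | h) | h) | ⟨⟨⟨hb1, hb17'⟩, hf⟩, hcls⟩
  · exact hx16 h
  · exact hnb (h ▸ hzy)
  · exact hnbz (h ▸ hzy)
  · obtain ⟨a, ha, hac⟩ := anyB_spec h
    simp only [Bool.and_eq_true, Nat.beq_eq] at hac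
    rcases (K.z_image hx ha hx16 hm hmP hac.1 hac.2).2 with e | e
    · exact hnb (isConj_iff.2 ⟨m, e⟩)
    · exact hnbz (isConj_iff.2 ⟨m, e⟩)
  -- the centraliser of `y` in `P` is elementary of order 8
  set B' : Subgroup G := B.map (MulAut.conj m).toMonoidHom with hB'
  have hB'P : B' ≤ (P : Subgroup G) := by rintro _ ⟨a, ha, rfl⟩; exact hmS a ha
  have hlt : B' < (P : Subgroup G) := by
    refine lt_of_le_of_ne hB'P fun e => ?_
    have h1 : Nat.card B = Nat.card (P : Subgroup G) := by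
      rw [← e, hB', Subgroup.card_map_of_injective (MulAut.conj m).injective]
    have h2 : B = (P : Subgroup G) := eq_of_le_of_card_ge inf_le_left h1.ge
    have h3 : K.co.e 4 ∈ B := h2.symm ▸ K.co.mem (by omega)
    rw [(K.co.commute_iff (by omega) hx).1 (mem_centralizer_singleton_iff.1 h3.2)] at hf
    simp at hf
  haveI : Group.IsNilpotent ↥(P : Subgroup G) := P.2.isNilpotent
  have hlt' : B'.subgroupOf (P : Subgroup G) < ⊤ := by
    rw [lt_top_iff_ne_top, Ne, Subgroup.subgroupOf_eq_top]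
    exact hlt.not_ge
  obtain ⟨n, hn, hnB⟩ := SetLike.exists_of_lt
    ((Group.normalizerCondition_of_isNilpotent (G := ↥(P : Subgroup G))) _ hlt')
  rw [Subgroup.mem_subgroupOf] at hnB
  set n' : G := m⁻¹ * (n : G) * m with hn'
  have hnn : ∀ b ∈ B, n' * b * n'⁻¹ ∈ B := by
    intro b hb
    have h1 : (⟨m * b * m⁻¹, hmS b hb⟩ : ↥(P : Subgroup G)) ∈ B'.subgroupOf (P : Subgroup G) :=
      ⟨b, hb, rfl⟩
    have h2 := (Subgroup.mem_normalizer_iff.1 hn _).1 h1
    rw [Subgroup.mem_subgroupOf] at h2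
    obtain ⟨b', hb', he⟩ := h2
    simp only [MulEquiv.coe_toMonoidHom, MulAut.conj_apply, Subgroup.coe_mul, Subgroup.coe_inv] at he
    have e : n' * b * n'⁻¹ = b' := by
      rw [hn', show b' = m⁻¹ * (m * b' * m⁻¹) * m by group, he]
      group
    rw [e]
    exact hb'
  have hny : n' * K.co.e x = K.co.e x * n' := by
    rw [← mul_inv_eq_iff_eq_mul]
    calc n' * K.co.e x * n'⁻¹ = m⁻¹ * ((n : G) * (m * K.co.e x * m⁻¹) * (n : G)⁻¹) * m := by
          rw [hn']; group
      _ = m⁻¹ * (m * K.co.e x * m⁻¹) * m := by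
        rw [hm, conj_fix (K.co.z_comm _ n.2)]
      _ = _ := by group
  have himg : ∀ w < 64, w = 1 ∨ w = 17 → n' * K.co.e w * n'⁻¹ = K.co.e 1 ∨
      n' * K.co.e w * n'⁻¹ = K.co.e 17 := by
    intro w hw hw17
    have hwB : K.co.e w ∈ B := ⟨K.co.mem hw, mem_centralizer_singleton_iff.2
      ((K.co.commute_iff hw hx).2 (by rcases hw17 with rfl | rfl; exacts [hb1, hb17']))⟩
    have hwo : orderOf (K.co.e w) = 2 := by
      rcases hw17 with rfl | rfl; exacts [K.co.b_order, K.co.bz_order]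
    have hwz : ¬ IsConj z (K.co.e w) := by
      rcases hw17 with rfl | rfl; exacts [hnb, hnbz]
    have hwz' : ¬ IsConj z (n' * K.co.e w * n'⁻¹) := fun hc =>
      hwz (hc.trans (isConj_iff.2 ⟨n'⁻¹, by group⟩))
    have hmem := hnn _ hwB
    obtain ⟨v, hv, hve⟩ := (K.co.mem_iff _).1 hmem.1
    rw [← hve] at hmem hwz' ⊢
    obtain ⟨hv0, hvv⟩ := K.co.invol_code hv (by rw [hve, order_conj, hwo])
    have hvinv : isInv p v = true := by
      simp only [isInv, Bool.and_eq_true, Nat.beq_eq, Bool.not_eq_true']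
      exact ⟨hvv, Bool.eq_false_iff.2 fun e => hv0 (Nat.eq_of_beq_eq_true e)⟩
    have hvc := (K.co.commute_iff hv hx).1 (mem_centralizer_singleton_iff.1 hmem.2)
    have h' := allB_spec hcls v hv
    simp only [Bool.or_eq_true, hvc, hvinv, Bool.not_true, Bool.false_eq_true, false_or,
      inB_iff] at h'
    rcases h' with (h' | h' | h') | h'
    · exact absurd (by rw [h']) hwz'
    · exact Or.inl (by rw [h'])
    · exact Or.inr (by rw [h'])
    · obtain ⟨u, hu, hue⟩ := anyB_spec h'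
      exact absurd (hzy.trans (isConj_iff.2 ⟨_, K.co.conj_code hx hu hv (Nat.eq_of_beq_eq_true hue)⟩))
        hwz'
  have hchk := allB_spec chk_B p K.co.p_lt
  simp only [Bool.and_eq_true, Nat.beq_eq] at hchk
  have h117 : K.co.e 1 * K.co.e 17 = z := by
    rw [← K.co.e_one_z, ← mul_assoc, K.co.sq_eq (by omega), hchk.1.1.2, K.co.e_zero, one_mul]
  have h171 : K.co.e 17 * K.co.e 1 = z := by
    rw [← (K.co.commute_iff (x := 1) (by omega) (by omega)).2 hchk.1.1.1.2, h117]
  have hnz : n' * z = z * n' := by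
    rw [← mul_inv_eq_iff_eq_mul]
    have h4 : n' * z * n'⁻¹ = (n' * K.co.e 1 * n'⁻¹) * (n' * K.co.e 17 * n'⁻¹) := by
      rw [← h117]; group
    have hne : n' * K.co.e 1 * n'⁻¹ ≠ n' * K.co.e 17 * n'⁻¹ := fun e => by
      have := K.co.e_inj 1 (by omega) 17 (by omega) (mul_left_cancel (mul_right_cancel e))
      omega
    rcases himg 1 (by omega) (Or.inl rfl) with a1 | a1 <;>
      rcases himg 17 (by omega) (Or.inr rfl) with a2 | a2 <;> rw [a1, a2] at hne h4
    · exact absurd rfl hne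
    · rw [h4, h117]
    · rw [h4, h171]
    · exact absurd rfl hne
  set Q : Subgroup G := B ⊔ zpowers n' with hQ
  have hQy : Q ≤ centralizer ({K.co.e x} : Set G) :=
    sup_le inf_le_right (zpowers_le.2 (mem_centralizer_singleton_iff.2 hny))
  have hQz : Q ≤ centralizer ({z} : Set G) :=
    sup_le (fun b hb => mem_centralizer_singleton_iff.2 (K.co.z_comm _ hb.1))
      (zpowers_le.2 (mem_centralizer_singleton_iff.2 hnz))
  have hQp : IsPGroup 2 Q := by
    have hle : Q ≤ (P : Subgroup G).map (MulAut.conj m⁻¹).toMonoidHom := by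
      refine sup_le (fun b hb => ⟨m * b * m⁻¹, hmS b hb, ?_⟩) (zpowers_le.2 ⟨n, n.2, ?_⟩)
      · simp only [MulEquiv.coe_toMonoidHom, MulAut.conj_apply]; group
      · simp [hn']
    exact (P.2.map _).to_le hle
  obtain ⟨r, hr, hrS⟩ := exists_into P K.co.z_comm (g := 1) (y := z) (by group; rfl) Q hQp hQz
  have hy' : r * K.co.e x * r⁻¹ ∈ (P : Subgroup G) :=
    hrS _ (le_sup_left (a := B) ⟨K.co.mem hx, mem_centralizer_singleton_iff.2 rfl⟩)
  have hne' : r * K.co.e x * r⁻¹ ≠ z := fun e =>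
    hyz (mul_left_cancel (mul_right_cancel (e.trans hr.symm)))
  have hle := hmax _ ⟨hy', hzy.trans (isConj_iff.2 ⟨r, rfl⟩), hne'⟩
  have hQle : Q.map (MulAut.conj r).toMonoidHom ≤
      (P : Subgroup G) ⊓ centralizer ({r * K.co.e x * r⁻¹} : Set G) := by
    rintro _ ⟨a, ha, rfl⟩
    simp only [MulEquiv.coe_toMonoidHom, MulAut.conj_apply]
    refine ⟨hrS a ha, mem_centralizer_singleton_iff.2 ?_⟩
    have h1 := mem_centralizer_singleton_iff.1 (hQy ha)
    calc r * a * r⁻¹ * (r * K.co.e x * r⁻¹) = r * (a * K.co.e x) * r⁻¹ := by group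
      _ = r * (K.co.e x * a) * r⁻¹ := by rw [h1]
      _ = _ := by group
  have h1 := Subgroup.card_le_of_le hQle
  rw [Subgroup.card_map_of_injective (MulAut.conj r).injective] at h1
  have h2 : Nat.card B < Nat.card Q := by
    refine Nat.lt_of_le_of_ne (Subgroup.card_le_of_le le_sup_left) fun e => hnB ?_
    have heq : B = Q := Subgroup.eq_of_le_of_card_ge le_sup_left e.ge
    have hmem : n' ∈ B := heq.symm ▸ le_sup_right (a := B) (mem_zpowers n')
    exact ⟨n', hmem, by simp only [MulEquiv.coe_toMonoidHom, MulAut.conj_apply, hn']; group⟩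
  simp only [c, ← hB] at hle
  omega

/-- The type is determined, and some element moves `b` to `z`. -/
theorem Ctx.type_eq (K : Ctx P p) :
    p = 0 ∧ ∃ m : G, m * K.co.e 1 * m⁻¹ = K.co.e 16 ∧
      (m * K.co.e 16 * m⁻¹ = K.co.e 1 ∨ m * K.co.e 16 * m⁻¹ = K.co.e 17) ∧
      ∀ v < 64, com p v 1 = true → ∃ v' < 64, com p v' 1 = true ∧
        K.co.e v' = m * K.co.e v * m⁻¹ := by
  haveI : Fact (Nat.Prime 2) := ⟨Nat.prime_two⟩
  obtain ⟨g, hg⟩ := isConj_iff.1 K.z_conj_b
  obtain ⟨m, hm, hmS⟩ := exists_into P K.co.z_comm hg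
    ((P : Subgroup G) ⊓ centralizer ({K.co.e 1} : Set G)) (P.2.to_le inf_le_left) inf_le_right
  have hmP : ∀ g' ∈ (P : Subgroup G), g' * K.co.e 1 = K.co.e 1 * g' →
      m * g' * m⁻¹ ∈ (P : Subgroup G) :=
    fun g' h1 h2 => hmS g' ⟨h1, mem_centralizer_singleton_iff.2 h2⟩
  have hchk := allB_spec chk_B p K.co.p_lt
  simp only [Bool.and_eq_true, Nat.beq_eq] at hchk
  obtain ⟨a, ha, hac⟩ := anyB_spec hchk.2
  simp only [Bool.and_eq_true, Nat.beq_eq] at hac
  obtain ⟨hE, hzm⟩ := K.z_image (by omega) ha (by omega) hm hmP hac.1 hac.2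
  have hmap : ∀ v < 64, com p v 1 = true → ∃ v' < 64, com p v' 1 = true ∧
      K.co.e v' = m * K.co.e v * m⁻¹ := by
    intro v hv hvc
    obtain ⟨v', hv', hve⟩ :=
      (K.co.mem_iff _).1 (hmP _ (K.co.mem hv) ((K.co.commute_iff hv (by omega)).2 hvc))
    refine ⟨v', hv', ?_, hve⟩
    have hc : K.co.e v' * (m * K.co.e 16 * m⁻¹) = (m * K.co.e 16 * m⁻¹) * K.co.e v' := by
      rw [hve]
      calc m * K.co.e v * m⁻¹ * (m * K.co.e 16 * m⁻¹) = m * (K.co.e v * K.co.e 16) * m⁻¹ := by group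
        _ = m * (K.co.e 16 * K.co.e v) * m⁻¹ := by rw [K.co.z_comm _ (K.co.mem hv)]
        _ = _ := by group
    have hcb := allB_spec (allB_spec chk_cent_b p K.co.p_lt) v' hv'
    simp only [Bool.and_eq_true, Bool.or_eq_true, Bool.not_eq_true'] at hcb
    rcases hzm with e | e <;> rw [e] at hc
    · exact (K.co.commute_iff hv' (by omega)).1 hc
    · have := (K.co.commute_iff hv' (by omega)).1 hc
      rcases hcb.1 with h | h
      · exact h
      · rw [this] at h; exact Bool.noConfusion h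
  refine ⟨?_, m, hm, hzm, hmap⟩
  by_contra hp
  have h := allB_spec chk_roots p K.co.p_lt
  simp only [Bool.or_eq_true, Bool.and_eq_true, Bool.not_eq_true', Nat.beq_eq, hE] at h
  have hbl : Nat.beq 0 0 = true := rfl
  simp only [hbl, Bool.true_eq_false, false_or, hp] at h
  have key : ∀ t, t < 64 → m * K.co.e 16 * m⁻¹ = K.co.e t →
      (roots p 16).length ≤ (roots p t).length := by
    intro t ht hmt
    classical
    let φ : ℕ → ℕ := fun v =>
      if h : v < 64 ∧ com p v 1 = true then Classical.choose (hmap v h.1 h.2) else 0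
    have hmem : ∀ {t v}, v ∈ roots p t ↔ v < 64 ∧ com p v 1 = true ∧ tm p v v = t := by
      intro t v
      simp [roots, List.mem_filter, Nat.beq_eq]
    have hφ : ∀ v, v < 64 → com p v 1 = true →
        φ v < 64 ∧ com p (φ v) 1 = true ∧ K.co.e (φ v) = m * K.co.e v * m⁻¹ := by
      intro v hv hvc
      simp only [φ, dif_pos (show v < 64 ∧ com p v 1 = true from ⟨hv, hvc⟩)]
      exact Classical.choose_spec (hmap v hv hvc)
    have hnd : ((roots p 16).map φ).Nodup := by
      refine List.Nodup.map_on ?_ (List.Nodup.filter _ List.nodup_range)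
      intro u hu v hv huv
      obtain ⟨hu, huc, -⟩ := hmem.1 hu
      obtain ⟨hv, hvc, -⟩ := hmem.1 hv
      refine K.co.e_inj u hu v hv ?_
      have := congrArg K.co.e huv
      rw [(hφ u hu huc).2.2, (hφ v hv hvc).2.2] at this
      exact mul_left_cancel (mul_right_cancel this)
    have hsub : (roots p 16).map φ ⊆ roots p t := by
      intro w hw
      obtain ⟨v, hv, rfl⟩ := List.mem_map.1 hw
      obtain ⟨hv, hvc, hvv⟩ := hmem.1 hv
      obtain ⟨h1, h2, h3⟩ := hφ v hv hvc
      refine hmem.2 ⟨h1, h2, K.co.e_inj _ (tm_lt _ _ _) t ht ?_⟩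
      rw [← K.co.sq_eq h1, h3, ← hmt, ← hvv, ← K.co.sq_eq hv]
      group
    have := (hnd.subperm hsub).length_le
    rwa [List.length_map] at this
  rcases hzm with e | e
  · have := key 1 (by omega) e
    have h' := Nat.le_of_ble_eq_true h.1
    omega
  · have := key 17 (by omega) e
    have h' := Nat.le_of_ble_eq_true h.2
    omega

end Cfsg.Agent.Lib.M12Sylow18
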