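import Mathlib

/-!
# The candidates for a group of order 64 with a self-centralising element of order 8

The code `i*4 + j*2 + l + 32*e` stands for `f^i a^j b^l c^e`, where `f^8 = 1`, `a` inverts `f`,
`b f b = f^5`, `a² = z^A` with `z = f^4`, `b² = [a,b] = 1`, `c f c⁻¹ = f b`, `c b c⁻¹ = b z^ε`,
`c a c⁻¹ = a b` and `c² = n₀`.  A parameter `p < 8` encodes `A`, `ε` and `n₀`.
-/

set_option autoImplicit false

namespace Cfsg.Agent.Lib.M12Sylow18

/-- Bounded universal test. -/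
def allB : ℕ → (ℕ → Bool) → Bool
  | 0, _ => true
  | n + 1, q => q n && allB n q

/-- Bounded existential test. -/
def anyB : ℕ → (ℕ → Bool) → Bool
  | 0, _ => false
  | n + 1, q => q n || anyB n q

theorem allB_spec {q : ℕ → Bool} : ∀ {n : ℕ}, allB n q = true → ∀ i, i < n → q i = true
  | 0, _, i, hi => absurd hi (Nat.not_lt_zero i)
  | n + 1, h, i, hi => by
    simp only [allB, Bool.and_eq_true] at h
    rcases Nat.lt_succ_iff_lt_or_eq.1 hi with hi | rfl
    · exact allB_spec h.2 i hi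
    · exact h.1

theorem anyB_spec {q : ℕ → Bool} : ∀ {n : ℕ}, anyB n q = true → ∃ i, i < n ∧ q i = true
  | 0, h => by simp [anyB] at h
  | n + 1, h => by
    simp only [anyB, Bool.or_eq_true] at h
    rcases h with h | h
    · exact ⟨n, Nat.lt_succ_self n, h⟩
    · obtain ⟨i, hi, hq⟩ := anyB_spec h
      exact ⟨i, Nat.lt_succ_of_lt hi, hq⟩

theorem anyB_intro {q : ℕ → Bool} : ∀ {n i : ℕ}, i < n → q i = true → anyB n q = true
  | 0, i, hi, _ => absurd hi (Nat.not_lt_zero i)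
  | n + 1, i, hi, h => by
    simp only [anyB, Bool.or_eq_true]
    rcases Nat.lt_succ_iff_lt_or_eq.1 hi with hi | rfl
    · exact Or.inr (anyB_intro hi h)
    · exact Or.inl h

namespace Mod

/-- The exponent of `f`. -/
def ci (x : ℕ) : ℕ := x % 32 / 4
/-- The exponent of `a`. -/
def cj (x : ℕ) : ℕ := x % 32 / 2 % 2
/-- The exponent of `b`. -/
def cl (x : ℕ) : ℕ := x % 2
/-- The exponent of `c`. -/
def ce (x : ℕ) : ℕ := x / 32

/-- The code of `f^i a^j b^l c^e`. -/
def mk (i j l e : ℕ) : ℕ := i % 8 * 4 + j % 2 * 2 + l % 2 + e % 2 * 32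

/-- The action of `a^j b^l` on the exponent. -/
def sg (j l : ℕ) : ℕ := bif Nat.beq (j % 2) 0 then (bif Nat.beq (l % 2) 0 then 1 else 5)
  else (bif Nat.beq (l % 2) 0 then 7 else 3)

/-- The parameter `A`: whether `a² = z`. -/
def pA (p : ℕ) : ℕ := p % 2
/-- The parameter `ε`. -/
def pE (p : ℕ) : ℕ := p / 2 % 2
/-- The parameter `n₀ = c²`. -/
def pN (p : ℕ) : ℕ :=
  bif Nat.beq (pE p) 0 then mk (4 * (p / 4 % 2)) 0 0 0 else mk (2 + 4 * (p / 4 % 2)) 0 1 0

/-- The product in `⟨f, a, b⟩`. -/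
def nm (A x y : ℕ) : ℕ :=
  mk (ci x + sg (cj x) (cl x) * ci y + 4 * A * (cj x * cj y)) (cj x + cj y) (cl x + cl y) 0

/-- A power in `⟨f, a, b⟩`. -/
def npw (A x : ℕ) : ℕ → ℕ
  | 0 => 0
  | n + 1 => nm A (npw A x n) x

/-- The action of `c` on `⟨f, a, b⟩`. -/
def th (p x : ℕ) : ℕ :=
  nm (pA p) (nm (pA p) (npw (pA p) 5 (ci x)) (npw (pA p) 3 (cj x)))
    (npw (pA p) (bif Nat.beq (pE p) 0 then 1 else 17) (cl x))

/-- The product. -/
def tm (p x y : ℕ) : ℕ :=
  let q := nm (pA p) (x % 32) (bif Nat.beq (ce x) 0 then y % 32 else th p (y % 32))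
  let r := bif Nat.beq (ce x * ce y) 0 then q else nm (pA p) q (pN p)
  r + (ce x + ce y) % 2 * 32

/-- Whether two elements commute. -/
def com (p x y : ℕ) : Bool := Nat.beq (tm p x y) (tm p y x)

theorem mk_lt (i j l e : ℕ) : mk i j l e < 64 := by
  simp only [mk]; omega

theorem nm_lt (A x y : ℕ) : nm A x y < 32 := by
  simp only [nm, mk]; omega

theorem tm_lt (p x y : ℕ) : tm p x y < 64 := by
  simp only [tm]
  cases Nat.beq (ce x * ce y) 0 <;> cases Nat.beq (ce x) 0 <;>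
    simp only [cond_true, cond_false] <;>
    · have := nm_lt (pA p) (x % 32) (y % 32)
      have := nm_lt (pA p) (x % 32) (th p (y % 32))
      have := nm_lt (pA p) (nm (pA p) (x % 32) (y % 32)) (pN p)
      have := nm_lt (pA p) (nm (pA p) (x % 32) (th p (y % 32))) (pN p)
      omega

end Mod

end Cfsg.Agent.Lib.M12Sylow18
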