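import Cfsg.Agent.Lib.M12Sylow18.Coord
import Cfsg.Agent.S0215

/-!
# The set-up: coordinates on the Sylow subgroup, no subgroup of index 2, no isolated involution
-/

set_option autoImplicit false
set_option linter.style.haveILetI false

namespace Cfsg.Agent.Lib.M12Sylow18

open Cfsg.Agent.Lib.M12Sylow18.Mod
open Subgroup
open scoped Pointwise

variable {G : Type*} [Group G]

theorem order_conj (g : G) (x : G) : orderOf (g * x * g⁻¹) = orderOf x := by
  rw [← MulAut.conj_apply, MulEquiv.orderOf_eq]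

theorem conj_fix {g z : G} (h : g * z = z * g) : g * z * g⁻¹ = z := mul_inv_eq_iff_eq_mul.2 h

/-- Two conjugations compose. -/
theorem conj_comp (g h x : G) : g * (h * x * h⁻¹) * g⁻¹ = g * h * x * (g * h)⁻¹ := by group

/-- A `2`-subgroup of the centraliser of `g z g⁻¹` moves into a Sylow subgroup centralising `z`. -/
theorem exists_into [Finite G] (P : Sylow 2 G) {z : G} (hz : ∀ s ∈ (P : Subgroup G), s * z = z * s)
    {y g : G} (hy : g * z * g⁻¹ = y) (Q : Subgroup G) (hQ : IsPGroup 2 Q)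
    (hQy : Q ≤ centralizer ({y} : Set G)) :
    ∃ m : G, m * y * m⁻¹ = z ∧ ∀ a ∈ Q, m * a * m⁻¹ ∈ (P : Subgroup G) := by
  haveI : Fact (Nat.Prime 2) := ⟨Nat.prime_two⟩
  have hle : ((g • P : Sylow 2 G) : Subgroup G) ≤ centralizer ({y} : Set G) := by
    intro a ha
    have h2 : a ∈ MulAut.conj g • (P : Subgroup G) := ha
    rw [Subgroup.mem_pointwise_smul_iff_inv_smul_mem] at h2
    have h1 : g⁻¹ * a * g ∈ (P : Subgroup G) := by simpa using h2
    refine mem_centralizer_singleton_iff.2 ?_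
    rw [← hy]
    calc a * (g * z * g⁻¹) = g * ((g⁻¹ * a * g) * z) * g⁻¹ := by group
      _ = g * (z * (g⁻¹ * a * g)) * g⁻¹ := by rw [hz _ h1]
      _ = _ := by group
  obtain ⟨R, hR⟩ := (hQ.comap_of_injective (centralizer ({y} : Set G)).subtype
    Subtype.val_injective).exists_le_sylow
  obtain ⟨c, hc⟩ := MulAction.exists_smul_eq (centralizer ({y} : Set G)) R
    ((g • P : Sylow 2 G).subtype hle)
  refine ⟨g⁻¹ * (c : G), ?_, fun a ha => ?_⟩
  · rw [← conj_comp, conj_fix (mem_centralizer_singleton_iff.1 c.2), ← hy]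
    group
  · have h1 : (⟨a, hQy ha⟩ : centralizer ({y} : Set G)) ∈ R := hR ha
    have h2 : c * ⟨a, hQy ha⟩ * c⁻¹ ∈ (c • R : Sylow 2 (centralizer ({y} : Set G))) := by
      show c * ⟨a, hQy ha⟩ * c⁻¹ ∈ MulAut.conj c • (R : Subgroup (centralizer ({y} : Set G)))
      rw [Subgroup.mem_pointwise_smul_iff_inv_smul_mem]
      simpa [mul_assoc] using (show (⟨a, hQy ha⟩ : centralizer ({y} : Set G)) ∈
        (R : Subgroup (centralizer ({y} : Set G))) from h1)
    rw [hc] at h2
    have h3 : (c : G) * a * (c : G)⁻¹ ∈ (g • P : Sylow 2 G) := h2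
    change (c : G) * a * (c : G)⁻¹ ∈ MulAut.conj g • (P : Subgroup G) at h3
    rw [Subgroup.mem_pointwise_smul_iff_inv_smul_mem] at h3
    simpa [mul_assoc] using h3

theorem chk_zero : allB 8 (fun p => Nat.beq (tm p 0 0) 0) = true := by decide +kernel

theorem chk_z : allB 8 (fun p => Nat.beq (tm p 16 16) 0 && Nat.beq (tm p 4 4) 8 &&
    Nat.beq (tm p 8 8) 16 && Nat.beq (tm p 1 16) 17 && allB 64 (fun x => com p x 16)) = true := by
  decide +kernel

namespace Co

variable {P : Subgroup G} {p : ℕ} (C : Co P p)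

theorem mem {x : ℕ} (hx : x < 64) : C.e x ∈ P := (C.mem_iff _).2 ⟨x, hx, rfl⟩

theorem e_zero : C.e 0 = 1 := by
  have h := C.e_mul 0 (by omega) 0 (by omega)
  rw [Nat.eq_of_beq_eq_true (allB_spec chk_zero p C.p_lt)] at h
  exact left_eq_mul.1 h

theorem commute_iff {x y : ℕ} (hx : x < 64) (hy : y < 64) :
    C.e x * C.e y = C.e y * C.e x ↔ com p x y = true := by
  rw [← C.e_mul x hx y hy, ← C.e_mul y hy x hx]
  refine ⟨fun h => ?_, fun h => by rw [Nat.eq_of_beq_eq_true h]⟩
  unfold com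
  rw [C.e_inj _ (tm_lt _ _ _) _ (tm_lt _ _ _) h]
  exact Nat.beq_refl _

theorem z_comm : ∀ g ∈ P, g * C.e 16 = C.e 16 * g := by
  intro g hg
  obtain ⟨x, hx, rfl⟩ := (C.mem_iff g).1 hg
  have h := allB_spec chk_z p C.p_lt
  simp only [Bool.and_eq_true] at h
  exact (C.commute_iff hx (by omega)).2 (allB_spec h.2 x hx)

theorem z_ne : C.e 16 ≠ 1 := fun h => by
  have := C.e_inj 16 (by omega) 0 (by omega) (h.trans C.e_zero.symm)
  omega

theorem sq_eq {x : ℕ} (hx : x < 64) : C.e x * C.e x = C.e (tm p x x) := (C.e_mul x hx x hx).symm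

theorem invol_code {x : ℕ} (hx : x < 64) (h : orderOf (C.e x) = 2) : x ≠ 0 ∧ tm p x x = 0 := by
  refine ⟨fun e => ?_, C.e_inj _ (tm_lt _ _ _) _ (by omega) ?_⟩
  · rw [e, C.e_zero, orderOf_one] at h; omega
  · rw [C.e_zero, ← C.sq_eq hx, ← pow_two, ← h, pow_orderOf_eq_one]

theorem orderOf_invol {x : ℕ} (hx : x < 64) (h0 : x ≠ 0) (h : tm p x x = 0) :
    orderOf (C.e x) = 2 := by
  refine orderOf_eq_prime (by rw [pow_two, C.sq_eq hx, h, C.e_zero]) fun e => h0 ?_
  exact C.e_inj x hx 0 (by omega) (e.trans C.e_zero.symm)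

theorem z_order : orderOf (C.e 16) = 2 := by
  have h := allB_spec chk_z p C.p_lt
  simp only [Bool.and_eq_true] at h
  exact C.orderOf_invol (by omega) (by omega) (Nat.eq_of_beq_eq_true h.1.1.1.1)

theorem e_one_z : C.e 1 * C.e 16 = C.e 17 := by
  have h := allB_spec chk_z p C.p_lt
  simp only [Bool.and_eq_true] at h
  rw [← C.e_mul 1 (by omega) 16 (by omega), Nat.eq_of_beq_eq_true h.1.2]

/-- Conjugation inside `P`, in codes. -/
theorem conj_code {x y w : ℕ} (hx : x < 64) (hy : y < 64) (hw : w < 64)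
    (h : tm p y x = tm p w y) : C.e y * C.e x * (C.e y)⁻¹ = C.e w := by
  rw [← C.e_mul y hy x hx, h, C.e_mul w hw y hy, mul_inv_cancel_right]

end Co

/-- The hypotheses used for fusion. -/
structure Ctx (P : Sylow 2 G) (p : ℕ) where
  /-- The coordinates. -/
  co : Co (P : Subgroup G) p
  noTwo : ∀ N : Subgroup G, N.index ≠ 2
  fused : ∃ g : G, g * co.e 16 * g⁻¹ ∈ (P : Subgroup G) ∧ g * co.e 16 * g⁻¹ ≠ co.e 16

theorem noTwo_of_simple [IsSimpleGroup G] (hG : 2 < Nat.card G) (N : Subgroup G) : N.index ≠ 2 := by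
  intro hN
  rcases (Subgroup.normal_of_index_eq_two hN).eq_bot_or_eq_top with e | e
  · rw [e, index_bot] at hN; omega
  · rw [e, index_top] at hN; omega

/-- No involution of a non-abelian simple group is isolated. -/
theorem exists_fused [Finite G] [IsSimpleGroup G] (hna : ¬ IsMulCommutative G) (P : Sylow 2 G) (z : G)
    (hz : orderOf z = 2) (hzP : z ∈ (P : Subgroup G)) :
    ∃ g : G, g * z * g⁻¹ ∈ (P : Subgroup G) ∧ g * z * g⁻¹ ≠ z := by
  by_contra hno
  obtain ⟨N, hNn, hNodd, hN⟩ := S0215.result P z hz hzP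
    fun g hg => by by_contra hne; exact hno ⟨g, hg, hne⟩
  rcases hNn.eq_bot_or_eq_top with e | e
  · have hzc : z ∈ center G := mem_center_iff.2 fun g => by
      have h1 := hN g
      rw [e, mem_bot, mul_inv_eq_one, mul_inv_eq_iff_eq_mul] at h1
      exact h1.symm
    have hct := (center G).normal_of_characteristic.eq_bot_or_eq_top.resolve_left fun e' => by
      rw [e', mem_bot] at hzc
      rw [hzc, orderOf_one] at hz
      omega
    exact hna ⟨⟨fun a b => Subgroup.mem_center_iff.1 (hct ▸ mem_top b) a⟩⟩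
  · rw [e, card_top] at hNodd
    have h2 : 2 ∣ Nat.card G := hz ▸ orderOf_dvd_natCard z
    exact Nat.not_even_iff_odd.2 hNodd (even_iff_two_dvd.2 h2)

/-- The set-up from the hypotheses. -/
theorem exists_ctx [Finite G] [IsSimpleGroup G] (hna : ¬ IsMulCommutative G) (P : Sylow 2 G)
    (hP : Nat.card (P : Subgroup G) = 64) {f : G} (hfP : f ∈ (P : Subgroup G)) (hf : orderOf f = 8)
    (hself : ∀ x ∈ (P : Subgroup G), x * f = f * x → x ∈ Subgroup.zpowers f)
    (hodd : ∀ k ∈ ({3, 5, 7} : Set ℕ), ∃ x ∈ (P : Subgroup G), x * f * x⁻¹ = f ^ k) :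
    ∃ p, Nonempty (Ctx P p) := by
  obtain ⟨p, C, -⟩ := exists_co hP hfP hf hself hodd
  have hG : 2 < Nat.card G := by
    have := Subgroup.card_le_card_group (P : Subgroup G)
    omega
  exact ⟨p, ⟨⟨C, noTwo_of_simple hG, exists_fused hna P _ C.z_order (C.mem (by omega))⟩⟩⟩

end Cfsg.Agent.Lib.M12Sylow18
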