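import Cfsg.Agent.Lib.M12Sylow18.Classes

/-!
# The standard situation
-/

set_option autoImplicit false
set_option linter.style.haveILetI false

namespace Cfsg.Agent.Lib.M12Sylow18

open Cfsg.Agent.Lib.M12Sylow18.Mod
open Subgroup

variable {G : Type*} [Group G]

/-- The fusion of the Sylow subgroup of `M₁₂`. -/
structure Std (P : Sylow 2 G) where
  /-- The coordinates. -/
  co : Co (P : Subgroup G) 0
  zc : ∀ x < 64, x ∈ zset → IsConj (co.e 16) (co.e x)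
  tc : ∀ x < 64, x ∈ tset → ¬ IsConj (co.e 16) (co.e x)
  move : ∃ m, co.NB m ∧ m * co.e 1 * m⁻¹ = co.e 16
  fuse : ∃ g, co.NB g ∧ g * co.e 2 * g⁻¹ = co.e 32
  swap : ∃ g, g * co.e 16 = co.e 16 * g ∧ g * co.e 32 * g⁻¹ = co.e 1

theorem chk_swap : ((anyB 64 fun a => com 0 a 32 && Nat.beq (tm 0 a a) 16) &&
    Nat.beq (tm 0 4 17) (tm 0 1 4) && com 0 4 16 && inL zset 32) = true := by decide +kernel

variable [Finite G] {P : Sylow 2 G}

/-- The standard situation is attained. -/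
theorem Ctx.exists_std [IsSimpleGroup G] (K₀ : Ctx P 0)
    (htwo : ∃ s t : G, orderOf s = 2 ∧ orderOf t = 2 ∧ ¬ IsConj s t) : Nonempty (Std P) := by
  haveI : Fact (Nat.Prime 2) := ⟨Nat.prime_two⟩
  obtain ⟨K, hN⟩ := K₀.exists_normed
  have hcl := fun x (hx : x < 64) => K.classes hN htwo hx
  obtain ⟨m, hNB, hm, -⟩ := K.exists_move
  have h := chk_swap
  simp only [Bool.and_eq_true, Nat.beq_eq, inL_iff] at h
  obtain ⟨⟨⟨hroot, hf17⟩, hf16⟩, h32⟩ := h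
  obtain ⟨a, ha, hac⟩ := anyB_spec hroot
  simp only [Bool.and_eq_true, Nat.beq_eq] at hac
  obtain ⟨g, hg⟩ := isConj_iff.1 ((hcl 32 (by omega)).1 h32)
  obtain ⟨m', hm', hmS⟩ := exists_into P K.co.z_comm hg
    ((P : Subgroup G) ⊓ centralizer ({K.co.e 32} : Set G)) (P.2.to_le inf_le_left) inf_le_right
  obtain ⟨-, hzm⟩ := K.z_image (m := m') (by omega) ha (by omega) hm'
    (fun g h1 h2 => hmS g ⟨h1, mem_centralizer_singleton_iff.2 h2⟩) hac.1 hac.2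
  have e17 : K.co.e 4 * K.co.e 17 * (K.co.e 4)⁻¹ = K.co.e 1 :=
    K.co.conj_code (by omega) (by omega) (by omega) hf17
  obtain ⟨m₁, hm₁NB, hm₁⟩ : ∃ m₁, K.co.NB m₁ ∧ m₁ * (m' * K.co.e 16 * m'⁻¹) * m₁⁻¹ = K.co.e 16 := by
    rcases hzm with e | e
    · exact ⟨m, hNB, by rw [e, hm]⟩
    · exact ⟨m * K.co.e 4, Co.NB.mul K.co hNB (K.co.nb_of_mem (K.co.mem (by omega))),
        by rw [e, ← conj_comp, e17, hm]⟩
  set g₁ := m₁ * m' with hg₁
  have hg₁z : g₁ * K.co.e 16 = K.co.e 16 * g₁ := by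
    rw [← mul_inv_eq_iff_eq_mul, hg₁, ← conj_comp, hm₁]
  obtain ⟨w, hw, hwe⟩ := hm₁NB 16 (by simp [clB])
  have hwe' : g₁ * K.co.e 32 * g₁⁻¹ = K.co.e w := by rw [hg₁, ← conj_comp, hm', hwe]
  refine ⟨⟨K.co, fun x hx => (hcl x hx).1, fun x hx => (hcl x hx).2, ⟨m, hNB, hm⟩, hN, ?_⟩⟩
  fin_cases hw
  · exact ⟨g₁, hg₁z, hwe'⟩
  · exfalso
    have h2 : g₁ * K.co.e 32 * g₁⁻¹ = g₁ * K.co.e 16 * g₁⁻¹ := by rw [hwe', conj_fix hg₁z]
    have := K.co.e_inj 32 (by omega) 16 (by omega) (mul_left_cancel (mul_right_cancel h2))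
    omega
  · refine ⟨K.co.e 4 * g₁, ?_, by rw [← conj_comp, hwe', e17]⟩
    rw [mul_assoc, hg₁z, ← mul_assoc, K.co.z_comm _ (K.co.mem (by omega)), mul_assoc]

namespace Std

variable (S : Std P)

omit [Finite G] in
/-- A conjugate of `z` in `P` is in `zset`. -/
theorem zcode {x : ℕ} (hx : x < 64) (h : IsConj (S.co.e 16) (S.co.e x)) : x ∈ zset := by
  have hord : orderOf (S.co.e x) = 2 := by
    obtain ⟨a, ha⟩ := isConj_iff.1 h
    rw [← ha, order_conj, S.co.z_order]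
  obtain ⟨h0, hxx⟩ := S.co.invol_code hx hord
  have hi := allB_spec chk_inv x hx
  simp only [isInv_iff.2 ⟨hxx, h0⟩, Bool.not_true, Bool.false_or, Bool.or_eq_true, inL_iff] at hi
  exact hi.resolve_right fun ht => S.tc x hx ht h

omit [Finite G] in
/-- Conjugation preserves membership of `zset`. -/
theorem zset_conj {g : G} {x y : ℕ} (hx : x < 64) (hy : y < 64)
    (h : g * S.co.e x * g⁻¹ = S.co.e y) : x ∈ zset ↔ y ∈ zset :=
  ⟨fun hm => S.zcode hy ((S.zc x hx hm).trans (isConj_iff.2 ⟨g, h⟩)),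
    fun hm => S.zcode hx ((S.zc y hy hm).trans (isConj_iff.2 ⟨g, h⟩).symm)⟩

end Std

end Cfsg.Agent.Lib.M12Sylow18
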